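import Cfsg.Agent.Lib.Spor.CoTOctad.Coord

/-!
Groups of Conway type: the action on the coordinates of the elements over the partners and over the elementary
transvections of the stabiliser of the subspace.
-/

set_option autoImplicit false
set_option maxRecDepth 100000
set_option linter.unusedSectionVars false

namespace Cfsg.Agent.Spor.CoT.Octad

/-- image of a line element under an elementary transvection, up to the central involution -/
def imgW (k j : Fin 4) (l : Fin 6) : ℕ :=
  2 ^ (l.val + 5) ^^^ (if (pr l).1 = j then (if (pr l).2 = k then 2 ^ (k.val + 1) else 2 ^ ((ix (pr l).2 k).val + 5))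
    else if (pr l).2 = j then (if (pr l).1 = k then 2 ^ (k.val + 1) else 2 ^ ((ix (pr l).1 k).val + 5)) else 0)

/-- whether the bit at the central involution is undetermined -/
def free (k : Fin 4) (l : Fin 6) : Bool := decide ((pr l).1 ≠ k ∧ (pr l).2 ≠ k)

/-- image of a line element under a partner -/
def imgP (i : Fin 4) (l : Fin 6) : ℕ :=
  2 ^ (l.val + 5) ^^^ (if (pr l).1 = i then 2 ^ ((pr l).2.val + 1) ^^^ 1
    else if (pr l).2 = i then 2 ^ ((pr l).1.val + 1) ^^^ 1 else 0)

theorem ix_pr : ∀ l : Fin 6, ix (pr l).1 (pr l).2 = l ∧ ix (pr l).2 (pr l).1 = l := by decide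

theorem pol_eU_fU (a b : Fin 4) : pol (eU a) (fU b) = if a = b then 1 else 0 := (eU_facts.2.1 a b).2.2.1

theorem pol_fU_eU (a b : Fin 4) : pol (fU b) (eU a) = if a = b then 1 else 0 := by
  rw [pol_comm', pol_eU_fU]

theorem fU_ne : ∀ i : Fin 4, fU i ≠ 0 := by decide +kernel

theorem ne_eU_fU : ∀ i j : Fin 4, eU i ≠ fU j := by decide +kernel

universe u

variable {G : Type u} [Group G] [Finite G] {z : G} {Q : Subgroup G} {F : Frame z Q} {x0 : G}

/-- elements over the partners -/
structure Parts (F : Frame z Q) where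
  p : Fin 4 → G
  sing : ∀ i, Sing F (p i)
  vp : ∀ i, F.vec (p i) = fU i

theorem exists_parts (F : Frame z Q) : Nonempty (Parts F) := by
  choose p hp pv using fun i => exists_sing F (fU_ne i) (eU_facts.1 i).2.2.2
  exact ⟨⟨p, hp, pv⟩⟩

theorem Sing.mul_z (h : Hyp z Q) {y : G} (hy : Sing F y) : Sing F (y * z) :=
  ⟨mul_mem hy.mem (zQ h), by rw [vec_mul_z F h hy.mem]; exact hy.ne, by rw [vec_mul_z F h hy.mem]; exact hy.q⟩

/-- membership of the section of two different points -/
theorem two_points (h : Hyp z Q) (B : Base F x0) {x y : G} (hx : Sing F x) (hy : Sing F y)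
    (hne : F.vec x ≠ F.vec y) {d : G} (hd : d ∈ Q) (dx : InQ z Q x d) (dy : InQ z Q y d) : d = 1 ∨ d = z := by
  refine (F.vec_zero d hd).1 ?_
  rcases sect_vec F h B hx hd dx with e | e
  · exact e
  rcases sect_vec F h B hy hd dy with e' | e'
  · exact e'
  · exact absurd (e.symm.trans e') hne

theorem z_cases {d w w' : G} (e : w' = w * d) (hd : d = 1 ∨ d = z) : w' = w ∨ w' = w * z := by
  rcases hd with rfl | rfl
  · exact Or.inl (e.trans (mul_one w))
  · exact Or.inr e

/-- conjugation is determined by the images of the generators -/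
def ev (im : Fin 11 → ℕ) (n : ℕ) : ℕ :=
  (List.finRange 11).foldr (fun k r => (bif Nat.testBit n k.val then im k else 0) ^^^ r) 0

variable (P : Pts F)

theorem Pts.conj_psi (h : Hyp z Q) (B : Base F x0) (hG : Good F) {c : G} {im : Fin 11 → ℕ}
    (hc : ∀ k, c * P.gen k * c⁻¹ = P.psi (im k)) (n : ℕ) : c * P.psi n * c⁻¹ = P.psi (ev im n) := by
  have key : ∀ l : List (Fin 11), c * (l.map fun k => bif Nat.testBit n k.val then P.gen k else 1).prod * c⁻¹ =
      P.psi (l.foldr (fun k r => (bif Nat.testBit n k.val then im k else 0) ^^^ r) 0) := by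
    intro l
    induction l with
    | nil => simp [P.psi_zero]
    | cons k l ih =>
      rw [List.map_cons, List.prod_cons, List.foldr_cons, P.psi_mul h B hG, ← conj_mul, ih]
      congr 1
      cases Nat.testBit n k.val
      · simp [P.psi_zero]
      · exact hc k
  exact key _

/-- the element over the line through two points -/
def Pts.line (a b : Fin 4) : Subgroup.centralizer ({z} : Set G) := P.w (ix a b)

theorem Pts.line_spec {a b : Fin 4} (hab : a ≠ b) :
    InQ z Q (P.x a) (P.line a b) ∧ InQ z Q (P.x b) (P.line a b) ∧ F.π (P.line a b) = Tg (eU a) (eU b) := by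
  obtain ⟨h1, h2, -, -⟩ := eU_facts
  have hπ : F.π (P.line a b) = Tg (eU (pr (ix a b)).1) (eU (pr (ix a b)).2) := P.wπ (ix a b)
  have wl : InQ z Q (P.x (pr (ix a b)).1) (P.line a b) := P.wl _
  have wr : InQ z Q (P.x (pr (ix a b)).2) (P.line a b) := P.wr _
  rcases ix_spec a b hab with ⟨e1, e2⟩ | ⟨e1, e2⟩ <;> rw [e1] at hπ wl <;> rw [e2] at hπ wr
  · exact ⟨wl, wr, hπ⟩
  · exact ⟨wr, wl, hπ.trans (Tg_symm (h1 _).1 (h1 _).1 (h1 _).2.1 (h1 _).2.1 (h2 _ _).1)⟩

theorem Pts.line_psi (a b : Fin 4) : P.psi (2 ^ ((ix a b).val + 5)) = (P.line a b : G) := P.psi_w _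

variable (R : Parts F)

theorem Pts.partner_line (h : Hyp z Q) (B : Base F x0) {a b : Fin 4} (hab : a ≠ b) :
    R.p a * (P.line a b : G) * (R.p a)⁻¹ = P.x b * z * (P.line a b : G) := by
  obtain ⟨h1, h2, -, -⟩ := eU_facts
  obtain ⟨-, wr, hπ⟩ := P.line_spec hab
  have := flip F h B (P.sing b) wr (R.sing a).mem (by rw [P.vx, R.vp, pol_eU_fU, if_neg hab.symm]) (by
    rw [R.vp, P.vx, hπ, Tg_act (h1 a).1 (h1 a).2.1 (h2 a b).1, tV, pol_fU_eU, pol_fU_eU, if_neg hab.symm,
      if_pos rfl, (h1 b).2.1]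
    simp only [zero_smul, one_smul, add_zero])
  rw [this]; group

theorem Pts.partner_other (h : Hyp z Q) (B : Base F x0) {a b i : Fin 4} (hab : a ≠ b) (hia : i ≠ a) (hib : i ≠ b) :
    R.p i * (P.line a b : G) * (R.p i)⁻¹ = P.line a b := by
  obtain ⟨h1, h2, -, -⟩ := eU_facts
  obtain ⟨wl, -, hπ⟩ := P.line_spec hab
  have := comm_fix F h B (P.sing a) wl (R.sing i).mem (by rw [P.vx, R.vp, pol_eU_fU, if_neg hia.symm]) (by
    rw [R.vp, hπ, Tg_act (h1 a).1 (h1 a).2.1 (h2 a b).1, tV, pol_fU_eU, pol_fU_eU, if_neg hia.symm,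
      if_neg hib.symm, zero_smul, zero_smul, add_zero, add_zero])
  rw [this.eq, mul_inv_cancel_right]

theorem Pts.partner_x (h : Hyp z Q) (i j : Fin 4) :
    R.p i * P.x j * (R.p i)⁻¹ = if i = j then P.x j * z else P.x j := by
  by_cases hij : i = j
  · rw [if_pos hij]
    subst hij
    rcases F.comm_or (P.x i) (P.sing i).mem (R.p i) (R.sing i).mem with e | e
    · exfalso
      have := (F.comm_iff (P.x i) (P.sing i).mem (R.p i) (R.sing i).mem).1 e.symm
      rw [P.vx, R.vp, pol_eU_fU, if_pos rfl] at this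
      exact one_ne_zero this
    · rw [e, mul_assoc, mul_assoc, ← (Qz h (inv_mem (R.sing i).mem)).eq, mul_inv_cancel_left]
  · rw [if_neg hij]
    have := (F.comm_iff (R.p i) (R.sing i).mem (P.x j) (P.sing j).mem).2
      (by rw [R.vp, P.vx, pol_fU_eU, if_neg (fun e => hij e.symm)])
    rw [this.eq, mul_inv_cancel_right]

/-- images of the generators under a partner -/
def imP (i : Fin 4) (k : Fin 11) : ℕ :=
  if k.val = 0 then 1 else if h : k.val < 5 then (if i.val + 1 = k.val then 2 ^ k.val ^^^ 1 else 2 ^ k.val)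
  else imgP i ⟨k.val - 5, by omega⟩

theorem Pts.partner_gen (h : Hyp z Q) (B : Base F x0) (hG : Good F) (i : Fin 4) (k : Fin 11) :
    R.p i * P.gen k * (R.p i)⁻¹ = P.psi (imP i k) := by
  obtain ⟨kv, hk⟩ := k
  unfold imP Pts.gen
  split_ifs with h0 h5 hi
  · rw [(Qz h (R.sing i).mem).eq, mul_inv_cancel_right, P.psi_z]
  · simp only at h0 h5
    obtain ⟨j, rfl⟩ : ∃ j : Fin 4, kv = j.val + 1 := ⟨⟨kv - 1, by omega⟩, by simp; omega⟩
    rw [P.psi_mul h B hG, P.psi_z, P.psi_x, show (⟨(⟨j.val + 1, hk⟩ : Fin 11).val - 1, _⟩ : Fin 4) = j from Fin.ext (by simp),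
      P.partner_x R h, if_pos (Fin.ext (by simp only at hi; omega))]
  · simp only at h0 h5
    obtain ⟨j, rfl⟩ : ∃ j : Fin 4, kv = j.val + 1 := ⟨⟨kv - 1, by omega⟩, by simp; omega⟩
    rw [P.psi_x, show (⟨(⟨j.val + 1, hk⟩ : Fin 11).val - 1, _⟩ : Fin 4) = j from Fin.ext (by simp),
      P.partner_x R h, if_neg (fun e => hi (by rw [e]))]
  · set l : Fin 6 := ⟨kv - 5, by omega⟩
    show R.p i * (P.w l : G) * (R.p i)⁻¹ = P.psi (imgP i l)
    have hne := pr_facts.1 l
    have hl := ix_pr l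
    rw [imgP, P.psi_mul h B hG, P.psi_w]
    have hz : ∀ b : Fin 4, P.x b * z * (P.w l : G) = (P.w l : G) * (P.x b * z) := fun b =>
      (((E_central F h (P.x_E b) (P.w_A h B l)).mul_left (E_central F h (z_E F h) (P.w_A h B l)))).eq
    split_ifs with e1 e2
    · have := P.partner_line R h B hne
      rw [Pts.line, hl.1, e1] at this
      rw [this, hz, P.psi_mul h B hG, P.psi_x, P.psi_z]
    · have := P.partner_line R h B hne.symm
      rw [Pts.line, hl.2, e2] at this
      rw [this, hz, P.psi_mul h B hG, P.psi_x, P.psi_z]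
    · have := P.partner_other R h B hne (Ne.symm e1) (Ne.symm e2)
      rw [Pts.line, hl.1] at this
      rw [this, P.psi_zero, mul_one]

/-- an element over an elementary transvection -/
theorem exists_root (h : Hyp z Q) (B : Base F x0) {k j : Fin 4} (hkj : k ≠ j) :
    ∃ n : Subgroup.centralizer ({z} : Set G), InQ z Q (P.x k) n ∧ InQ z Q (R.p j * z) n ∧
      F.π n = Tg (eU k) (fU j) := by
  have hv : F.vec (R.p j * z) = fU j := by rw [vec_mul_z F h (R.sing j).mem, R.vp]
  obtain ⟨n, n1, n2, n3⟩ := exists_pair F h B (P.sing k) ((R.sing j).mul_z h)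
    (by rw [P.vx, hv]; exact ne_eU_fU k j) (by rw [P.vx, hv, pol_eU_fU, if_neg hkj])
  exact ⟨n, n1, n2, by rw [n3, P.vx, hv]⟩

variable {k j : Fin 4} {n : Subgroup.centralizer ({z} : Set G)}

theorem root_act (hkj : k ≠ j) (v : V) : Tg (eU k) (fU j) • v = tV (eU k) (fU j) v :=
  Tg_act (eU_facts.1 k).1 (eU_facts.1 k).2.1 (by rw [pol_eU_fU, if_neg hkj]) v

theorem root_eU (hkj : k ≠ j) (a : Fin 4) :
    Tg (eU k) (fU j) • eU a = eU a + (if a = j then eU k else 0) := by
  rw [root_act hkj, tV, pol_eU_fU, (eU_facts.2.1 a k).1, zero_smul, add_zero]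
  split_ifs
  · rw [one_smul]
  · rw [zero_smul]

theorem root_pres (hkj : k ≠ j) {v : V} (hv : InU v) : InU (Tg (eU k) (fU j) • v) := by
  rw [root_act hkj, tV, pol_U hv (eU_facts.1 k).2.2.1, zero_smul, add_zero]
  refine InU_add hv ?_
  rcases zm2 (pol v (fU j)) with e | e <;> rw [e]
  · rw [zero_smul]; exact InU_zero
  · rw [one_smul]; exact (eU_facts.1 k).2.2.1

theorem Pts.root_x (h : Hyp z Q) (B : Base F x0) (hkj : k ≠ j) (hn : InQ z Q (P.x k) n)
    (hπ : F.π n = Tg (eU k) (fU j)) (a : Fin 4) :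
    (n : G) * P.x a * (n : G)⁻¹ = if a = j then P.x k * z * P.x a else P.x a := by
  have hp : pol (F.vec (P.x k)) (F.vec (P.x a)) = 0 := by rw [P.vx, P.vx]; exact (eU_facts.2.1 k a).1
  split_ifs with ha
  · have := flip F h B (P.sing k) hn (P.sing a).mem hp (by rw [hπ, P.vx, P.vx, root_eU hkj, if_pos ha])
    have hsq : P.x k * z * (P.x k * z) = 1 := ((P.sing k).mul_z h).sq F
    calc (n : G) * P.x a * (n : G)⁻¹ = P.x k * z * (P.x k * z * ((n : G) * P.x a)) * (n : G)⁻¹ := by
          rw [← mul_assoc (P.x k * z), hsq, one_mul]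
      _ = _ := by rw [← this]; group
  · have := comm_fix F h B (P.sing k) hn (P.sing a).mem hp (by rw [hπ, P.vx, root_eU hkj, if_neg ha, add_zero])
    rw [← this.eq, mul_inv_cancel_right]

theorem Pts.root_line (h : Hyp z Q) (B : Base F x0) (hkj : k ≠ j) (hn : InQ z Q (P.x k) n)
    (hπ : F.π n = Tg (eU k) (fU j)) {a b : Fin 4} (hab : a ≠ b) (haj : a ≠ j) :
    (n : G) * P.line a b * (n : G)⁻¹ =
      (if b = j then (if a = k then P.x k * P.line a b else (P.line a b : G) * P.line a k) else (P.line a b : G)) ∨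
    (a ≠ k ∧ b ≠ k ∧ (n : G) * P.line a b * (n : G)⁻¹ =
      (if b = j then (P.line a b : G) * P.line a k else (P.line a b : G)) * z) := by
  obtain ⟨h1, h2, -, -⟩ := eU_facts
  obtain ⟨wl, wr, hw⟩ := P.line_spec hab
  have pa : ∀ a, pol (F.vec (P.x k)) (eU a) = 0 := fun a => by rw [P.vx]; exact (h2 k a).1
  have pf : pol (F.vec (P.x k)) (fU j) = 0 := by rw [P.vx, pol_eU_fU, if_neg hkj]
  have hπ' : F.π n = Tg (F.vec (P.x k)) (fU j) := by rw [hπ, P.vx]
  by_cases hk : a = k ∨ b = k
  · left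
    obtain ⟨c, hc, hwc, hwπ, hcj⟩ : ∃ c, (c = b ∧ a = k ∨ c = a ∧ b = k) ∧ InQ z Q (P.x k) (P.line a b) ∧
        F.π (P.line a b) = Tg (F.vec (P.x k)) (eU c) ∧ (b = j → a = k ∧ c = j) := by
      rcases hk with e | e
      · exact ⟨b, Or.inl ⟨rfl, e⟩, e ▸ wl, by rw [hw, P.vx, e], fun hb => ⟨e, hb⟩⟩
      · exact ⟨a, Or.inr ⟨rfl, e⟩, e ▸ wr, by
          rw [hw, P.vx, e, Tg_symm (h1 _).1 (h1 _).1 (h1 _).2.1 (h1 _).2.1 (h2 _ _).1],
          fun hb => absurd (e.symm.trans hb) hkj⟩
    have k1 := comm_over F h B (P.sing k) hn hwc pf (pa c) hπ' hwπ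
    rw [pol_fU_eU] at k1
    by_cases hb : b = j
    · obtain ⟨ea, ec⟩ := hcj hb
      rw [if_pos ec, p2_one] at k1
      rw [if_pos hb, if_pos ea, k1]; group
    · have ec : c ≠ j := by
        rcases hc with ⟨rfl, -⟩ | ⟨rfl, -⟩
        exacts [hb, haj]
      rw [if_neg ec, p2_zero, one_mul] at k1
      rw [if_neg hb, k1, mul_inv_cancel_right]
  push Not at hk
  obtain ⟨hak, hbk⟩ := hk
  have hna : (n : G) * P.x a * (n : G)⁻¹ = P.x a := by rw [P.root_x h B hkj hn hπ, if_neg haj]
  set v : Subgroup.centralizer ({z} : Set G) := n * P.line a b * n⁻¹ with hv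
  have va : InQ z Q (P.x a) v := by
    have := wl.conj (n : G)
    rwa [hna] at this
  have hπv : F.π v = Tg (eU a) (eU b + if b = j then eU k else 0) := by
    rw [hv, map_mul, map_mul, map_inv, hπ, hw, Tg_conj (h1 a).1 (h1 a).2.1 (h2 a b).1, root_eU hkj, root_eU hkj,
      if_neg haj, add_zero]
  by_cases hb : b = j
  · obtain ⟨ul, -, hu⟩ := P.line_spec hak
    rw [if_pos hb] at hπv
    set w' : Subgroup.centralizer ({z} : Set G) := P.line a b * P.line a k with hw'
    have hπw : F.π w' = F.π v := by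
      rw [hw', map_mul, hw, hu, hπv, Tg_add (h1 a).1 (h1 a).2.1 (h2 a b).1 (h2 a k).1]
    have hdQ : (w' : G)⁻¹ * v ∈ Q := (F.π_ker (w'⁻¹ * v)).1 (by rw [map_mul, map_inv, hπw, inv_mul_cancel])
    have hda : InQ z Q (P.x a) ((w' : G)⁻¹ * v) := ((wl.mul h ul).inv).mul h va
    obtain ⟨R⟩ := exists_parts F
    set y := P.x k * z * P.x b with hy
    have hyv : (n : G) * P.x b * (n : G)⁻¹ = y := by rw [P.root_x h B hkj hn hπ, if_pos hb]
    have vy : InQ z Q y v := by
      have := wr.conj (n : G)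
      rwa [hyv] at this
    have yvec : F.vec y = eU b + eU k := by
      rw [hy, F.vec_mul _ (mul_mem (P.sing k).mem (zQ h)) _ (P.sing b).mem, vec_mul_z F h (P.sing k).mem, P.vx,
        P.vx, add_comm]
    have ysing : Sing F y := by
      refine ⟨mul_mem (mul_mem (P.sing k).mem (zQ h)) (P.sing b).mem, ?_, ?_⟩ <;> rw [yvec]
      · intro e
        exact hbk ((h2 b k).2.2.2 (by rw [eq_neg_of_add_eq_zero_left e, ZModModule.neg_eq_self]))
      · rw [qm_add, (h1 b).2.1, (h1 k).2.1, (h2 b k).1, add_zero, add_zero]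
    have pv := flip F h B ysing vy (R.sing a).mem (by
        rw [yvec, R.vp, pol_add_left, pol_eU_fU, pol_eU_fU, if_neg hab.symm, if_neg hak.symm, add_zero]) (by
        rw [R.vp, yvec, hπv, Tg_act (h1 a).1 (h1 a).2.1 (by rw [pol_add_right, (h2 a b).1, (h2 a k).1, add_zero]),
          tV, pol_add_right, pol_fU_eU, pol_fU_eU, pol_fU_eU, if_pos rfl, if_neg hab.symm, if_neg hak.symm, qm_add,
          (h1 b).2.1, (h1 k).2.1, (h2 b k).1]
        simp only [add_zero, zero_smul, one_smul, zero_add])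
    have pw1 := P.partner_line R h B hab
    have pw2 := P.partner_line R h B hak
    rcases sect_sing F h B (P.sing a) hdQ hda with e | e | e | e
    · left; rw [if_pos hb, if_neg hak]
      calc (n : G) * P.line a b * (n : G)⁻¹ = (w' : G) * ((w' : G)⁻¹ * v) := (mul_inv_cancel_left _ _).symm
        _ = _ := by rw [e, mul_one]; rfl
    · right; refine ⟨hak, hbk, ?_⟩
      rw [if_pos hb]
      calc (n : G) * P.line a b * (n : G)⁻¹ = (w' : G) * ((w' : G)⁻¹ * v) := (mul_inv_cancel_left _ _).symm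
        _ = _ := by rw [e]; rfl
    all_goals
      exfalso
      have hzA := z_E F h
      have cxa : ∀ (i : Fin 4) (l : Fin 6), Commute (P.x i) (P.w l : G) := fun i l =>
        E_central F h (P.x_E i) (P.w_A h B l)
      have pw : R.p a * (w' : G) * (R.p a)⁻¹ = P.x b * z * (P.x k * z) * w' := by
        show R.p a * ((P.line a b : G) * P.line a k) * (R.p a)⁻¹ = _
        rw [← conj_mul, pw1, pw2]
        calc P.x b * z * (P.line a b : G) * (P.x k * z * P.line a k) =
            P.x b * z * ((P.line a b : G) * (P.x k * z)) * P.line a k := by group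
          _ = P.x b * z * (P.x k * z * (P.line a b : G)) * P.line a k := by
            rw [show (P.line a b : G) * (P.x k * z) = P.x k * z * (P.line a b : G) from
              (((cxa k _).mul_left (E_central F h hzA (P.w_A h B _))).eq).symm]
          _ = _ := by show _ = _ * ((P.line a b : G) * P.line a k); group
      have pa' : R.p a * ((w' : G)⁻¹ * v) * (R.p a)⁻¹ = (w' : G)⁻¹ * v * z := by
        rw [e]
        first
          | exact (P.partner_x R h a a).trans (if_pos rfl)
          | (rw [← conj_mul, (P.partner_x R h a a).trans (if_pos rfl), (Qz h (R.sing a).mem).eq,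
              mul_inv_cancel_right])
      have cyz : Commute (P.x k) z := Qz h (P.sing k).mem
      have k2 : P.x b * z * (P.x k * z) * (v : G) * z = P.x k * z * P.x b * z * (v : G) := by
        calc _ = P.x b * z * (P.x k * z) * w' * ((w' : G)⁻¹ * v * z) := by group
          _ = R.p a * (v : G) * (R.p a)⁻¹ := by rw [← pw, ← pa', conj_mul, mul_inv_cancel_left]
          _ = _ := by rw [pv, hy]; group
      have e3 : P.x b * z * (P.x k * z) = P.x k * z * P.x b * z := by
        have cb : Commute (P.x b) (P.x k * z) :=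
          (E_central F h (P.x_E b) (E_A F h (P.x_E k))).mul_right (Qz h (P.sing b).mem)
        calc P.x b * z * (P.x k * z) = P.x b * (P.x k * z) * z := by
              rw [mul_assoc, ((Qz h (P.sing k).mem).symm.mul_right (Commute.refl z)).eq]; group
          _ = _ := by rw [cb.eq]
      rw [e3] at k2
      exact z_ne h (mul_eq_left.1 k2)
  · rw [if_neg hb, add_zero, ← hw] at hπv
    have vb : InQ z Q (P.x b) v := by
      have := wr.conj (n : G)
      rwa [P.root_x h B hkj hn hπ, if_neg hb] at this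
    have hdQ : (P.line a b : G)⁻¹ * v ∈ Q :=
      (F.π_ker ((P.line a b)⁻¹ * v)).1 (by rw [map_mul, map_inv, hπv, inv_mul_cancel])
    rcases z_cases (w := (P.line a b : G)) (w' := (v : G)) (d := (P.line a b : G)⁻¹ * v) (by group)
        (two_points h B (P.sing a) (P.sing b) (by rw [P.vx, P.vx]; exact fun e => hab ((h2 a b).2.2.2 e)) hdQ
          (wl.inv.mul h va) (wr.inv.mul h vb)) with e | e
    · left; rw [if_neg hb]; exact e
    · right; exact ⟨hak, hbk, by rw [if_neg hb]; exact e⟩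

/-- images of the generators under a root element with given bits at the central involution -/
def imN (k j : Fin 4) (β : Fin 6 → Bool) (t : Fin 11) : ℕ :=
  if t.val = 0 then 1 else if h : t.val < 5 then (if j.val + 1 = t.val then 2 ^ t.val ^^^ (2 ^ (k.val + 1) ^^^ 1) else 2 ^ t.val)
  else imgW k j ⟨t.val - 5, by omega⟩ ^^^ (bif β ⟨t.val - 5, by omega⟩ then 1 else 0)

theorem Pts.root_gen (h : Hyp z Q) (B : Base F x0) (hG : Good F) (hkj : k ≠ j) (hn : InQ z Q (P.x k) n)
    (hπ : F.π n = Tg (eU k) (fU j)) :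
    ∃ β : Fin 6 → Bool, (∀ l, β l = true → free k l = true) ∧
      ∀ t, (n : G) * P.gen t * (n : G)⁻¹ = P.psi (imN k j β t) := by
  have hcE : ∀ (i : Fin 4) (l : Fin 6), Commute (P.x i) (P.w l : G) := fun i l =>
    E_central F h (P.x_E i) (P.w_A h B l)
  have key : ∀ l, ∃ b : Bool, (b = true → free k l = true) ∧
      (n : G) * P.w l * (n : G)⁻¹ = P.psi (imgW k j l ^^^ (bif b then 1 else 0)) := by
    intro l
    have hne := pr_facts.1 l
    have hl := ix_pr l
    obtain ⟨a, b, hab, haj, hlab, hsw⟩ : ∃ a b, a ≠ b ∧ a ≠ j ∧ P.line a b = P.w l ∧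
        (((pr l).1 = a ∧ (pr l).2 = b) ∨ ((pr l).1 = b ∧ (pr l).2 = a ∧ b = j)) := by
      by_cases e : (pr l).1 = j
      · exact ⟨_, _, hne.symm, fun e' => hne (e.trans e'.symm), by rw [Pts.line, hl.2], Or.inr ⟨rfl, rfl, e⟩⟩
      · exact ⟨_, _, hne, e, by rw [Pts.line, hl.1], Or.inl ⟨rfl, rfl⟩⟩
    have himg : imgW k j l = 2 ^ (l.val + 5) ^^^
        (if b = j then (if a = k then 2 ^ (k.val + 1) else 2 ^ ((ix a k).val + 5)) else 0) := by
      unfold imgW
      rcases hsw with ⟨e1, e2⟩ | ⟨e1, e2, e3⟩ <;> rw [e1, e2]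
      · rw [if_neg haj]
      · rw [if_pos e3, if_pos e3]
    have val : ∀ (c : ℕ), c ≤ 1 → P.psi (imgW k j l ^^^ c) =
        (if b = j then (if a = k then P.x k * P.line a b else (P.line a b : G) * P.line a k)
          else (P.line a b : G)) * P.psi c := by
      intro c _
      rw [P.psi_mul h B hG, himg, P.psi_mul h B hG, P.psi_w, hlab]
      congr 1
      split_ifs
      · rw [P.psi_x]; exact (hcE k l).eq.symm
      · rw [P.line_psi]
      · rw [P.psi_zero, mul_one]
    rcases P.root_line h B hkj hn hπ hab haj with e | ⟨f1, f2, e⟩ <;> rw [hlab] at e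
    · refine ⟨false, nofun, ?_⟩
      rw [cond_false, val 0 zero_le_one, P.psi_zero, mul_one, hlab]; exact e
    · refine ⟨true, fun _ => ?_, ?_⟩
      · rcases hsw with ⟨e1, e2⟩ | ⟨e1, e2, -⟩ <;> simp [free, e1, e2, f1, f2]
      · rw [cond_true, val 1 le_rfl, P.psi_z, if_neg f1, hlab]; exact e
  choose β hβ1 hβ2 using key
  refine ⟨β, hβ1, fun t => ?_⟩
  obtain ⟨tv, ht⟩ := t
  unfold imN Pts.gen
  split_ifs with h0 h5 hi
  · rw [(mem_C.1 n.2).eq, mul_inv_cancel_right, P.psi_z]
  · simp only at h0 h5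
    obtain ⟨i, rfl⟩ : ∃ i : Fin 4, tv = i.val + 1 := ⟨⟨tv - 1, by omega⟩, by simp; omega⟩
    rw [P.psi_mul h B hG, P.psi_mul h B hG, P.psi_z, P.psi_x, P.psi_x,
      show (⟨(⟨i.val + 1, ht⟩ : Fin 11).val - 1, _⟩ : Fin 4) = i from Fin.ext (by simp), P.root_x h B hkj hn hπ,
      if_pos (Fin.ext (by simp only at hi; omega))]
    exact ((E_central F h (P.x_E i) (E_A F h (P.x_E k))).mul_right (Qz h (P.sing i).mem)).eq.symm
  · simp only at h0 h5
    obtain ⟨i, rfl⟩ : ∃ i : Fin 4, tv = i.val + 1 := ⟨⟨tv - 1, by omega⟩, by simp; omega⟩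
    rw [P.psi_x, show (⟨(⟨i.val + 1, ht⟩ : Fin 11).val - 1, _⟩ : Fin 4) = i from Fin.ext (by simp),
      P.root_x h B hkj hn hπ, if_neg (fun e => hi (congrArg (fun x : Fin 4 => x.val + 1) e.symm))]
  · exact hβ2 _

end Cfsg.Agent.Spor.CoT.Octad
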