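import Cfsg.Agent.Lib.Spor.CoTypeMain

/-!
Groups of Conway type: transvections at any singular point and the elements over them, without coordinates
relative to the point.
-/

set_option autoImplicit false
set_option maxRecDepth 100000
set_option linter.unusedSectionVars false

namespace Cfsg.Agent.Spor.CoT.Octad

/-- the transvection of a singular point with a parameter orthogonal to it -/
def tV (u a v : V) : V := v + pol v a • u + pol v u • (a + qm a • u)

theorem smul_sub' (g : Ga) (v : V) : g • (v + v) = 0 := by rw [ZModModule.add_self, smul_zero']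

theorem tV_map (g : Ga) (u a v : V) : g • tV u a v = tV (g • u) (g • a) (g • v) := by
  simp only [tV, smul_add', smul_smul', smul_pol, smul_qm]

theorem R_tV {b : V} (hb : InP b) (v : V) : R b • v = tV e0 b v := by
  have h0 := R_act hb (split_f0 v)
  have hb' := inP_perp hb
  have he : pol e0 v = v (.inr 0) := pol_e0 v
  have hv : v = (v + v (.inr 0) • f0) + v (.inr 0) • f0 := by
    rw [add_assoc, ZModModule.add_self, add_zero]
  conv_lhs => rw [hv]
  rw [smul_add', h0, smul_smul', R_f0 hb, tV, pol_add_left, pol_smul_left, hb'.2, mul_zero, add_zero,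
    pol_comm' v e0, he]
  simp only [smul_add, add_assoc]
  rcases zm2 (v (.inr 0)) with e | e <;> rw [e] <;> simp [add_assoc, add_left_comm]
  have key : ∀ p q r : V, f0 + (f0 + p) = p := fun p _ _ => by rw [← add_assoc, ZModModule.add_self, zero_add]
  first
    | exact key _ 0 0
    | (abel_nf; simp [two_smul, ZModModule.add_self])

theorem tV_shift (u a v : V) (hu : qm u = 0) (hp : pol u a = 0) (i : ZMod 2) :
    tV u (a + i • u) v = tV u a v := by
  rcases zm2 i with rfl | rfl
  · rw [zero_smul, add_zero]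
  · rw [one_smul, tV, tV, qm_add, hu, add_zero, pol_comm' a u, hp, add_zero, pol_add_right, add_smul]
    rcases zm2 (pol v u) with e | e <;> rw [e]
    · simp
    · rw [one_smul, one_smul, one_smul]
      calc v + (pol v a • u + u) + (a + u + qm a • u) = v + pol v a • u + (a + qm a • u) + (u + u) := by abel
        _ = _ := by rw [ZModModule.add_self, add_zero]

theorem tV_nz (a : V) (v : V) (hp : pol e0 a = 0) : tV e0 (nz a) v = tV e0 a v :=
  tV_shift e0 a v basic.1 hp _

theorem Ga_ext {g h : Ga} (e : ∀ v : V, g • v = h • v) : g = h :=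
  Subtype.ext (Subtype.ext (LinearEquiv.ext e))

theorem exists_T {u a : V} (hu : u ≠ 0) (hq : qm u = 0) (hp : pol u a = 0) :
    ∃ g : Ga, ∀ v, g • v = tV u a v := by
  obtain ⟨c, rfl⟩ := exists_smul hu hq
  have hp' : pol e0 (c⁻¹ • a) = 0 := by rw [← smul_pol c, smul_inv_smul]; exact hp
  refine ⟨c * R (nz (c⁻¹ • a)) * c⁻¹, fun v => ?_⟩
  rw [mul_smul, mul_smul, R_tV (nz_inP hp'), tV_nz _ _ hp', tV_map, smul_inv_smul, smul_inv_smul]

open scoped _root_.Classical in
/-- the transvection as a group element -/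
noncomputable def Tg (u a : V) : Ga :=
  if h : u ≠ 0 ∧ qm u = 0 ∧ pol u a = 0 then Classical.choose (exists_T h.1 h.2.1 h.2.2) else 1

theorem Tg_act {u a : V} (hu : u ≠ 0) (hq : qm u = 0) (hp : pol u a = 0) (v : V) : Tg u a • v = tV u a v := by
  rw [Tg, dif_pos ⟨hu, hq, hp⟩]
  exact Classical.choose_spec (exists_T hu hq hp) v

theorem Tg_conj {u a : V} (hu : u ≠ 0) (hq : qm u = 0) (hp : pol u a = 0) (g : Ga) :
    g * Tg u a * g⁻¹ = Tg (g • u) (g • a) := Ga_ext fun v => by
  have hu' : g • u ≠ 0 := fun e => hu (by rw [← inv_smul_smul g u, e, smul_zero'])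
  rw [mul_smul, mul_smul, Tg_act hu hq hp, tV_map, smul_inv_smul,
    Tg_act hu' (by rw [smul_qm, hq]) (by rw [smul_pol, hp])]

universe u

variable {G : Type u} [Group G] [Finite G] {z : G} {Q : Subgroup G}

/-- an element of the extraspecial subgroup over a singular point -/
structure Sing (F : Frame z Q) (y : G) : Prop where
  mem : y ∈ Q
  ne : F.vec y ≠ 0
  q : qm (F.vec y) = 0

/-- the power with an exponent modulo two -/
def p2 (g : G) (i : ZMod 2) : G := g ^ i.val

theorem p2_zero (g : G) : p2 g 0 = 1 := pow_zero g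

theorem p2_one (g : G) : p2 g 1 = g := pow_one g

theorem p2_conj (g c : G) (i : ZMod 2) : c * p2 g i * c⁻¹ = p2 (c * g * c⁻¹) i := (conj_pow).symm

variable (F : Frame z Q)
include F

theorem Sing.ne1 (h : Hyp z Q) {y : G} (hy : Sing F y) : y ≠ 1 := fun e => hy.ne (by rw [e, vec_one F h])

theorem Sing.nez (h : Hyp z Q) {y : G} (hy : Sing F y) : y ≠ z := fun e =>
  hy.ne ((F.vec_zero y hy.mem).2 (Or.inr e))

theorem Sing.sq {y : G} (hy : Sing F y) : y * y = 1 := (F.sq_iff y hy.mem).2 hy.q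

theorem Sing.conj (h : Hyp z Q) {y : G} (hy : Sing F y) : IsConj z y :=
  core_conj F h hy.mem (hy.sq F) (hy.ne1 F h) (hy.nez F h)

theorem Sing.commute (h : Hyp z Q) {y : G} (hy : Sing F y) : Commute y z := Qz h hy.mem

theorem exists_sing {v : V} (hv : v ≠ 0) (hq : qm v = 0) : ∃ y, Sing F y ∧ F.vec y = v := by
  obtain ⟨y, hy, rfl⟩ := F.vec_surj v
  exact ⟨y, ⟨hy, hv, hq⟩, rfl⟩

variable {x : G}

theorem to_base (h : Hyp z Q) (B : Base F x) {y : G} (hy : Sing F y) :
    ∃ c : Subgroup.centralizer ({z} : Set G),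
      (c : G) * x * (c : G)⁻¹ = y ∧ F.π c • e0 = F.vec y := by
  obtain ⟨g, hg⟩ := exists_smul hy.ne hy.q
  obtain ⟨c, hc, e⟩ := move F h B.mem hy.mem hy.ne (g := g) (by rw [B.vec]; exact hg)
  exact ⟨c, e, by rw [hc, hg]⟩

theorem Sing.mem_z (h : Hyp z Q) (B : Base F x) {y : G} (hy : Sing F y) : InQ z Q y z := by
  obtain ⟨c, e, -⟩ := to_base F h B hy
  have := (base_mem F h B).conj (c : G)
  rwa [e, (mem_C.1 c.2).eq, mul_inv_cancel_right] at this

theorem Sing.mem_self (h : Hyp z Q) {y : G} (hy : Sing F y) : InQ z Q y y := InQ.self h (hy.conj F h)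

theorem back_mem {c m : Subgroup.centralizer ({z} : Set G)} {y : G} (e : (c : G) * x * (c : G)⁻¹ = y)
    (hm : InQ z Q y m) : InQ z Q x (c⁻¹ * m * c : Subgroup.centralizer ({z} : Set G)) := by
  have := hm.conj (c : G)⁻¹
  rwa [← e, show (c : G)⁻¹ * ((c : G) * x * (c : G)⁻¹) * (c : G)⁻¹⁻¹ = x by group,
    show (c : G)⁻¹ * (m : G) * (c : G)⁻¹⁻¹ = (c : G)⁻¹ * m * c by group] at this

theorem sect_sing (h : Hyp z Q) (B : Base F x) {y : G} (hy : Sing F y) {q : G} (hq : q ∈ Q) (hm : InQ z Q y q) :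
    q = 1 ∨ q = z ∨ q = y ∨ q = y * z := by
  obtain ⟨c, e, -⟩ := to_base F h B hy
  have hQ : (c : G)⁻¹ * q * c ∈ Q := by simpa using h.norm (c : G)⁻¹ (mem_C.1 c.2).inv_left q hq
  have key := sect F h B hQ (back_mem F (m := cC (Qz h hq)) e hm)
  have hb : ∀ b, (c : G)⁻¹ * q * c = b → q = (c : G) * b * (c : G)⁻¹ := fun b eb => by rw [← eb]; group
  have hz : (c : G) * z * (c : G)⁻¹ = z := by rw [(mem_C.1 c.2).eq, mul_inv_cancel_right]
  rcases key with k | k | k | k <;> have k' := hb _ k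
  · exact Or.inl (by rw [k']; group)
  · exact Or.inr (Or.inl (k'.trans hz))
  · exact Or.inr (Or.inr (Or.inl (k'.trans e)))
  · exact Or.inr (Or.inr (Or.inr (by rw [k', ← conj_mul, e, hz])))

theorem sect_vec (h : Hyp z Q) (B : Base F x) {y : G} (hy : Sing F y) {q : G} (hq : q ∈ Q) (hm : InQ z Q y q) :
    F.vec q = 0 ∨ F.vec q = F.vec y := by
  rcases sect_sing F h B hy hq hm with rfl | rfl | rfl | rfl
  · exact Or.inl (vec_one F h)
  · exact Or.inl ((F.vec_zero _ hq).2 (Or.inr rfl))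
  · exact Or.inr rfl
  · exact Or.inr (vec_mul_z F h hy.mem)

/-- commuting with the elements of the extraspecial subgroup over orthogonal vectors -/
theorem pairS (h : Hyp z Q) (B : Base F x) {y : G} (hy : Sing F y) {m : Subgroup.centralizer ({z} : Set G)}
    (hm : InQ z Q y m) {q : G} (hq : q ∈ Q) (hv : pol (F.vec y) (F.vec q) = 0) {i : ZMod 2}
    (hi : F.π m • F.vec q = F.vec q + i • F.vec y) : q * m = p2 (y * z) i * ((m : G) * q) := by
  obtain ⟨c, e, ec⟩ := to_base F h B hy
  have hM := Mem.of_inQ F h B (back_mem F e hm)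
  set a := param (F.π (c⁻¹ * m * c) : OG)
  have hQ : (c : G)⁻¹ * q * c ∈ Q := by simpa using h.norm (c : G)⁻¹ (mem_C.1 c.2).inv_left q hq
  have hv' : F.vec ((c : G)⁻¹ * q * c) = (F.π c)⁻¹ • F.vec q := by
    have := F.vec_conj c⁻¹ q hq
    rwa [map_inv, Subgroup.coe_inv, inv_inv] at this
  have hp : pol e0 ((F.π c)⁻¹ • F.vec q) = 0 := by rw [← smul_pol (F.π c), smul_inv_smul, ec]; exact hv
  have key := pairing F h B hM hQ (by rw [hv']; exact hp)
  rw [hv'] at key
  have hact := congrArg (F.π c • ·) (R_act hM.1 hp)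
  beta_reduce at hact
  rw [← hM.2.2, map_mul, map_mul, map_inv, ← mul_smul, ← mul_assoc, ← mul_assoc, mul_inv_cancel, one_mul,
    mul_smul, smul_inv_smul, smul_add', smul_inv_smul, smul_smul', ec, hi] at hact
  have hpi : pol ((F.π c)⁻¹ • F.vec q) a = i := by
    have := add_left_cancel hact
    rcases zm2 i with rfl | rfl <;> rcases zm2 (pol ((F.π c)⁻¹ • F.vec q) a) with e' | e' <;>
      simp only [e', zero_smul, one_smul] at this ⊢
    · exact absurd this.symm hy.ne
    · exact absurd this hy.ne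
  rw [hpi] at key
  have k2 := congrArg (fun g => (c : G) * g * (c : G)⁻¹) key
  simp only [Subgroup.coe_mul, Subgroup.coe_inv] at k2
  rw [show (c : G) * ((c : G)⁻¹ * q * c * ((c : G)⁻¹ * m * c)) * (c : G)⁻¹ = q * m by group] at k2
  rw [k2, ← conj_mul, show (c : G) * ((c : G)⁻¹ * (m : G) * c * ((c : G)⁻¹ * q * c)) * (c : G)⁻¹ = (m : G) * q by group]
  congr 1
  rcases zm2 i with rfl | rfl
  · rw [Iel_00 F, p2_zero]; group
  · rw [Iel_11 F, p2_one, ← conj_mul, e, (mem_C.1 c.2).eq, mul_inv_cancel_right]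

/-- an element over a transvection commutes with what the transvection fixes -/
theorem comm_fix (h : Hyp z Q) (B : Base F x) {y : G} (hy : Sing F y) {m : Subgroup.centralizer ({z} : Set G)}
    (hm : InQ z Q y m) {q : G} (hq : q ∈ Q) (hv : pol (F.vec y) (F.vec q) = 0)
    (hi : F.π m • F.vec q = F.vec q) : Commute q (m : G) := by
  have := pairS F h B hy hm hq hv (i := 0) (by rw [zero_smul, add_zero]; exact hi)
  rwa [p2_zero, one_mul] at this

theorem flip (h : Hyp z Q) (B : Base F x) {y : G} (hy : Sing F y) {m : Subgroup.centralizer ({z} : Set G)}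
    (hm : InQ z Q y m) {q : G} (hq : q ∈ Q) (hv : pol (F.vec y) (F.vec q) = 0)
    (hi : F.π m • F.vec q = F.vec q + F.vec y) : q * m = y * z * ((m : G) * q) := by
  have := pairS F h B hy hm hq hv (i := 1) (by rw [one_smul]; exact hi)
  rwa [p2_one] at this

/-- elements over a given transvection -/
theorem exists_over (h : Hyp z Q) (B : Base F x) {y : G} (hy : Sing F y) {a : V} (hp : pol (F.vec y) a = 0) :
    ∃ m : Subgroup.centralizer ({z} : Set G), InQ z Q y m ∧ F.π m = Tg (F.vec y) a := by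
  obtain ⟨c, e, ec⟩ := to_base F h B hy
  have hp' : pol e0 ((F.π c)⁻¹ • a) = 0 := by rw [← smul_pol (F.π c), smul_inv_smul, ec]; exact hp
  obtain ⟨m, hm, em⟩ := exists_M F h B (nz_inP hp')
  refine ⟨c * m * c⁻¹, ?_, Ga_ext fun v => ?_⟩
  · have := hm.conj (c : G)
    rwa [e] at this
  · rw [map_mul, map_mul, map_inv, em, mul_smul, mul_smul, R_tV (nz_inP hp'), tV_nz _ _ hp', tV_map, ec,
      smul_inv_smul, smul_inv_smul, Tg_act hy.ne hy.q hp]

theorem back_param (h : Hyp z Q) {y : G} (hy : Sing F y) {c m : Subgroup.centralizer ({z} : Set G)}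
    (ec : F.π c • e0 = F.vec y) (e : (c : G) * x * (c : G)⁻¹ = y)
    (hm : InQ z Q y m) {a : V} (hp : pol (F.vec y) a = 0) (hπ : F.π m = Tg (F.vec y) a) :
    Mem F x (nz ((F.π c)⁻¹ • a)) (c⁻¹ * m * c) := by
  have hp' : pol e0 ((F.π c)⁻¹ • a) = 0 := by rw [← smul_pol (F.π c), smul_inv_smul, ec]; exact hp
  refine ⟨nz_inP hp', back_mem F e hm, Ga_ext fun v => ?_⟩
  rw [R_tV (nz_inP hp'), tV_nz _ _ hp', map_mul, map_mul, map_inv, hπ, mul_smul, mul_smul,
    Tg_act hy.ne hy.q hp, ← ec, tV_map, inv_smul_smul, inv_smul_smul]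

theorem sq_over (h : Hyp z Q) (B : Base F x) {y : G} (hy : Sing F y) {m : Subgroup.centralizer ({z} : Set G)}
    (hm : InQ z Q y m) {a : V} (hp : pol (F.vec y) a = 0) (hπ : F.π m = Tg (F.vec y) a) :
    (m : G) * m = p2 y (qm a) := by
  obtain ⟨c, e, ec⟩ := to_base F h B hy
  have hp' : pol e0 ((F.π c)⁻¹ • a) = 0 := by rw [← smul_pol (F.π c), smul_inv_smul, ec]; exact hp
  have := Msq F h B (back_param F h hy ec e hm hp hπ)
  rw [nz_qm hp', smul_qm] at this
  have k := congrArg (fun g => (c : G) * g * (c : G)⁻¹) this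
  simp only [Subgroup.coe_mul, Subgroup.coe_inv] at k
  rw [show (c : G) * ((c : G)⁻¹ * m * c * ((c : G)⁻¹ * m * c)) * (c : G)⁻¹ = (m : G) * m by group] at k
  rw [k, show Iel z x (qm a) 0 = p2 x (qm a) by simp [Iel, p2], p2_conj, e]

theorem comm_over (h : Hyp z Q) (B : Base F x) {y : G} (hy : Sing F y) {m n : Subgroup.centralizer ({z} : Set G)}
    (hm : InQ z Q y m) (hn : InQ z Q y n) {a b : V} (ha : pol (F.vec y) a = 0) (hb : pol (F.vec y) b = 0)
    (hπm : F.π m = Tg (F.vec y) a) (hπn : F.π n = Tg (F.vec y) b) :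
    (m : G) * n = p2 y (pol a b) * ((n : G) * m) := by
  obtain ⟨c, e, ec⟩ := to_base F h B hy
  have hb' : pol e0 ((F.π c)⁻¹ • b) = 0 := by rw [← smul_pol (F.π c), smul_inv_smul, ec]; exact hb
  have ha' : pol e0 ((F.π c)⁻¹ • a) = 0 := by rw [← smul_pol (F.π c), smul_inv_smul, ec]; exact ha
  have k := Mmul F h B (back_param F h hy ec e hm ha hπm) (back_param F h hy ec e hn hb hπn)
  rw [pol_nz (inP_perp (nz_inP ha')).1, nz, pol_add_left, pol_smul_left, hb', mul_zero, add_zero, smul_pol] at k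
  have k' := congrArg (fun g => (c : G) * g * (c : G)⁻¹) k
  simp only [Subgroup.coe_mul, Subgroup.coe_inv] at k'
  rw [show (c : G) * ((c : G)⁻¹ * m * c * ((c : G)⁻¹ * n * c)) * (c : G)⁻¹ = (m : G) * n by group, ← conj_mul,
    show (c : G) * ((c : G)⁻¹ * (n : G) * c * ((c : G)⁻¹ * m * c)) * (c : G)⁻¹ = (n : G) * m by group,
    show Iel z x (pol a b) 0 = p2 x (pol a b) by simp [Iel, p2], p2_conj, e] at k'
  exact k'

end Cfsg.Agent.Spor.CoT.Octad
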