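/-!
Groups of Conway type: words for the stabiliser of the maximal totally singular subspace (generated data, checked
by the kernel where used).
-/

set_option autoImplicit false

namespace Cfsg.Agent.Spor.CoT.Octad

/-- words of the chain -/
def chainW : List (List (List Nat)) := [
  [[], [0, 3], [3], [1, 6], [6], [7, 0, 3], [6, 3], [2, 9], [9], [10, 0, 3], [9, 3], [11, 1, 6], [9, 6], [10, 7, 0, 3], [9, 6, 3]],
  [[], [0], [4, 7], [4, 7, 0], [7], [7, 0], [5, 10], [5, 10, 0], [10], [10, 0], [11, 4, 7], [11, 4, 7, 0], [10, 7], [10, 7, 0]],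
  [[], [1], [4], [4, 1], [8, 11], [8, 11, 1], [8, 11, 4], [8, 11, 4, 1], [11], [11, 1], [11, 4], [11, 4, 1]],
  [[], [2], [5], [5, 2], [8], [8, 2], [8, 5], [8, 5, 2]]]

end Cfsg.Agent.Spor.CoT.Octad
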