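/-!
Groups of Conway type: tables for the orbit of the central involution in the subgroup of order 2048
(generated data, checked by the kernel where used).
-/

set_option autoImplicit false
set_option maxRecDepth 100000

namespace Cfsg.Agent.Spor.CoT.Octad

def clsT0 : List Nat := [4, 0, 0, 0, 0, 0, 0, 0, 0, 0, 0, 0, 0, 0, 0, 0, 1, 1, 1, 1, 2, 2, 2, 2, 2, 2, 2, 2, 2, 2, 2, 2, 1, 1, 2, 2, 1, 1, 2, 2, 2, 2, 2, 2, 2, 2, 2, 2, 1, 1, 2, 2, 2, 2, 1, 1, 2, 2, 2, 2, 2, 2, 2, 2, 1, 1, 2, 2, 2, 2, 2, 2, 1, 1, 2, 2, 2, 2, 2, 2, 1, 1, 2, 2, 2, 2, 2, 2, 2, 2, 1, 1, 2, 2, 2, 2, 1, 1, 2, 2, 2, 2, 2, 2, 2, 2, 2, 2, 1, 1, 2, 2, 1, 1, 2, 2, 2, 2, 2, 2, 2, 2, 2, 2, 2, 2, 1, 1]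

def clsT1 : List Nat := [1, 2, 1, 2, 1, 2, 1, 2, 2, 2, 2, 2, 2, 2, 2, 2, 1, 2, 1, 2, 2, 1, 2, 1, 2, 2, 2, 2, 2, 2, 2, 2, 1, 2, 2, 1, 1, 2, 2, 1, 2, 2, 2, 2, 2, 2, 2, 2, 2, 1, 1, 2, 1, 2, 2, 1, 2, 2, 2, 2, 2, 2, 2, 2, 3, 3, 3, 3, 3, 3, 3, 3, 3, 3, 3, 3, 3, 3, 3, 3, 3, 3, 3, 3, 3, 3, 3, 3, 3, 3, 3, 3, 3, 3, 3, 3, 3, 3, 3, 3, 3, 3, 3, 3, 3, 3, 3, 3, 3, 3, 3, 3, 3, 3, 3, 3, 3, 3, 3, 3, 3, 3, 3, 3, 3, 3, 3, 3]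

def clsT2 : List Nat := [1, 2, 1, 2, 2, 2, 2, 2, 1, 2, 1, 2, 2, 2, 2, 2, 1, 2, 1, 2, 2, 2, 2, 2, 2, 1, 2, 1, 2, 2, 2, 2, 3, 3, 3, 3, 3, 3, 3, 3, 3, 3, 3, 3, 3, 3, 3, 3, 3, 3, 3, 3, 3, 3, 3, 3, 3, 3, 3, 3, 3, 3, 3, 3, 1, 2, 2, 1, 2, 2, 2, 2, 1, 2, 2, 1, 2, 2, 2, 2, 2, 1, 1, 2, 2, 2, 2, 2, 1, 2, 2, 1, 2, 2, 2, 2, 3, 3, 3, 3, 3, 3, 3, 3, 3, 3, 3, 3, 3, 3, 3, 3, 3, 3, 3, 3, 3, 3, 3, 3, 3, 3, 3, 3, 3, 3, 3, 3]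

def clsT3 : List Nat := [1, 2, 1, 2, 2, 2, 2, 2, 2, 2, 2, 2, 1, 2, 1, 2, 1, 2, 1, 2, 2, 2, 2, 2, 2, 2, 2, 2, 2, 1, 2, 1, 3, 3, 3, 3, 3, 3, 3, 3, 3, 3, 3, 3, 3, 3, 3, 3, 3, 3, 3, 3, 3, 3, 3, 3, 3, 3, 3, 3, 3, 3, 3, 3, 3, 3, 3, 3, 3, 3, 3, 3, 3, 3, 3, 3, 3, 3, 3, 3, 3, 3, 3, 3, 3, 3, 3, 3, 3, 3, 3, 3, 3, 3, 3, 3, 1, 2, 2, 1, 2, 2, 2, 2, 2, 2, 2, 2, 1, 2, 2, 1, 2, 1, 1, 2, 2, 2, 2, 2, 2, 2, 2, 2, 1, 2, 2, 1]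

def clsT4 : List Nat := [1, 2, 2, 2, 1, 2, 2, 2, 1, 2, 2, 2, 1, 2, 2, 2, 3, 3, 3, 3, 3, 3, 3, 3, 3, 3, 3, 3, 3, 3, 3, 3, 1, 2, 2, 2, 1, 2, 2, 2, 2, 1, 2, 2, 2, 1, 2, 2, 3, 3, 3, 3, 3, 3, 3, 3, 3, 3, 3, 3, 3, 3, 3, 3, 1, 2, 2, 2, 2, 1, 2, 2, 1, 2, 2, 2, 2, 1, 2, 2, 3, 3, 3, 3, 3, 3, 3, 3, 3, 3, 3, 3, 3, 3, 3, 3, 2, 1, 2, 2, 1, 2, 2, 2, 1, 2, 2, 2, 2, 1, 2, 2, 3, 3, 3, 3, 3, 3, 3, 3, 3, 3, 3, 3, 3, 3, 3, 3]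

def clsT5 : List Nat := [1, 2, 2, 2, 1, 2, 2, 2, 2, 2, 1, 2, 2, 2, 1, 2, 3, 3, 3, 3, 3, 3, 3, 3, 3, 3, 3, 3, 3, 3, 3, 3, 1, 2, 2, 2, 1, 2, 2, 2, 2, 2, 2, 1, 2, 2, 2, 1, 3, 3, 3, 3, 3, 3, 3, 3, 3, 3, 3, 3, 3, 3, 3, 3, 3, 3, 3, 3, 3, 3, 3, 3, 3, 3, 3, 3, 3, 3, 3, 3, 1, 2, 2, 2, 2, 1, 2, 2, 2, 2, 1, 2, 2, 2, 2, 1, 3, 3, 3, 3, 3, 3, 3, 3, 3, 3, 3, 3, 3, 3, 3, 3, 2, 1, 2, 2, 1, 2, 2, 2, 2, 2, 1, 2, 2, 2, 2, 1]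

def clsT6 : List Nat := [1, 2, 2, 2, 2, 2, 1, 2, 1, 2, 2, 2, 2, 2, 1, 2, 3, 3, 3, 3, 3, 3, 3, 3, 3, 3, 3, 3, 3, 3, 3, 3, 3, 3, 3, 3, 3, 3, 3, 3, 3, 3, 3, 3, 3, 3, 3, 3, 1, 2, 2, 2, 2, 2, 1, 2, 2, 1, 2, 2, 2, 2, 2, 1, 1, 2, 2, 2, 2, 2, 2, 1, 1, 2, 2, 2, 2, 2, 2, 1, 3, 3, 3, 3, 3, 3, 3, 3, 3, 3, 3, 3, 3, 3, 3, 3, 3, 3, 3, 3, 3, 3, 3, 3, 3, 3, 3, 3, 3, 3, 3, 3, 2, 1, 2, 2, 2, 2, 1, 2, 1, 2, 2, 2, 2, 2, 2, 1]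

def clsT7 : List Nat := [2, 2, 1, 2, 1, 2, 2, 2, 1, 2, 2, 2, 2, 2, 1, 2, 3, 3, 3, 3, 3, 3, 3, 3, 3, 3, 3, 3, 3, 3, 3, 3, 3, 3, 3, 3, 3, 3, 3, 3, 3, 3, 3, 3, 3, 3, 3, 3, 2, 2, 1, 2, 1, 2, 2, 2, 2, 1, 2, 2, 2, 2, 2, 1, 3, 3, 3, 3, 3, 3, 3, 3, 3, 3, 3, 3, 3, 3, 3, 3, 2, 2, 1, 2, 2, 1, 2, 2, 1, 2, 2, 2, 2, 2, 2, 1, 2, 2, 2, 1, 1, 2, 2, 2, 1, 2, 2, 2, 2, 2, 2, 1, 3, 3, 3, 3, 3, 3, 3, 3, 3, 3, 3, 3, 3, 3, 3, 3]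

/-- table -/
def clsT : List Nat := clsT0 ++ clsT1 ++ clsT2 ++ clsT3 ++ clsT4 ++ clsT5 ++ clsT6 ++ clsT7

def clsW0 : List (List Nat) := [[], [], [7, 4], [7], [10, 5], [10], [7, 4, 11], [7, 10], [13, 6], [13], [7, 4, 14], [7, 13], [10, 5, 15], [10, 13], [7, 4, 11, 14], [7, 10, 13], [], [1], [0], [0, 1], [], [1], [0], [0, 1], [15, 12], [1, 15, 12], [0, 15, 12], [0, 1, 15, 12], [15], [1, 15], [0, 15], [0, 1, 15], [11, 8], [1, 11, 8], [0, 11, 8], [0, 1, 11, 8], [0, 11, 8], [0, 1, 11, 8], [11, 8], [1, 11, 8], [15, 11, 12, 8], [1, 15, 11, 12, 8], [0, 11, 8, 14], [0, 1, 11, 8, 14], [11, 8, 14, 9], [1, 11, 8, 14, 9], [11, 8, 14], [1, 11, 8, 14], [11], [1, 11], [0, 11], [0, 1, 11], [11], [1, 11], [0, 11], [0, 1, 11], [15, 11, 12], [1, 15, 11, 12], [0, 15, 11], [0, 1, 15, 11], [15, 11],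 [1, 15, 11], [15, 11, 9], [1, 15, 11, 9], [14, 9], [1, 14, 9], [14, 8, 9, 11], [1, 14, 8, 9, 11], [14, 9], [1, 14, 9], [14, 8, 9], [1, 14, 8, 9], [0, 14, 9], [0, 1, 14, 9], [11, 8, 15, 12], [1, 11, 8, 15, 12], [0, 14, 9], [0, 1, 14, 9], [14, 15, 9], [1, 14, 15, 9], [14], [1, 14], [0, 11, 15, 12], [0, 1, 11, 15, 12], [14], [1, 14], [14, 8], [1, 14, 8], [11, 15, 12], [1, 11, 15, 12], [0, 14], [0, 1, 14], [14, 15], [1, 14, 15], [0, 14], [0, 1, 14], [11, 8, 15], [1, 11, 8, 15], [0, 11, 8, 15], [0, 1, 11, 8, 15], [11, 14, 9], [1, 11, 14, 9], [11, 14, 8], [1, 11, 14, 8], [0, 11, 14, 9], [0, 1, 11, 14, 9], [0, 11, 14, 8], [0, 1, 11, 14, 8], [0, 11, 8, 15], [0, 1, 11, 8, 15], [11, 8, 15], [1, 11, 8, 15], [11, 14], [1, 11, 14], [0, 11, 15], [0, 1, 11, 15], [11, 14], [1, 11, 14], [14, 8,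 12], [1, 14, 8, 12], [14, 15, 12], [1, 14, 15, 12], [0, 11, 14], [0, 1, 11, 14], [11, 15], [1, 11, 15], [0, 11, 14], [0, 1, 11, 14]]

def clsW1 : List (List Nat) := [[10, 5], [1, 10, 5], [0, 10, 5], [0, 1, 10, 5], [1, 10, 5], [10, 5], [0, 1, 10, 5], [0, 10, 5], [15, 10, 12, 5], [1, 10, 5, 13], [0, 15, 10, 12, 5], [0, 1, 10, 5, 13], [10, 5, 13, 6], [10, 5, 13], [0, 10, 5, 13, 6], [0, 10, 5, 13], [10], [1, 10], [0, 10], [0, 1, 10], [10], [1, 10], [0, 10], [0, 1, 10], [15, 10, 12], [1, 15, 10], [0, 15, 10, 12], [0, 1, 15, 10], [15, 10], [15, 10, 6], [0, 15, 10], [0, 15, 10, 6], [10, 4, 5], [10, 11, 5], [10, 11, 8], [10, 4, 8], [10, 11, 5], [10, 4, 5], [11, 7, 5], [10, 4, 0, 5], [13, 14, 6, 12, 15], [15, 10, 11, 5], [15, 10, 11, 8], [15, 10, 4, 12, 8], [10, 5, 13, 4, 6], [10, 5, 13,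 4], [11, 8, 14, 7], [10, 5, 13, 4, 9], [10, 11], [10, 4], [11, 7], [10, 4, 0], [10, 11], [10, 4], [11, 7], [10, 4, 0], [15, 10, 11], [15, 10, 4, 12], [15, 10, 11, 9], [15, 10, 4, 0], [15, 10, 4, 6], [15, 10, 4], [15, 11, 7], [15, 10, 4, 9], [], [3], [2], [2, 3], [1], [1, 3], [1, 2], [1, 2, 3], [0], [0, 3], [0, 2], [0, 2, 3], [0, 1], [0, 1, 3], [0, 1, 2], [0, 1, 2, 3], [5], [3, 5], [2, 5], [2, 3, 5], [1, 9], [1, 5], [1, 2, 9], [1, 2, 5], [0, 5], [0, 3, 5], [0, 9], [0, 3, 9], [0, 1, 2, 9], [0, 1, 5], [0, 1, 9], [0, 9, 1], [4], [3, 4], [2, 12], [2, 4], [1, 4], [1, 3, 4], [1, 2, 12], [1, 2, 4], [0, 4], [0, 3, 4], [0, 1, 2, 12], [0, 2, 4], [0, 12], [0, 3, 12], [0, 2, 12], [0, 12, 2], [4, 9], [4, 5], [4, 8], [2, 4, 9], [5, 11], [1, 5, 12], [1, 2, 9, 4], [4, 8, 1], [0, 3, 4, 5], [0, 4,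 5], [0, 4, 8], [0, 3, 4, 8], [0, 5, 11], [0, 3, 5, 11], [0, 9, 12], [4, 5, 0]]

def clsW2 : List (List Nat) := [[13, 6], [13, 5, 6, 10], [0, 13, 6], [0, 13, 5, 6, 10], [13, 6], [13, 5, 6], [0, 13, 6], [0, 13, 5, 6], [1, 13, 6], [10, 5, 15, 12], [0, 1, 13, 6], [0, 10, 5, 15, 12], [1, 13, 6], [13, 15, 6], [0, 1, 13, 6], [0, 13, 15, 6], [13], [1, 10, 15, 12], [0, 13], [0, 1, 10, 15, 12], [13], [13, 5], [0, 13], [0, 13, 5], [10, 15, 12], [1, 13], [0, 10, 15, 12], [0, 1, 13], [13, 15], [1, 13], [0, 13, 15], [0, 1, 13], [4, 7, 4], [2, 4, 7, 4], [2, 7, 12, 15], [2, 4, 15, 12], [0, 7, 12, 15], [0, 3, 12, 15, 12], [0, 2, 7, 12, 15], [0, 3, 7, 12, 15], [0, 4, 7, 4], [0, 2, 4, 7, 4], [0, 3, 4, 7, 4], [0, 3, 4, 7, 15], [0, 4, 15, 12], [0, 3, 4, 15, 12], [0, 3, 7, 4, 12], [0, 2, 4, 15, 12],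 [4, 5, 7, 4], [4, 5, 7, 15], [4, 7, 9, 4], [2, 4, 7, 9, 4], [4, 9, 15, 10], [4, 9, 15, 10, 2], [4, 8, 15, 10], [4, 5, 0, 7, 15], [4, 7, 8, 14], [4, 5, 7, 14], [4, 7, 8, 14, 3], [4, 5, 7, 14, 3], [5, 11, 7, 15, 3], [5, 13, 4, 12], [5, 11, 7, 15], [4, 5, 0, 7, 4], [13, 4, 6], [10, 11, 5, 15, 12], [10, 11, 8, 15, 12], [13, 4, 9], [13, 4, 6], [13, 4, 5, 6], [13, 4, 5, 9], [13, 4, 9], [13, 14, 6], [10, 4, 5, 15, 12], [11, 7, 5, 15, 12], [13, 4, 0, 6], [13, 14, 6], [13, 4, 15, 6], [13, 14, 6, 8], [13, 4, 0, 6], [10, 11, 15, 12], [13, 4], [14, 7], [10, 4, 0, 15, 12], [13, 4, 5], [13, 4], [14, 7], [13, 4, 8], [13, 14], [10, 4, 15, 12], [11, 7, 15, 12], [13, 4, 0], [13, 14], [13, 4, 15], [13, 14, 8], [13, 4, 0], [4, 7], [2, 4, 7], [2, 7, 12], [3, 4, 7], [1, 4, 7], [1, 2, 4, 7], [1, 2, 7,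 12], [1, 3, 4, 7], [0, 4, 7], [0, 2, 4, 7], [1, 2, 15, 12], [0, 3, 4, 7], [0, 7, 12], [0, 3, 15, 12], [0, 2, 7, 12], [0, 3, 7, 12], [4, 7, 8], [4, 5, 7], [4, 7, 9], [2, 4, 7, 9], [1, 2, 4, 7, 6], [1, 4, 7, 6], [5, 11, 7], [4, 8, 1, 7], [0, 4, 7, 6], [0, 4, 5, 7], [0, 3, 4, 5, 7], [4, 7, 9, 1], [5, 13, 12], [5, 13, 12, 2], [0, 5, 7, 12], [4, 5, 0, 7]]

def clsW3 : List (List Nat) := [[10, 5, 15], [1, 10, 5, 15], [0, 10, 5, 15], [0, 1, 10, 5, 15], [10, 13, 6], [10, 13, 5], [0, 10, 13, 6], [0, 10, 13, 5], [1, 10, 13, 6], [1, 10, 13, 5], [0, 1, 10, 13, 6], [0, 1, 10, 13, 5], [1, 10, 5, 15], [10, 5, 15], [0, 1, 10, 5, 15], [0, 10, 5, 15], [10, 13], [1, 10, 15], [0, 10, 13], [0, 1, 10, 15], [10, 13], [13, 5, 12], [0, 10, 13], [0, 13, 5, 12], [13, 15, 12], [1, 10, 13], [0, 13, 15, 12],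 [0, 1, 10, 13], [10, 15], [1, 10, 13], [0, 10, 15], [0, 1, 10, 13], [4, 15], [3, 4, 15], [2, 12, 15], [2, 4, 15], [0, 12, 15], [0, 3, 12, 15], [0, 2, 12, 15], [0, 12, 2, 15], [0, 4, 15], [0, 3, 4, 15], [0, 3, 7, 4], [0, 2, 4, 15], [1, 4, 15], [1, 3, 4, 15], [1, 2, 12, 15], [1, 2, 4, 15], [4, 9, 15], [4, 5, 15], [4, 8, 15], [2, 4, 9, 15], [0, 5, 11, 15], [0, 3, 5, 11, 15], [0, 9, 12, 15], [4, 5, 0, 15], [0, 3, 4, 5, 15], [5, 13, 4], [0, 4, 8, 15], [5, 13, 3, 4], [5, 11, 15], [1, 4, 15, 6], [5, 11, 15, 3], [4, 8, 1, 15], [7], [3, 15], [2, 7], [3, 7], [1, 7], [0, 1, 3, 15], [1, 2, 7], [1, 3, 7], [0, 7], [0, 3, 15], [0, 2, 7], [0, 3, 7], [1, 15], [1, 3, 15], [1, 2, 15], [1, 15, 3], [5, 15], [7, 6], [5, 7], [2, 7, 6], [1, 2, 7, 9], [1, 5, 7], [1, 7, 9], [0, 5, 7, 1], [5, 13], [0, 3,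 5, 7], [0, 5, 7], [5, 13, 3], [1, 9, 13], [1, 5, 15], [1, 2, 9, 13], [5, 7, 1], [10, 4, 5, 15], [10, 11, 5, 15], [10, 11, 8, 15], [10, 4, 8, 15], [10, 13, 4, 6], [10, 13, 4, 5], [11, 14, 7, 5], [10, 13, 4, 9], [13, 14, 6, 12], [13, 14, 12, 5], [13, 14, 12, 8], [10, 13, 4, 0, 6], [10, 11, 5, 15], [10, 4, 5, 15], [11, 7, 5, 15], [10, 4, 0, 5, 15], [10, 11, 15], [10, 4, 15], [11, 7, 15], [10, 4, 0, 15], [13, 4, 5, 12], [10, 13, 4], [11, 14, 7], [13, 4, 8, 12], [13, 14, 12], [13, 4, 15, 12], [13, 14, 8, 12], [10, 13, 4, 0], [10, 11, 15], [10, 4, 15], [11, 7, 15], [10, 4, 0, 15]]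

def clsW4 : List (List Nat) := [[10, 5, 14, 9], [1, 10, 5, 14, 9], [0, 11, 8, 13, 6], [0, 11, 8, 13, 4, 6], [0, 11, 8, 13, 6], [10, 5, 14, 9], [11, 8, 13, 6], [10, 5, 14, 7, 9], [0, 10, 5, 14, 9], [0, 1, 10, 5, 14, 9], [0, 1, 11, 8, 13, 6], [0, 11, 8, 13, 14, 6], [0, 1, 10, 5, 14, 9], [0, 10, 5, 14, 9], [1, 11, 8, 13, 6], [10, 5, 13, 14, 9], [5, 10, 5], [1, 5, 10, 5], [0, 9, 10, 14], [0, 3, 9, 14, 9], [1, 9, 10, 14], [1, 5, 14, 9], [0, 1, 9, 10, 14], [0, 3, 9, 10, 14], [0, 5, 10, 5], [0, 1, 5, 10, 5], [0, 5, 14, 9], [0, 3, 5, 14, 9], [0, 3, 5, 10, 5], [0, 3, 5, 10, 14], [0, 3, 9, 10, 5], [0, 1, 5, 14, 9], [11, 8, 13], [10, 11, 5, 14, 9], [0, 11, 8, 13], [0, 11, 8, 13, 4], [0, 11, 8, 13], [10, 4, 5, 14, 9], [11, 8, 13], [11, 8, 13, 4], [10, 11, 8, 14, 9], [1, 11, 8, 13], [0, 11,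 8, 13, 14], [0, 1, 11, 8, 13], [11, 7, 5, 14, 9], [0, 1, 11, 8, 13], [11, 8, 13, 14], [1, 11, 8, 13], [4, 5, 10, 5], [4, 5, 10, 14], [4, 9, 14, 7], [4, 9, 14, 7, 1], [4, 9, 10, 5], [1, 5, 10, 12, 5], [4, 8, 10, 5], [4, 5, 0, 10, 14], [4, 8, 14, 7], [4, 5, 10, 15], [4, 8, 10, 14, 3], [4, 13, 5, 9], [4, 8, 14, 3, 7], [4, 5, 10, 15, 3], [4, 8, 10, 14], [4, 5, 0, 10, 5], [10, 14, 9], [1, 10, 14, 9], [11, 8, 13, 5, 12], [1, 14, 8, 9, 10], [10, 14, 9], [1, 10, 14, 9], [14, 8, 9, 10], [11, 8, 13, 5, 6], [0, 10, 14, 9], [0, 1, 10, 14, 9], [11, 8, 15, 10, 6], [1, 14, 15, 9, 10], [0, 10, 14, 9], [0, 1, 10, 14, 9], [14, 15, 9, 10], [14, 15, 9, 10, 4], [5, 10], [1, 5, 10], [2, 5, 10], [1, 2, 5, 10], [1, 9, 10], [3, 5, 10], [1, 2, 9, 10], [2, 3, 5, 10], [0, 5, 10], [0, 1, 5, 10], [0, 9, 10],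 [0, 3, 14, 9], [1, 2, 14, 9], [0, 3, 5, 10], [0, 1, 9, 10], [0, 3, 9, 10], [10, 11, 14, 9], [10, 4, 14, 9], [11, 14, 8, 10], [0, 11, 8, 13, 5], [10, 11, 14, 9], [10, 4, 14, 9], [11, 8, 13, 5], [11, 13, 4, 8], [11, 7, 14, 9], [10, 4, 0, 14, 9], [11, 8, 15, 10], [10, 15, 11, 5, 7], [11, 7, 14, 9], [10, 4, 0, 14, 9], [11, 13, 14, 8], [1, 11, 8, 13, 5], [4, 14, 9], [4, 5, 10], [1, 2, 5, 10, 6], [2, 4, 9, 10], [4, 9, 10], [1, 5, 10, 12], [4, 8, 10], [4, 8, 1, 10], [0, 5, 10, 6], [0, 4, 5, 10], [4, 13, 9], [4, 13, 9, 1], [0, 3, 4, 5, 10], [4, 9, 10, 2], [0, 4, 8, 10], [4, 5, 0, 10]]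

def clsW5 : List (List Nat) := [[10, 5, 14], [1, 10, 5, 14], [10, 11, 8, 13, 6], [1, 10, 5, 14, 7], [1, 10, 5, 14], [10, 5, 14], [11, 7, 5, 13, 6], [10, 5, 14, 7], [10, 11, 5, 13, 6], [1, 10, 5, 13, 14], [0, 10, 5, 14], [0, 1, 10, 5, 14], [10, 4, 5, 13, 6], [10, 5, 13, 14], [0, 1, 10, 5, 14], [0, 10, 5, 14], [5, 14], [3, 5, 14], [0, 9, 14], [0, 3, 9, 14], [1, 9, 14], [1, 5, 14], [0, 1, 9, 14], [0, 9, 1, 14], [0, 5, 14], [0, 3, 5, 14], [2, 5, 14], [2, 3, 5, 14], [0, 3, 10, 5], [0, 1, 5, 14], [1, 2, 9, 14], [1, 2, 5, 14], [10, 4, 5, 13], [10, 11, 5, 14], [10, 11, 8, 13], [13, 5, 11, 12, 8], [10, 11, 5, 13], [10, 4, 5, 14], [11, 7, 5, 13], [10, 5, 14, 7, 6], [13, 4, 10, 6, 15], [10, 11, 5, 13], [10, 11, 8, 14], [10, 4, 8, 13], [10, 5, 13, 14, 6], [10, 4, 5, 13], [11, 7, 5, 14], [10,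 4, 0, 5, 13], [4, 9, 14], [4, 5, 14], [0, 4, 8, 14], [0, 3, 4, 8, 14], [4, 10, 5], [1, 5, 12, 14], [0, 9, 12, 14], [4, 5, 0, 14], [0, 3, 4, 5, 14], [4, 13, 5], [4, 8, 14], [2, 4, 9, 14], [0, 4, 10, 5], [4, 13, 3, 5], [4, 8, 14, 3], [4, 8, 1, 14], [10], [3, 14], [2, 10], [0, 2, 3, 14], [1, 10], [3, 10], [1, 2, 10], [2, 3, 10], [0, 10], [0, 3, 14], [2, 14], [2, 3, 14], [0, 1, 10], [0, 3, 10], [1, 2, 14], [2, 14, 3], [10, 14], [1, 10, 14], [0, 11, 15, 10, 12], [1, 14, 8, 10], [10, 14], [1, 10, 14], [14, 8, 10], [0, 11, 15, 10, 6], [11, 15, 10, 6], [1, 14, 15, 10], [0, 10, 14], [0, 1, 10, 14], [14, 15, 10], [15, 10, 6, 14], [0, 10, 14], [0, 1, 10, 14], [4, 14], [10, 6], [1, 2, 10, 12], [2, 4, 10], [4, 10], [1, 10, 6], [2, 10, 12], [0, 4, 10, 2], [4, 13], [0, 3, 4, 10], [2, 12, 13],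 [2, 4, 14], [0, 4, 10], [4, 13, 3], [1, 2, 12, 13], [4, 10, 2], [10, 11, 14], [10, 4, 14], [14, 8, 10, 12], [11, 15, 10, 2], [10, 11, 14], [10, 4, 14], [0, 11, 15, 10], [14, 8, 10, 6], [11, 15, 10], [1, 14, 15, 10, 6], [11, 7, 14], [10, 4, 0, 14], [14, 15, 10, 6], [1, 11, 15, 10], [11, 7, 14], [10, 4, 0, 14]]

def clsW6 : List (List Nat) := [[11, 13, 6], [10, 5, 14, 8, 12], [0, 11, 13, 6], [0, 13, 5, 6, 11], [11, 13, 6], [13, 5, 6, 11], [0, 11, 13, 6], [10, 5, 14, 8, 9], [1, 11, 13, 6], [10, 5, 15, 11, 9], [0, 1, 11, 13, 6], [0, 13, 15, 6, 11], [1, 11, 13, 6], [13, 15, 6, 11], [0, 1, 11, 13, 6], [13, 15, 6, 11, 7], [5, 7, 14, 9], [5, 10, 8, 4], [5, 7, 10, 4], [5, 10, 8, 4, 0], [5, 13, 14, 12], [7, 6, 10, 2, 14], [5, 7, 14, 12], [7, 11, 5, 9], [5, 10, 8, 14], [5, 10, 13, 4], [0,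 5, 7, 10, 4], [5, 7, 1, 10, 4], [5, 13, 14, 12, 2], [7, 6, 10, 14], [5, 7, 14, 12, 2], [5, 7, 1, 14, 9], [4, 7, 4, 11], [4, 7, 11, 5], [4, 13, 15, 9], [10, 6, 7, 1, 15], [4, 7, 10, 4], [4, 7, 11, 5, 0], [4, 10, 15, 9], [10, 8, 4, 12], [4, 7, 11, 15], [4, 7, 13, 5], [4, 13, 15, 9, 1], [10, 6, 7, 15], [0, 4, 7, 10, 4], [4, 7, 10, 2, 4], [4, 7, 11, 15, 3], [4, 7, 13, 3, 5], [11, 13], [1, 10, 15, 11, 12], [0, 11, 13], [0, 13, 5, 11], [11, 13], [13, 5, 11], [0, 11, 13], [1, 10, 15, 11, 9], [10, 15, 11, 9], [1, 11, 13], [0, 13, 15, 11], [0, 1, 11, 13], [13, 15, 11], [1, 11, 13], [15, 11, 9, 13], [0, 1, 11, 13], [10, 14, 7, 9], [1, 10, 14, 8, 9], [0, 11, 13, 5, 6], [13, 4, 9, 10], [10, 14, 7, 9], [11, 13, 5, 6], [10, 14, 8, 9], [13, 4, 9, 10], [10, 13, 14, 9], [1, 10, 14, 15, 9], [0,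 11, 13, 15, 6], [10, 13, 14, 3, 9], [10, 13, 14, 9], [1, 11, 13, 5, 6], [0, 10, 14, 8, 9], [10, 13, 14, 3, 9], [5, 10, 8], [1, 5, 7, 10], [5, 7, 10], [0, 3, 14, 15, 9], [0, 7, 11, 2, 9], [7, 6, 10], [7, 11, 9], [2, 7, 6, 10], [5, 10, 13], [1, 5, 15, 10], [0, 5, 7, 10], [5, 7, 1, 10], [0, 7, 11, 9], [7, 6, 10, 2], [7, 11, 2, 9], [5, 10, 13, 3], [4, 7, 11], [2, 4, 7, 10], [0, 7, 11, 2, 12], [10, 6, 7], [4, 7, 10], [0, 3, 14, 15, 12], [10, 8, 12], [1, 10, 6, 7], [4, 7, 13], [2, 4, 14, 7], [0, 10, 8, 12], [10, 6, 7, 1], [0, 4, 7, 10], [4, 7, 10, 2], [7, 11, 2, 12], [4, 7, 13, 3], [10, 14, 8, 12], [11, 13, 4], [14, 7, 11], [0, 11, 13, 5], [11, 13, 5], [11, 13, 4], [14, 7, 11], [1, 10, 14, 8, 12], [11, 13, 14], [1, 10, 14, 15, 12], [0, 11, 13, 15], [11, 13, 4, 0], [11, 13, 14], [1, 11,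 13, 5], [14, 8, 12, 13], [11, 13, 4, 0]]

def clsW7 : List (List Nat) := [[10, 11, 13, 6], [10, 13, 5, 11], [10, 5, 14, 8], [1, 10, 5, 14, 8], [10, 5, 15, 11], [10, 5, 14, 8], [11, 7, 13, 6], [10, 14, 7, 5], [10, 4, 13, 6], [10, 5, 15, 11], [10, 4, 0, 13, 6], [10, 5, 15, 11, 7], [10, 4, 13, 6], [10, 13, 5, 14], [10, 4, 0, 13, 6], [0, 10, 5, 14, 8], [5, 13, 14], [0, 3, 5, 7, 14], [5, 7, 14], [2, 7, 6, 14], [1, 9, 13, 14], [7, 11, 5], [1, 7, 9, 14], [7, 11, 5, 0], [5, 14, 15], [7, 6, 14], [0, 5, 7, 14], [5, 13, 3, 14], [0, 3, 10, 5, 8], [0, 7, 11, 5], [5, 14, 15, 3], [5, 7, 1, 14], [4, 13, 15], [0, 3, 4, 10, 15], [2, 12, 13, 15], [10, 8, 4], [4, 10, 15], [1, 10, 6, 15], [2, 10, 12, 15], [10, 8, 4, 0], [4, 14, 15], [10, 6, 15], [0, 3, 7, 4, 11], [0, 10, 8, 4], [0, 4, 10, 15], [4,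 13, 3, 15], [4, 14, 15, 3], [4, 10, 2, 15], [10, 11, 13], [13, 5, 11, 12], [11, 7, 13], [10, 15, 11, 2], [10, 11, 13], [1, 10, 15, 11], [11, 7, 13], [13, 5, 11, 9], [10, 15, 11], [10, 4, 13], [0, 13, 15, 11, 9], [10, 4, 0, 13], [13, 15, 11, 9], [10, 4, 13], [0, 10, 15, 11], [10, 4, 0, 13], [7, 10], [0, 3, 14, 15], [10, 8], [3, 7, 11], [7, 11], [3, 10, 8], [0, 7, 11, 2], [3, 7, 10], [7, 14], [3, 14, 15], [0, 10, 8], [0, 3, 7, 11], [0, 7, 11], [0, 3, 10, 8], [7, 11, 2], [7, 14, 3], [11, 13, 5, 12], [13, 4, 10], [10, 14, 7], [1, 10, 14, 8], [10, 14, 8], [13, 4, 10], [10, 14, 7], [0, 11, 13, 5, 12], [10, 13, 14], [1, 10, 14, 15], [0, 11, 13, 15, 12], [10, 13, 14, 3], [10, 13, 14], [13, 5, 12, 14], [0, 10, 14, 8], [10, 13, 14, 3], [13, 4, 10, 6], [10, 11, 13, 5], [10, 11, 14, 8], [10,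 4, 14, 8], [10, 11, 13, 5], [10, 4, 14, 8], [11, 7, 13, 5], [10, 14, 7, 6], [10, 4, 13, 5], [10, 15, 11, 5], [11, 15, 10, 8], [10, 13, 14, 3, 6], [10, 13, 14, 6], [10, 4, 13, 5], [11, 7, 14, 8], [10, 4, 0, 13, 5], [0, 3, 4, 5, 13], [4, 5, 13], [4, 14, 8], [10, 6, 8], [4, 10, 8], [7, 6, 11], [0, 9, 12, 13], [4, 8, 1, 13], [4, 9, 13], [0, 4, 5, 13], [4, 8, 13], [5, 11, 13, 3], [5, 11, 13], [4, 8, 13, 3], [7, 6, 11, 2], [4, 5, 0, 13]]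

/-- table -/
def clsW : List (List Nat) := clsW0 ++ clsW1 ++ clsW2 ++ clsW3 ++ clsW4 ++ clsW5 ++ clsW6 ++ clsW7

def nonT0 : List Nat := [0, 0, 0, 0, 0, 0, 0, 0, 0, 0, 0, 0, 0, 0, 0, 0, 0, 0, 0, 0, 0, 0, 0, 0, 0, 0, 0, 0, 0, 0, 0, 0, 0, 0, 0, 0, 0, 0, 0, 0, 0, 0, 0, 0, 0, 0, 0, 0, 0, 0, 0, 0, 0, 0, 0, 0, 0, 0, 0, 0, 0, 0, 0, 0, 0, 0, 0, 0, 0, 0, 0, 0, 0, 0, 0, 0, 0, 0, 0, 0, 0, 0, 0, 0, 0, 0, 0, 0, 0, 0, 0, 0, 0, 0, 0, 0, 0, 0, 0, 0, 0, 0, 0, 0, 0, 0, 0, 0, 0, 0, 0, 0, 0, 0, 0, 0, 0, 0, 0, 0, 0, 0, 0, 0, 0, 0, 0, 0]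

def nonT1 : List Nat := [0, 0, 0, 0, 0, 0, 0, 0, 0, 0, 0, 0, 0, 0, 0, 0, 0, 0, 0, 0, 0, 0, 0, 0, 0, 0, 0, 0, 0, 0, 0, 0, 0, 0, 0, 0, 0, 0, 0, 0, 0, 0, 0, 0, 0, 0, 0, 0, 0, 0, 0, 0, 0, 0, 0, 0, 0, 0, 0, 0, 0, 0, 0, 0, 0, 24, 20, 12, 18, 10, 22, 14, 17, 25, 5, 13, 3, 11, 7, 15, 0, 24, 20, 12, 26, 2, 30, 6, 21, 29, 1, 9, 31, 23, 27, 19, 0, 24, 28, 4, 18, 10, 30, 6, 19, 27, 31, 23, 1, 9, 29, 21, 0, 24, 28, 4, 26, 2, 22, 14, 7, 15, 11, 3, 13, 5, 17, 25]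

def nonT2 : List Nat := [0, 0, 0, 0, 0, 0, 0, 0, 0, 0, 0, 0, 0, 0, 0, 0, 0, 0, 0, 0, 0, 0, 0, 0, 0, 0, 0, 0, 0, 0, 0, 0, 0, 20, 24, 12, 17, 21, 9, 13, 18, 6, 26, 14, 3, 7, 11, 15, 0, 20, 24, 12, 25, 29, 1, 5, 22, 2, 30, 10, 31, 27, 23, 19, 0, 0, 0, 0, 0, 0, 0, 0, 0, 0, 0, 0, 0, 0, 0, 0, 0, 0, 0, 0, 0, 0, 0, 0, 0, 0, 0, 0, 0, 0, 0, 0, 0, 20, 28, 8, 19, 23, 31, 27, 18, 6, 30, 10, 1, 5, 29, 25, 0, 20, 28, 8, 11, 15, 7, 3, 22, 2, 26, 14, 13, 9, 17, 21]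

def nonT3 : List Nat := [0, 0, 0, 0, 0, 0, 0, 0, 0, 0, 0, 0, 0, 0, 0, 0, 0, 0, 0, 0, 0, 0, 0, 0, 0, 0, 0, 0, 0, 0, 0, 0, 0, 28, 24, 4, 17, 29, 9, 5, 19, 31, 27, 23, 2, 30, 10, 22, 0, 28, 24, 4, 25, 21, 1, 13, 7, 11, 15, 3, 14, 18, 6, 26, 0, 28, 20, 8, 19, 31, 23, 27, 17, 29, 5, 9, 2, 30, 6, 26, 0, 28, 20, 8, 11, 7, 15, 3, 21, 25, 1, 13, 14, 18, 10, 22, 0, 0, 0, 0, 0, 0, 0, 0, 0, 0, 0, 0, 0, 0, 0, 0, 0, 0, 0, 0, 0, 0, 0, 0, 0, 0, 0, 0, 0, 0, 0, 0]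

def nonT4 : List Nat := [0, 0, 0, 0, 0, 0, 0, 0, 0, 0, 0, 0, 0, 0, 0, 0, 0, 18, 17, 19, 24, 10, 9, 11, 20, 6, 5, 7, 28, 14, 13, 15, 0, 0, 0, 0, 0, 0, 0, 0, 0, 0, 0, 0, 0, 0, 0, 0, 0, 18, 25, 27, 24, 10, 1, 3, 22, 4, 31, 29, 30, 12, 23, 21, 0, 0, 0, 0, 0, 0, 0, 0, 0, 0, 0, 0, 0, 0, 0, 0, 0, 18, 21, 23, 26, 8, 31, 29, 20, 6, 1, 3, 30, 12, 27, 25, 0, 0, 0, 0, 0, 0, 0, 0, 0, 0, 0, 0, 0, 0, 0, 0, 0, 18, 13, 15, 26, 8, 7, 5, 22, 4, 11, 9, 28, 14, 17, 19]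

def nonT5 : List Nat := [0, 0, 0, 0, 0, 0, 0, 0, 0, 0, 0, 0, 0, 0, 0, 0, 0, 26, 17, 27, 24, 2, 9, 3, 21, 31, 4, 30, 29, 23, 12, 22, 0, 0, 0, 0, 0, 0, 0, 0, 0, 0, 0, 0, 0, 0, 0, 0, 0, 26, 25, 19, 24, 2, 1, 11, 7, 13, 14, 20, 15, 5, 6, 28, 0, 26, 21, 31, 18, 8, 23, 29, 17, 27, 4, 30, 3, 9, 6, 28, 0, 0, 0, 0, 0, 0, 0, 0, 0, 0, 0, 0, 0, 0, 0, 0, 0, 26, 13, 7, 18, 8, 15, 5, 19, 25, 14, 20, 1, 11, 12, 22, 0, 0, 0, 0, 0, 0, 0, 0, 0, 0, 0, 0, 0, 0, 0, 0]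

def nonT6 : List Nat := [0, 0, 0, 0, 0, 0, 0, 0, 0, 0, 0, 0, 0, 0, 0, 0, 0, 22, 17, 23, 25, 31, 8, 30, 20, 2, 5, 3, 29, 27, 12, 26, 0, 22, 25, 31, 17, 23, 8, 30, 18, 4, 27, 29, 3, 5, 10, 28, 0, 0, 0, 0, 0, 0, 0, 0, 0, 0, 0, 0, 0, 0, 0, 0, 0, 0, 0, 0, 0, 0, 0, 0, 0, 0, 0, 0, 0, 0, 0, 0, 0, 22, 21, 19, 11, 13, 14, 24, 20, 2, 1, 7, 15, 9, 10, 28, 0, 22, 13, 11, 19, 21, 14, 24, 18, 4, 15, 9, 1, 7, 12, 26, 0, 0, 0, 0, 0, 0, 0, 0, 0, 0, 0, 0, 0, 0, 0, 0]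

def nonT7 : List Nat := [0, 0, 0, 0, 0, 0, 0, 0, 0, 0, 0, 0, 0, 0, 0, 0, 0, 14, 17, 15, 25, 7, 8, 6, 21, 11, 4, 10, 28, 18, 13, 19, 0, 14, 25, 7, 17, 15, 8, 6, 19, 13, 26, 20, 2, 12, 11, 21, 0, 0, 0, 0, 0, 0, 0, 0, 0, 0, 0, 0, 0, 0, 0, 0, 0, 14, 21, 11, 19, 13, 22, 24, 17, 15, 4, 10, 2, 12, 7, 25, 0, 0, 0, 0, 0, 0, 0, 0, 0, 0, 0, 0, 0, 0, 0, 0, 0, 0, 0, 0, 0, 0, 0, 0, 0, 0, 0, 0, 0, 0, 0, 0, 0, 14, 13, 19, 11, 21, 22, 24, 7, 25, 26, 20, 28, 18, 17, 15]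

/-- table -/
def nonT : List Nat := nonT0 ++ nonT1 ++ nonT2 ++ nonT3 ++ nonT4 ++ nonT5 ++ nonT6 ++ nonT7

/-- the nonsingular parameters -/
def omT : List Nat := [12, 13, 14, 15, 18, 19, 22, 23, 26, 27, 28, 29, 33, 35, 37, 39, 41, 43, 44, 46, 49, 50, 53, 54, 57, 58, 60, 63]

def comT0 : List (List Nat × Nat × Bool) := [([], 1, false), ([], 2, false), ([], 4, false), ([0, 1], 7, true), ([], 16, false), ([28, 32, 36, 56, 60, 64], 19, true), ([], 64, false), ([4, 5, 28, 32, 36, 56, 60, 64], 67, false), ([], 256, false), ([28, 32, 36], 259, false), ([0, 4, 8], 341, false), ([0, 4, 9, 28, 32, 36], 342, true), ([], 4096, false), ([0, 12, 16, 56, 68, 72], 4101, true), ([4, 12, 20, 32, 40, 48], 4176, true), ([0, 4, 16, 20, 32, 41, 48, 56, 68, 72], 4181, true), ([0, 4, 8, 56, 68, 72, 84,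 86, 96, 97], 4368, true), ([4, 8, 12, 16, 56, 68, 72, 84, 86, 96, 97], 4373, true), ([0, 8, 12, 20, 28, 32, 44, 48, 56, 68, 72, 84, 86, 96, 97], 4419, false), ([8, 18, 20, 28, 32, 44, 48, 56, 68, 72, 84, 86, 96, 97], 4422, true), ([0, 4, 8, 32, 40, 48, 84, 96, 98], 4436, true), ([4, 8, 12, 16, 28, 36, 40, 48, 64, 72, 76, 84, 96, 98], 4434, true), ([0, 8, 12, 20, 32, 40, 48, 84, 96, 98], 4356, true), ([8, 16, 21, 28, 36, 40, 48, 64, 72, 76, 84, 96, 98], 4354, false), ([12, 16, 20, 24, 32, 41, 48, 56, 68, 72, 86, 96, 99], 4164, true), ([0, 12, 16, 24, 25, 28, 32, 41, 52, 56, 68, 72, 86, 96, 99], 4162, false), ([4, 16, 24, 28, 32, 41, 52, 56, 68, 72, 86, 96, 99], 4119, true), ([0, 4, 16, 20, 32, 41, 48, 56, 68, 72, 86, 96, 99], 4113, false)]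

/-- table -/
def comT : List (List Nat × Nat × Bool) := comT0

/-- the two candidates -/
def keyT : Nat × Nat := (1319234, 1322685)

/-- the orbit -/
def orbM : Nat := 13464923994372348374700561039937376792050633604444943518972021194652087535418907181395953158022678642493905124579354716962728623223808108104426100026889922545637558198188367569896747518672772641511103391417057449979795279746955207925381709592256567114456993544425426717582314644449303644062665934428169801964541332286604538384430856140879213217002234779684926526723235486874868880388708343445529705023021183760492917482247522229351349540086506139325053807930879162035514757519502279592689909724413630618819784337718503303006602834646349479300789652054101422065583933405514797693192276157181402998870413091926530064382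

/-- the other candidate -/
def badM : Nat := 13464923994372348374700561039937376792050633604444943518972021194652087535418907181395953158022678642493905124579354716962728623223808108104426100026889922545637558198188367569896747518672772641511103391417057449979795279746955207925381709592256567114456993544425426717582314644449303644062665934428169801964541332286604538384428925893705582400451332055436089581209903475141903694630968860511327504546585288562366767938649432761503529645018094103055513801553765318310307655649614930522711916028084521696229868737909401807622230668854464678694634181676748404846771357891089466128349283639518567293459201231837699506174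

/-- images in the code -/
def codeT : List Nat := [5279, 1009728, 1256224, 2220640, 4645632, 2060276, 3145329, 5238729, 3403629, 5766968, 6813668]

end Cfsg.Agent.Spor.CoT.Octad
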