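import Cfsg.Agent.Lib.Spor.CoTOctad.Act
import Cfsg.Agent.Lib.Spor.CoTOctad.Data

/-!
Groups of Conway type: kernel checks of the tables for the orbit of the central involution.
-/

set_option autoImplicit false
set_option maxRecDepth 100000

namespace Cfsg.Agent.Spor.CoT.Octad

/-- the point and the partner of a root element -/
def rootK (g : ℕ) : Fin 4 := ⟨g / 3 % 4, Nat.mod_lt _ (by norm_num)⟩

/-- the partner of a root element -/
def rootJ (g : ℕ) : Fin 4 := ⟨(if g % 3 < g / 3 then g % 3 else g % 3 + 1) % 4, Nat.mod_lt _ (by norm_num)⟩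

/-- the sixteen linear maps -/
def tr (g n : ℕ) : ℕ :=
  if g < 4 then ev (imP ⟨g % 4, Nat.mod_lt _ (by norm_num)⟩) n
  else ev (imN (rootK (g - 4)) (rootJ (g - 4)) fun _ => false) n

/-- modulo the central involution -/
def trm (m g : ℕ) : ℕ := tr g (2 * m) / 2

/-- the class of an element modulo the central involution -/
def cl (m : ℕ) : ℕ := clsT.getD m 9

/-- roots of the classes -/
def clR (i : ℕ) : ℕ := [1, 16, 20, 192].getD i 0

/-- the word of an element modulo the central involution -/
def clw (m : ℕ) : List ℕ := clsW.getD m []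

/-- one entry of the class table -/
def clOK (m : ℕ) : Bool :=
  Nat.blt (cl m) 4 && (clw m).all (fun g => Nat.blt g 16) && Nat.beq ((clw m).foldl trm (clR (cl m))) m &&
    ((cl m == 0) == Nat.blt m 16) && (!Nat.blt m 128 || Nat.blt (cl m) 3)

/-- the nonsingular part of a parameter -/
def idw (w : ℕ) : ℕ := omT.findIdx (fun v => Nat.beq v w)

/-- the element of a set of partners -/
def evS (S n : ℕ) : ℕ :=
  (List.range 4).foldl (fun r i => bif Nat.testBit S i then tr i r else r) n

/-- one entry of the table of nonsingular elements -/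
def nonOK (m : ℕ) : Bool :=
  !(cl m == 3) || (Nat.blt (idw (m / 16)) 28 && Nat.beq (evS (nonT.getD m 0 % 16) (32 * (m / 16))) (2 * m + nonT.getD m 0 / 16) &&
    Nat.blt (nonT.getD m 0) 32)

/-- parity of six bits -/
def par6 (a b : ℕ) : Bool := (List.range 6).foldl (fun r l => xor r (Nat.testBit a l && Nat.testBit b l)) false

/-- parity of a hundred bits -/
def parX (X : ℕ → Bool) (m : ℕ) : Bool := (List.range 100).foldl (fun r l => xor r (X l && Nat.testBit m l)) false

/-- the parameter of an equation -/
def eqW (e : ℕ) : ℕ := omT.getD (e % 28) 0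

/-- the image in an equation -/
def eqY (e : ℕ) : ℕ := tr (4 + e / 28) (32 * eqW e)

/-- the variables of an equation -/
def eqM (e : ℕ) : ℕ :=
  2 ^ (e % 28) ^^^ 2 ^ idw (eqY e / 32) ^^^ (List.finRange 6).foldl (fun r l =>
    bif free (rootK (e / 28)) l && Nat.testBit (eqW e) l.val then r ^^^ 2 ^ (28 + 6 * (e / 28) + l.val) else r) 0

/-- the constant of an equation -/
def eqC (e : ℕ) : Bool := xor (eqY e % 2 == 1) (nonT.getD (eqY e / 2) 0 / 16 == 1)

/-- one equation is about nonsingular elements -/
def eqOK (e : ℕ) : Bool :=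
  Nat.blt (eqY e) 2048 && cl (eqY e / 2) == 3 && cl (16 * eqW e) == 3 && Nat.beq (idw (eqW e)) (e % 28)

/-- one elimination -/
def comOK (i : ℕ) : Bool :=
  let c := comT.getD i ([], 0, false)
  c.1.all (fun e => Nat.blt e 336) &&
    Nat.beq (c.1.foldl (fun r e => r ^^^ eqM e) 0) (2 ^ i ^^^ c.2.1) &&
    (c.1.foldl (fun r e => xor r (eqC e)) false == c.2.2)

/-- the free unknowns -/
def freeK : List ℕ := [0, 1, 2, 4, 6, 8, 12]

/-- the value determined by the free unknowns -/
def solK (s i : ℕ) : Bool :=
  xor (comT.getD i ([], 0, false)).2.2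
    ((List.range 7).foldl (fun r q => xor r (Nat.testBit s q && Nat.testBit (comT.getD i ([], 0, false)).2.1 (freeK.getD q 0))) false)

/-- every solution is one of two up to a linear function -/
def solOK (s : ℕ) : Bool :=
  (List.range 64).any fun b => [keyT.1, keyT.2].any fun key =>
    (List.range 28).all fun i => solK s i == xor (Nat.testBit key i) (par6 b (omT.getD i 0))

/-- membership in a candidate -/
def cand (key : ℕ) (n : ℕ) : Bool :=
  n == 1 || cl (n / 2) == 0 || cl (n / 2) == 1 ||
    (cl (n / 2) == 3 && ((n % 2 == 1) == xor (Nat.testBit key (idw (n / 32))) (nonT.getD (n / 2) 0 / 16 == 1)))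

/-- the check of the class table -/
theorem cl_ok : ∀ m : Fin 1024, m.val ≠ 0 → clOK m.val = true := by decide +kernel

theorem cl_zero : cl 0 = 4 := by decide +kernel

theorem cl_count : ((List.range 1024).countP fun m => cl m == 0) = 15 ∧
    ((List.range 1024).countP fun m => cl m == 1) = 140 ∧ ((List.range 1024).countP fun m => cl m == 2) = 420 ∧
    ((List.range 1024).countP fun m => cl m == 3) = 448 := by decide +kernel

theorem non_ok : ∀ m : Fin 1024, nonOK m.val = true := by decide +kernel

theorem eq_ok : ∀ e : Fin 336, eqOK e.val = true := by decide +kernel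

theorem com_ok : ∀ i : Fin 28, comOK i.val = true := by decide +kernel

theorem sol_ok : ∀ s : Fin 128, solOK s.val = true := by decide +kernel

theorem orb_ok : ∀ n : Fin 2048,
    (Nat.testBit orbM n.val == cand keyT.1 n.val && Nat.testBit badM n.val == cand keyT.2 n.val) = true := by
  decide +kernel

theorem bad_ok : Nat.testBit badM 1 = true ∧ Nat.testBit badM 385 = true ∧
    ((List.range 2048).countP fun n => Nat.testBit badM n && Nat.testBit badM (n ^^^ 1)) ≠
      ((List.range 2048).countP fun n => Nat.testBit badM n && Nat.testBit badM (n ^^^ 385)) := by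
  decide +kernel

end Cfsg.Agent.Spor.CoT.Octad
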