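import Cfsg.Agent.Lib.Spor.CoTOctad.Data
import Cfsg.Agent.Lib.Spor.GolayQuotientAut

/-!
The binary Golay code modulo the all-ones word in eleven coordinates, and permutations determined by their action
on it.
-/

set_option autoImplicit false
set_option maxRecDepth 100000
set_option linter.unusedSectionVars false

open scoped Pointwise symmDiff

namespace Cfsg.Agent.Spor.CoT.Octad

open Cfsg

local notation "Wd" => GolayPt → ZMod 2

theorem zm_shift : ∀ u v k1 k2 : ZMod 2, u + k1 = v + k2 → v = u + (k1 + k2) := by decide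

theorem zm_back : ∀ u v k1 k2 : ZMod 2, u + k1 = v + k2 → u = v + (k2 + k1) := by decide

theorem sel_xor (r s c : ℕ) : ∀ a b : Bool,
    (bif xor a b then (r ^^^ s) ^^^ c else r ^^^ s) =
      (bif a then r ^^^ c else r) ^^^ (bif b then s ^^^ c else s)
  | false, false => rfl
  | false, true => by show r ^^^ s ^^^ c = r ^^^ (s ^^^ c); ac_rfl
  | true, false => by show r ^^^ s ^^^ c = r ^^^ c ^^^ s; ac_rfl
  | true, true => by
    show r ^^^ s = r ^^^ c ^^^ (s ^^^ c)
    rw [show r ^^^ c ^^^ (s ^^^ c) = r ^^^ s ^^^ (c ^^^ c) by ac_rfl, Nat.xor_self, Nat.xor_zero]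

/-- the mask of a class -/
def cm (n : ℕ) : ℕ := (List.range 11).foldl (fun r t => bif Nat.testBit n t then r ^^^ codeT.getD t 0 else r) 0

theorem cm_facts : (∀ t : Fin 11, codeT.getD t.val 0 ∈ codeMasks) ∧ (0 : ℕ) ∈ codeMasks := by decide +kernel

theorem cm_weight : ∀ n : Fin 2048, n.val ≠ 0 →
    (if Nat.testBit orbM n.val then pc (cm n.val) = 8 ∨ pc (cm n.val) = 16 else pc (cm n.val) = 12) := by
  decide +kernel

theorem cm_basis : ∀ g ∈ codeBasis, ∃ n : Fin 2048, g = cm n.val ∨ g = cm n.val ^^^ 16777215 := by decide +kernel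

theorem orbM_zero : Nat.testBit orbM 0 = false := by decide +kernel

theorem wmask_one_eq : wmask 1 = 16777215 := by decide +kernel

theorem cm_code (n : ℕ) : cm n ∈ codeMasks := by
  have key : ∀ (l : List ℕ), (∀ t ∈ l, t < 11) → ∀ r ∈ codeMasks,
      l.foldl (fun r t => bif Nat.testBit n t then r ^^^ codeT.getD t 0 else r) r ∈ codeMasks := by
    intro l
    induction l with
    | nil => exact fun _ r hr => hr
    | cons t l ih =>
      intro hl r hr
      rw [List.foldl_cons]
      refine ih (fun x hx => hl x (by simp [hx])) _ ?_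
      cases Nat.testBit n t
      · exact hr
      · exact codeMasks_xor hr (cm_facts.1 ⟨t, hl t (by simp)⟩)
  exact key _ (fun t ht => List.mem_range.1 ht) 0 cm_facts.2

theorem cm_xor (a b : ℕ) : cm (a ^^^ b) = cm a ^^^ cm b := by
  have key : ∀ (l : List ℕ) (r s : ℕ),
      l.foldl (fun r t => bif Nat.testBit (a ^^^ b) t then r ^^^ codeT.getD t 0 else r) (r ^^^ s) =
        l.foldl (fun r t => bif Nat.testBit a t then r ^^^ codeT.getD t 0 else r) r ^^^
          l.foldl (fun r t => bif Nat.testBit b t then r ^^^ codeT.getD t 0 else r) s := by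
    intro l
    induction l with
    | nil => intro r s; rfl
    | cons t l ih =>
      intro r s
      rw [List.foldl_cons, List.foldl_cons, List.foldl_cons, Nat.testBit_xor, sel_xor, ih]
  exact key _ 0 0

/-- the word of a class -/
def wd (n : ℕ) : ↥golayCode :=
  ⟨ofMaskW (cm n), mem_code.2 (by rw [wmask_ofMaskW (codeMasks_lt _ (cm_code n))]; exact cm_code n)⟩

/-- the all-ones word -/
def oneW : ↥golayCode := ⟨fun _ => 1, one_mem_code'⟩

theorem wmask_inj {v w : Wd} (e : wmask v = wmask w) : v = w :=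
  support₂_injective (by
    have h := congrArg ofMask e
    rwa [wmask, wmask, ofMask_mask, ofMask_mask] at h)

theorem wmask_wd (n : ℕ) : wmask (wd n : Wd) = cm n := wmask_ofMaskW (codeMasks_lt _ (cm_code n))

theorem wd_add (a b : ℕ) : wd (a ^^^ b) = wd a + wd b := Subtype.ext (wmask_inj (by
  rw [Submodule.coe_add, wmask_add, wmask_wd, wmask_wd, wmask_wd, cm_xor]))

theorem wd_zero : wd 0 = 0 := Subtype.ext (wmask_inj (by
  rw [wmask_wd, Submodule.coe_zero, wmask_zero]; decide +kernel))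

theorem zm_cases : ∀ k : ZMod 2, k = 0 ∨ k = 1 := by decide

theorem pc_const (k : ZMod 2) : pc (wmask (fun _ => k : Wd)) = 0 ∨ pc (wmask (fun _ => k : Wd)) = 24 := by
  revert k; decide +kernel

theorem wd_const {n : ℕ} (hn : n < 2048) {k : ZMod 2} (e : (wd n : Wd) = fun _ => k) : n = 0 := by
  by_contra h0
  have h := cm_weight ⟨n, hn⟩ h0
  have h2 := pc_const k
  rw [← e, wmask_wd] at h2
  simp only at h
  split_ifs at h <;> omega

theorem wd_unique {a b : ℕ} (ha : a < 2048) (hb : b < 2048) {k : ZMod 2} (e : (wd a : Wd) = (wd b : Wd) + fun _ => k) :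
    a = b := by
  refine Nat.eq_of_xor_eq_zero (wd_const (Nat.xor_lt_two_pow (n := 11) ha hb) (k := k) ?_)
  rw [wd_add, Submodule.coe_add, e, add_comm (wd b : Wd), add_assoc, CharTwo.add_self_eq_zero, add_zero]

theorem wd_surj (c : ↥golayCode) : ∃ n < 2048, ∃ k : ZMod 2, (c : Wd) = (wd n : Wd) + fun _ => k := by
  have key : ∀ m ∈ xorSpan codeBasis, ∃ n < 2048, m = cm n ∨ m = cm n ^^^ 16777215 := by
    refine xorSpan_induction ⟨0, by norm_num, Or.inl (by decide +kernel)⟩ ?_ fun g hg => ?_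
    · rintro a b ⟨x, hx, ex⟩ ⟨y, hy, ey⟩
      refine ⟨x ^^^ y, Nat.xor_lt_two_pow (n := 11) hx hy, ?_⟩
      rw [cm_xor]
      rcases ex with rfl | rfl <;> rcases ey with rfl | rfl
      · exact Or.inl rfl
      · exact Or.inr (by ac_rfl)
      · exact Or.inr (by ac_rfl)
      · exact Or.inl (by rw [show cm x ^^^ 16777215 ^^^ (cm y ^^^ 16777215) = cm x ^^^ cm y ^^^ (16777215 ^^^ 16777215) by ac_rfl, Nat.xor_self, Nat.xor_zero])
    · obtain ⟨n, hn⟩ := cm_basis g hg
      exact ⟨n.val, n.2, hn⟩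
  obtain ⟨n, hn, e⟩ := key _ (mem_code.1 c.2)
  rcases e with e | e
  · exact ⟨n, hn, 0, wmask_inj (by rw [e, wmask_add, wmask_wd, show wmask (fun _ => (0 : ZMod 2) : Wd) = 0 from wmask_zero,
      Nat.xor_zero])⟩
  · exact ⟨n, hn, 1, wmask_inj (by rw [e, wmask_add, wmask_wd, show (fun _ => (1 : ZMod 2) : Wd) = 1 from rfl,
      wmask_one_eq])⟩

/-- permutations acting alike on the classes -/
def Acts (σ : Equiv.Perm GolayPt) (f : ℕ → ℕ) : Prop :=
  ∀ n < 2048, ∃ k : ZMod 2, (wd (f n) : Wd) = actW σ (wd n : Wd) + fun _ => k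

theorem perm_trivial {ρ : Equiv.Perm GolayPt}
    (h : ∀ c : ↥golayCode, ∃ k : ZMod 2, actW ρ (c : Wd) = (c : Wd) + fun _ => k) : ρ = 1 := by
  classical
  by_contra hne
  obtain ⟨p, hp⟩ : ∃ p, ρ.symm p ≠ p := by
    by_contra! hall
    exact hne (Equiv.ext fun q => by
      have := congrArg ρ (hall q)
      rwa [Equiv.apply_symm_apply, eq_comm] at this)
  have hk : ∀ (c : ↥golayCode) q q', (c : Wd) (ρ.symm q) + (c : Wd) q = (c : Wd) (ρ.symm q') + (c : Wd) q' := fun c q q' => by
    obtain ⟨k, e⟩ := h c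
    have e1 := congrFun e q
    have e2 := congrFun e q'
    simp only [actW, Pi.add_apply] at e1 e2
    rw [e1, e2, add_comm ((c : Wd) q) k, add_comm ((c : Wd) q') k, add_assoc, add_assoc, CharTwo.add_self_eq_zero,
      CharTwo.add_self_eq_zero]
  have hpair : ∀ q, ρ.symm q ≠ q → ({ρ.symm q, q} : Finset GolayPt) = {ρ.symm p, p} := fun q hq => by
    refine sumOn_inj (fun c hc => ?_) (by rw [Finset.card_pair hq, Finset.card_pair hp]; norm_num)
    rw [sumOn, sumOn, Finset.sum_pair hq, Finset.sum_pair hp]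
    exact hk ⟨c, hc⟩ q p
  by_cases hfix : ∃ q, ρ.symm q = q
  · obtain ⟨q, hq⟩ := hfix
    have h0 := sumOn_eq_zero (T := {ρ.symm p, p}) (fun c hc => by
      have := hk ⟨c, hc⟩ p q
      rw [hq, CharTwo.add_self_eq_zero] at this
      rw [sumOn, Finset.sum_pair hp]; exact this) (by rw [Finset.card_pair hp]; norm_num)
    exact Finset.insert_ne_empty _ _ h0
  push Not at hfix
  have hsub : (Finset.univ : Finset GolayPt) ⊆ {ρ.symm p, p} := fun q _ => by
    rw [← hpair q (hfix q)]; simp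
  have hc := Finset.card_le_card hsub
  rw [Finset.card_pair hp, Finset.card_univ, show Fintype.card GolayPt = 24 from rfl] at hc
  omega

theorem Acts.unique {σ τ : Equiv.Perm GolayPt} {f : ℕ → ℕ} (hσ : Acts σ f) (hτ : Acts τ f) : σ = τ := by
  refine inv_mul_eq_one.1 (perm_trivial (ρ := σ⁻¹ * τ) fun c => ?_)
  obtain ⟨n, hn, k, e⟩ := wd_surj c
  obtain ⟨k1, e1⟩ := hσ n hn
  obtain ⟨k2, e2⟩ := hτ n hn
  refine ⟨k1 + k2, ?_⟩
  have hinv : ∀ w, actW σ⁻¹ (actW σ w) = w := fun w => by rw [← actW_mul, inv_mul_cancel]; rfl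
  have hτw : actW τ (wd n : Wd) = actW σ (wd n : Wd) + fun _ => k1 + k2 := by
    funext p
    have a1 := congrFun e1 p
    have a2 := congrFun e2 p
    simp only [Pi.add_apply] at a1 a2 ⊢
    rw [a1] at a2
    exact zm_shift _ _ _ _ a2
  rw [e, actW_mul, actW_add, actW_const, actW_add, actW_const, hτw, actW_add, actW_const, hinv]
  funext p
  simp only [Pi.add_apply]
  ring

theorem Acts.comp {σ τ : Equiv.Perm GolayPt} {f g : ℕ → ℕ} (hσ : Acts σ f) (hτ : Acts τ g) (hg : ∀ n < 2048, g n < 2048) :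
    Acts (σ * τ) (f ∘ g) := fun n hn => by
  obtain ⟨k1, e1⟩ := hσ (g n) (hg n hn)
  obtain ⟨k2, e2⟩ := hτ n hn
  refine ⟨k2 + k1, ?_⟩
  rw [Function.comp_apply, e1, e2, actW_add, actW_const, actW_mul, add_assoc]
  rfl

theorem Acts.id_of (f : ℕ → ℕ) (h : ∀ n < 2048, f n = n) : Acts 1 f := fun n hn => ⟨0, by
  rw [h n hn]; exact (add_zero _).symm⟩

theorem Acts.eq_id {f : ℕ → ℕ} (hf : ∀ n < 2048, f n < 2048) (h : Acts 1 f) : ∀ n < 2048, f n = n := fun n hn => by
  obtain ⟨k, e⟩ := h n hn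
  exact wd_unique (hf n hn) hn e

/-- a word of weight eight or twelve in a class -/
theorem class_rep {n : ℕ} (hn : n < 2048) (h0 : n ≠ 0) :
    ∃ (k : ZMod 2) (v : Wd), v = (wd n : Wd) + (fun _ => k) ∧
      support₂ v ∈ (if Nat.testBit orbM n then octads else dodecads) := by
  have h := cm_weight ⟨n, hn⟩ h0
  simp only at h
  have hx : ∀ m, m < 2 ^ 24 → pc m = 16 → pc (m ^^^ 16777215) = 8 := fun m hm e => by
    have e1 := pc_mask (ofMask m)
    have e2 := pc_mask ((ofMask m)ᶜ)
    rw [mask_ofMask hm] at e1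
    have hc : mask ((ofMask m)ᶜ) = m ^^^ 16777215 := by
      have := wmask_add (ofMaskW m) 1
      rw [wmask_ofMaskW hm, wmask_one_eq, wmask, support₂_add, support₂_ofMaskW] at this
      rw [← this]
      congr 1
      rw [show support₂ (1 : Wd) = Finset.univ from by decide +kernel]
      exact (symmDiff_top (ofMask m)).symm
    rw [hc, Finset.card_compl, show Fintype.card GolayPt = 24 from rfl, ← e1, e] at e2
    exact e2
  cases hb : Nat.testBit orbM n <;> simp only [hb, if_false, if_true, Bool.false_eq_true] at h ⊢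
  · refine ⟨0, _, rfl, mem_dodecads.2 ?_⟩
    rw [show (fun _ => (0 : ZMod 2) : Wd) = 0 from rfl, add_zero, ← wmask, wmask_wd]
    exact List.mem_filter.2 ⟨cm_code n, by simpa using h⟩
  · rcases h with h | h
    · refine ⟨0, _, rfl, mem_octads.2 ?_⟩
      rw [show (fun _ => (0 : ZMod 2) : Wd) = 0 from rfl, add_zero, ← wmask, wmask_wd]
      exact List.mem_filter.2 ⟨cm_code n, by simpa using h⟩
    · refine ⟨1, _, rfl, mem_octads.2 ?_⟩
      rw [← wmask, wmask_add, wmask_wd, show (fun _ => (1 : ZMod 2) : Wd) = 1 from rfl, wmask_one_eq]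
      refine List.mem_filter.2 ⟨codeMasks_xor (cm_code n) (wmask_one_eq ▸ one_mem_codeMasks), ?_⟩
      simpa using hx _ (codeMasks_lt _ (cm_code n)) h

theorem class_trans {n m : ℕ} (hn : n < 2048) (hm : m < 2048) (h0 : n ≠ 0) (h0' : m ≠ 0)
    (e : Nat.testBit orbM n = Nat.testBit orbM m) :
    ∃ σ ∈ M24, ∃ k : ZMod 2, (wd m : Wd) = actW σ (wd n : Wd) + fun _ => k := by
  obtain ⟨k1, v, ev, hv⟩ := class_rep hn h0
  obtain ⟨k2, w, ew, hw⟩ := class_rep hm h0'
  rw [← e] at hw
  obtain ⟨σ, hσ, hs⟩ : ∃ σ ∈ M24, σ • support₂ v = support₂ w := by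
    cases hb : Nat.testBit orbM n <;> simp only [hb, if_false, if_true, Bool.false_eq_true] at hv hw
    · exact dodecad_trans hv hw
    · exact octad_trans hv hw
  have hvw : actW σ v = w := support₂_injective (by rw [support₂_actW, hs])
  refine ⟨σ, hσ, k1 + k2, ?_⟩
  rw [ev, ew, actW_add, actW_const] at hvw
  funext p
  have h := congrFun hvw p
  simp only [Pi.add_apply] at h ⊢
  exact zm_shift _ _ _ _ h

/-- additive maps preserving the two classes come from the group -/
theorem exists_acts {f : ℕ → ℕ} (hf : ∀ n < 2048, f n < 2048)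
    (hadd : ∀ a < 2048, ∀ b < 2048, f (a ^^^ b) = f a ^^^ f b) (hinj : ∀ a < 2048, ∀ b < 2048, f a = f b → a = b)
    (horb : ∀ n < 2048, Nat.testBit orbM (f n) = Nat.testBit orbM n) :
    ∃ σ ∈ M24, Acts σ f := by
  classical
  choose nn hnn kk hkk using wd_surj
  have huniq : ∀ (c : ↥golayCode) n, n < 2048 → ∀ k : ZMod 2, (c : Wd) = (wd n : Wd) + (fun _ => k) →
      nn c = n ∧ kk c = k := by
    intro c n hn k e
    have h := (hkk c).symm.trans e
    have e1 : nn c = n := wd_unique (hnn c) hn (k := k + kk c) (by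
      funext p
      have h' := congrFun h p
      simp only [Pi.add_apply] at h' ⊢
      exact zm_back _ _ _ _ h')
    refine ⟨e1, ?_⟩
    rw [e1] at h
    exact congrFun (add_left_cancel h) none
  let x0 : ↥golayCode →+ ↥golayCode := AddMonoidHom.mk' (fun c => wd (f (nn c)) + kk c • oneW) fun a b => by
    obtain ⟨e1, e2⟩ := huniq (a + b) (nn a ^^^ nn b) (Nat.xor_lt_two_pow (n := 11) (hnn a) (hnn b)) (kk a + kk b) (by
      rw [Submodule.coe_add, hkk a, hkk b, wd_add, Submodule.coe_add]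
      funext p; simp only [Pi.add_apply]; ring)
    rw [e1, e2, hadd _ (hnn a) _ (hnn b), wd_add, add_smul]
    abel
  have hone : ∀ k : ZMod 2, ((k • oneW : ↥golayCode) : Wd) = fun _ => k := fun k => by
    funext p
    show k * 1 = k
    rw [mul_one]
  have hx0 : ∀ c, (x0 c : Wd) = (wd (f (nn c)) : Wd) + fun _ => kk c := fun c => by
    show ((wd (f (nn c)) + kk c • oneW : ↥golayCode) : Wd) = _
    rw [Submodule.coe_add, hone]
  let x1 : ↥golayCode →ₗ[ZMod 2] ↥golayCode := AddMonoidHom.toZModLinearMap 2 x0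
  have hbij : Function.Bijective x1 := by
    refine Finite.injective_iff_bijective.1 fun a b e => Subtype.ext ?_
    have e' : (x0 a : Wd) = x0 b := congrArg Subtype.val e
    rw [hx0, hx0] at e'
    have h1 : f (nn a) = f (nn b) := wd_unique (hf _ (hnn a)) (hf _ (hnn b)) (k := kk a + kk b) (by
      funext p
      have h' := congrFun e' p
      simp only [Pi.add_apply] at h' ⊢
      rw [add_comm (kk a)]; exact zm_back _ _ _ _ h')
    rw [h1] at e'
    rw [hkk a, hkk b, hinj _ (hnn a) _ (hnn b) h1, add_left_cancel e']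
  let x := LinearEquiv.ofBijective x1 hbij
  have hop : OrbitPreserving x := fun c => by
    show ∃ σ k, (x0 c : Wd) = _
    rw [hx0 c]
    by_cases h0 : nn c = 0
    · refine ⟨1, 0, ?_⟩
      have hf0 : f 0 = 0 := by
        have := hadd 0 (by norm_num) 0 (by norm_num)
        rwa [Nat.xor_self, Nat.xor_self] at this
      rw [hkk c, h0, hf0]
      exact (add_zero _).symm
    have h0' : f (nn c) ≠ 0 := fun e => h0 (hinj _ (hnn c) 0 (by norm_num) (e.trans (by
      have := hadd 0 (by norm_num) 0 (by norm_num)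
      rw [Nat.xor_self, Nat.xor_self] at this
      exact this.symm)))
    obtain ⟨σ, -, k, e⟩ := class_trans (hnn c) (hf _ (hnn c)) h0 h0' (horb _ (hnn c)).symm
    refine ⟨σ, k, ?_⟩
    conv_rhs => rw [hkk c]
    rw [e, actW_add, actW_const]
    funext p; simp only [Pi.add_apply]; ring
  obtain ⟨σ, hσ, hs⟩ := hop.induced
  refine ⟨σ, hσ, fun n hn => ?_⟩
  obtain ⟨e1, e2⟩ := huniq (wd n) n hn 0 (by exact (add_zero _).symm)
  obtain ⟨k, e⟩ := hs (wd n)
  refine ⟨k, ?_⟩
  rw [← e]
  show _ = (x0 (wd n) : Wd)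
  rw [hx0, e1, e2]
  exact (add_zero _).symm

/-- transitivity inside the classes -/
theorem exists_moving {n m : ℕ} (hn : n < 2048) (hm : m < 2048) (h0 : n ≠ 0) (h0' : m ≠ 0)
    (e : Nat.testBit orbM n = Nat.testBit orbM m) :
    ∃ σ ∈ M24, ∀ f : ℕ → ℕ, (∀ a < 2048, f a < 2048) → Acts σ f → f n = m := by
  obtain ⟨σ, hσ, k, ek⟩ := class_trans hn hm h0 h0' e
  refine ⟨σ, hσ, fun f hf hA => ?_⟩
  obtain ⟨k', ek'⟩ := hA n hn
  refine wd_unique (hf n hn) hm (k := k' + k) ?_
  rw [ek', ek, add_assoc]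
  funext p
  simp only [Pi.add_apply]
  exact (by decide : ∀ u k k' : ZMod 2, u + k' = u + (k + (k' + k))) _ _ _

end Cfsg.Agent.Spor.CoT.Octad
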