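import Cfsg.Agent.Lib.Spor.CoTOctad.Space

/-!
Groups of Conway type: coordinates on the elementary abelian subgroup of order 2048.
-/

set_option autoImplicit false
set_option maxRecDepth 100000
set_option linter.unusedSectionVars false

namespace Cfsg.Agent.Spor.CoT.Octad

theorem Tg_zero {u : V} (hu : u ≠ 0) (hq : qm u = 0) : Tg u 0 = 1 := Ga_ext fun v => by
  rw [Tg_act hu hq (pol_zero_right u), one_smul, tV, pol_zero_right, qm_zero]
  simp

theorem Tg_inv {u a : V} (hu : u ≠ 0) (hq : qm u = 0) (hp : pol u a = 0) : (Tg u a)⁻¹ = Tg u a :=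
  inv_eq_of_mul_eq_one_right (by rw [Tg_add hu hq hp hp, ZModModule.add_self, Tg_zero hu hq])

/-- the pair after a choice of six bits, on vectors -/
def wV (ω : Fin 6 → Bool) (v : V) : V :=
  (List.finRange 6).foldr (fun k r => bif ω k then tV (eU (pr k).1) (eU (pr k).2) r else r) v

/-- the product of six transvections chosen by bits -/
noncomputable def wG (ω : Fin 6 → Bool) : Ga :=
  ((List.finRange 6).map fun k => bif ω k then Tp k else 1).prod

theorem wG_act (ω : Fin 6 → Bool) (v : V) : wG ω • v = wV ω v := by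
  unfold wG wV
  generalize List.finRange 6 = l
  induction l with
  | nil => simp
  | cons k l ih =>
    rw [List.map_cons, List.prod_cons, mul_smul, ih, List.foldr_cons]
    cases ω k
    · simp
    · simp only [cond_true, Tp_act]

theorem split_V : ∀ v : V, v = ∑ k : Fin 4, pol (eU k) v • fU k + ∑ k : Fin 4, pol (fU k) v • eU k := by
  decide +kernel

/-- the number of the line through two points -/
def ix : Fin 4 → Fin 4 → Fin 6 := ![![0, 0, 1, 2], ![0, 0, 3, 4], ![1, 3, 0, 5], ![2, 4, 5, 0]]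

theorem ix_spec : ∀ i k : Fin 4, i ≠ k → ((pr (ix i k)).1 = i ∧ (pr (ix i k)).2 = k) ∨
    ((pr (ix i k)).1 = k ∧ (pr (ix i k)).2 = i) := by decide +kernel

theorem wV_fU : ∀ (ω : Fin 6 → Bool) (i k : Fin 4),
    pol (fU k) (wV ω (fU i)) = (if i = k then 0 else bif ω (ix i k) then 1 else 0) ∧
      pol (eU k) (wV ω (fU i)) = (if k = i then 1 else 0) := by
  decide +kernel

theorem pr_facts : (∀ j : Fin 6, (pr j).1 ≠ (pr j).2) ∧
    (∀ j j' : Fin 6, j = j' ∨ (pr j).1 = (pr j').1 ∨ (pr j).1 = (pr j').2 ∨ (pr j).2 = (pr j').1 ∨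
      (pr j).2 = (pr j').2 ∨ (j = 0 ∧ j' = 5) ∨ (j = 5 ∧ j' = 0) ∨ (j = 1 ∧ j' = 4) ∨ (j = 4 ∧ j' = 1) ∨
      (j = 2 ∧ j' = 3) ∨ (j = 3 ∧ j' = 2)) := by
  decide +kernel

theorem wV_eU : ∀ (ω : Fin 6 → Bool) (i : Fin 4), wV ω (eU i) = eU i := by decide +kernel

theorem smul_sum' {n : ℕ} (g : Ga) (f : Fin n → V) : g • ∑ k, f k = ∑ k, g • f k := map_sum (g : OG).1 f _

/-- an element fixing the subspace is a product of the six transvections -/
theorem fixer_eq (g : Ga) (hg : ∀ v, InU v → g • v = v) : ∃ ω, g = wG ω := by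
  obtain ⟨h1, h2, -, -⟩ := eU_facts
  set M : Fin 4 → Fin 4 → ZMod 2 := fun i k => pol (fU k) (g • fU i) with hM
  have he : ∀ i k, pol (eU k) (g • fU i) = if k = i then 1 else 0 := fun i k => by
    conv_lhs => rw [← hg _ (h1 k).2.2.1]
    rw [smul_pol, (h2 k i).2.2.1]
  have hgi : ∀ i, g • fU i = fU i + ∑ k : Fin 4, M i k • eU k := fun i => by
    conv_lhs => rw [split_V (g • fU i)]
    congr 1
    rw [Finset.sum_eq_single i (fun k _ hk => by rw [he, if_neg hk, zero_smul]) (fun h => absurd (Finset.mem_univ i) h),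
      he, if_pos rfl, one_smul]
  have hsym : ∀ i j, M i j = M j i := fun i j => by
    have e := (smul_pol g (fU i) (fU j)).trans (h2 i j).2.1
    rw [hgi i, hgi j] at e
    simp only [pol_add_left, pol_add_right, (h2 i j).2.1, Fin.sum_univ_four, pol_smul_left, pol_smul_right,
      (h2 _ _).1, pol_comm' (fU i) (eU _), (h2 _ _).2.2.1, mul_zero, add_zero, zero_add] at e
    fin_cases i <;> fin_cases j <;> simp at e <;>
      first | rfl | exact CharTwo.add_eq_zero.1 e | exact (CharTwo.add_eq_zero.1 e).symm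
  have hdiag : ∀ i, M i i = 0 := fun i => by
    have e := (smul_qm g (fU i)).trans (h1 i).2.2.2
    have hU : qm (∑ k : Fin 4, M i k • eU k) = 0 := by
      refine qm_U fun j => ?_
      rw [Finset.sum_apply]
      exact Finset.sum_eq_zero fun k _ => by rw [Pi.smul_apply, (h1 k).2.2.1 j, smul_zero]
    rw [hgi i, qm_add, (h1 i).2.2.2, hU, zero_add, zero_add] at e
    simp only [Fin.sum_univ_four, pol_add_right, pol_smul_right, pol_comm' (fU i) (eU _), (h2 _ i).2.2.1] at e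
    fin_cases i <;> simpa using e
  refine ⟨fun j => decide (M (pr j).1 (pr j).2 = 1), Ga_ext fun v => ?_⟩
  rw [wG_act]
  have hlin : ∀ i, g • fU i = wV (fun j => decide (M (pr j).1 (pr j).2 = 1)) (fU i) := fun i => by
    refine ((split_V _).trans ?_).trans (split_V _).symm
    refine congrArg₂ (· + ·) (Finset.sum_congr rfl fun k _ => ?_) (Finset.sum_congr rfl fun k _ => ?_)
    · rw [he, (wV_fU _ i k).2]
    · have hM' : pol (fU k) (g • fU i) = M i k := rfl
      rw [(wV_fU _ i k).1, hM']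
      refine congrArg (· • eU k) ?_
      by_cases hik : i = k
      · rw [if_pos hik, hik, hdiag]
      · rw [if_neg hik]
        have e : M i k = M (pr (ix i k)).1 (pr (ix i k)).2 := by
          rcases ix_spec i k hik with ⟨a, b⟩ | ⟨a, b⟩
          · rw [a, b]
          · rw [a, b]; exact hsym i k
        rw [e]
        rcases zm2 (M (pr (ix i k)).1 (pr (ix i k)).2) with e' | e' <;> rw [e'] <;> decide
  have lhs : g • v = ∑ k : Fin 4, pol (eU k) v • g • fU k + ∑ k : Fin 4, pol (fU k) v • eU k := by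
    conv_lhs => rw [split_V v]
    rw [smul_add', smul_sum', smul_sum']
    simp only [smul_smul', hg _ (h1 _).2.2.1]
  rw [lhs, ← wG_act]
  conv_rhs => rw [split_V v]
  rw [smul_add', smul_sum', smul_sum']
  simp only [smul_smul', wG_act, wV_eU, hlin]

universe u

variable {G : Type u} [Group G] [Finite G] {z : G} {Q : Subgroup G}

/-- the points with their elements over the six lines -/
structure Pts (F : Frame z Q) where
  x : Fin 4 → G
  sing : ∀ i, Sing F (x i)
  vx : ∀ i, F.vec (x i) = eU i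
  w : Fin 6 → Subgroup.centralizer ({z} : Set G)
  wl : ∀ k, InQ z Q (x (pr k).1) (w k)
  wr : ∀ k, InQ z Q (x (pr k).2) (w k)
  wπ : ∀ k, F.π (w k) = Tp k

theorem exists_pts (F : Frame z Q) {x0 : G} (h : Hyp z Q) (B : Base F x0) : Nonempty (Pts F) := by
  obtain ⟨h1, h2, -, -⟩ := eU_facts
  choose x hx xv using fun i => exists_sing F (h1 i).1 (h1 i).2.1
  choose w w1 w2 w3 using fun k : Fin 6 => exists_pair F h B (hx (pr k).1) (hx (pr k).2)
    (fun e => pr_facts.1 k ((h2 _ _).2.2.2 (by rw [← xv, ← xv, e]))) (by rw [xv, xv]; exact (h2 _ _).1)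
  exact ⟨⟨x, hx, xv, w, w1, w2, fun k => by rw [w3, xv, xv]; rfl⟩⟩

variable {F : Frame z Q} {x0 : G} (P : Pts F)

theorem Pts.w_A (h : Hyp z Q) (B : Base F x0) (k : Fin 6) : (P.w k : G) ∈ Asub F :=
  mem_A F h B (P.sing _) (by rw [P.vx]; exact (eU_facts.1 _).2.2.1) (P.wl k) (eU_facts.1 (pr k).2).2.2.1
    (by rw [P.wπ, P.vx]; rfl)

/-- the generators -/
def Pts.gen (k : Fin 11) : G :=
  if k.val = 0 then z else if h : k.val < 5 then P.x ⟨k.val - 1, by omega⟩
  else (P.w ⟨k.val - 5, by omega⟩ : G)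

theorem Pts.x_E (i : Fin 4) : P.x i ∈ Eset F := ⟨(P.sing i).mem, by rw [P.vx]; exact (eU_facts.1 i).2.2.1⟩

theorem Pts.gen_A (h : Hyp z Q) (B : Base F x0) (k : Fin 11) : P.gen k ∈ Asub F := by
  unfold Pts.gen
  split_ifs
  exacts [E_A F h (z_E F h), E_A F h (P.x_E _), P.w_A h B _]

theorem Pts.w_sq (h : Hyp z Q) (B : Base F x0) (k : Fin 6) : (P.w k : G) * P.w k = 1 := by
  have hp : pol (F.vec (P.x (pr k).1)) (eU (pr k).2) = 0 := by rw [P.vx]; exact (eU_facts.2.1 _ _).1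
  rw [sq_over F h B (P.sing _) (P.wl k) hp (by rw [P.wπ, P.vx]; rfl), (eU_facts.1 _).2.1, p2_zero]

theorem Pts.w_share (h : Hyp z Q) (B : Base F x0) {k k' : Fin 6} {i j j' : Fin 4}
    (hk : (pr k).1 = i ∧ (pr k).2 = j ∨ (pr k).2 = i ∧ (pr k).1 = j)
    (hk' : (pr k').1 = i ∧ (pr k').2 = j' ∨ (pr k').2 = i ∧ (pr k').1 = j') :
    Commute (P.w k : G) (P.w k') := by
  have key : ∀ (k : Fin 6) (j : Fin 4), ((pr k).1 = i ∧ (pr k).2 = j ∨ (pr k).2 = i ∧ (pr k).1 = j) →
      InQ z Q (P.x i) (P.w k) ∧ F.π (P.w k) = Tg (F.vec (P.x i)) (eU j) := fun k j hk => by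
    rw [P.vx, P.wπ, Tp]
    rcases hk with ⟨rfl, rfl⟩ | ⟨rfl, rfl⟩
    · exact ⟨P.wl k, rfl⟩
    · exact ⟨P.wr k, Tg_symm (eU_facts.1 _).1 (eU_facts.1 _).1 (eU_facts.1 _).2.1 (eU_facts.1 _).2.1
        (eU_facts.2.1 _ _).1⟩
  obtain ⟨a1, a2⟩ := key k j hk
  obtain ⟨b1, b2⟩ := key k' j' hk'
  have hp : ∀ j, pol (F.vec (P.x i)) (eU j) = 0 := fun j => by rw [P.vx]; exact (eU_facts.2.1 _ _).1
  have := comm_over F h B (P.sing i) a1 b1 (hp j) (hp j') a2 b2
  rwa [(eU_facts.2.1 j j').1, p2_zero, one_mul] at this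

/-- moves of commutation between opposite lines -/
theorem Pts.w_turn (h : Hyp z Q) (B : Base F x0) {i j i' j' : Fin 4} {p q r : Fin 6} (g : Ga)
    (hg : g = Tg (eU j') (fU i') * Tg (eU i) (fU j) ∧ i' ≠ j' ∧ i ≠ j)
    {c l : Subgroup.centralizer ({z} : Set G)} (hc : (c : G) ∈ Asub F) (hl : (l : G) ∈ Asub F)
    (ec : g * F.π c * g⁻¹ = Tp p * Tp q) (el : g * F.π l * g⁻¹ = Tp r) (hcl : Commute (c : G) l)
    (hpr : Commute (P.w p : G) (P.w r)) : Commute (P.w q : G) (P.w r) := by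
  obtain ⟨h1, h2, -, -⟩ := eU_facts
  obtain ⟨k, hk⟩ := F.π_surj g
  have tu : ∀ (a b : Fin 4) {v : V}, a ≠ b → InU v → InU (Tg (eU a) (fU b) • v) := fun a b v hab hv => by
    rw [Tg_act (h1 a).1 (h1 a).2.1 ((h2 a b).2.2.1.trans (if_neg hab)), tV, pol_U hv (h1 a).2.2.1, zero_smul,
      add_zero]
    refine InU_add hv ?_
    rcases zm2 (pol v (fU b)) with e | e <;> rw [e]
    · rw [zero_smul]; exact InU_zero
    · rw [one_smul]; exact (h1 a).2.2.1
  have hinv : ∀ v, InU v → InU ((F.π k)⁻¹ • v) := fun v hv => by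
    rw [hk, hg.1, mul_inv_rev, Tg_inv (h1 _).1 (h1 _).2.1 ((h2 _ _).2.2.1.trans (if_neg hg.2.2)),
      Tg_inv (h1 _).1 (h1 _).2.1 ((h2 _ _).2.2.1.trans (if_neg hg.2.1.symm)), mul_smul]
    exact tu _ _ hg.2.2 (tu _ _ hg.2.1.symm hv)
  have m1 := conj_A F h hinv hc
  have m2 := conj_A F h hinv hl
  have hcl' : Commute ((k * c * k⁻¹ : Subgroup.centralizer ({z} : Set G)) : G)
      (k * l * k⁻¹ : Subgroup.centralizer ({z} : Set G)) := (Commute.conj_iff (k : G)).2 hcl
  have := comm_image₂ F h (c := k * c * k⁻¹) (c' := P.w p * P.w q) (l := k * l * k⁻¹) (l' := P.w r) m1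
    (mul_mem (P.w_A h B p) (P.w_A h B q)) m2 (P.w_A h B r)
    (by rw [map_mul, map_mul, map_inv, hk, ec, map_mul, P.wπ, P.wπ])
    (by rw [map_mul, map_mul, map_inv, hk, el, P.wπ]) hcl'
  have := hpr.inv_left.mul_left this
  rwa [Subgroup.coe_mul, inv_mul_cancel_left] at this

theorem Pts.w_comm (h : Hyp z Q) (B : Base F x0) (hG : Good F) (k k' : Fin 6) :
    Commute (P.w k : G) (P.w k') := by
  obtain ⟨h1, h2, -, -⟩ := eU_facts
  obtain ⟨c, l, hc, hl, ec, el, hcl⟩ := hG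
  have c14 : Commute (P.w 1 : G) (P.w 4) :=
    comm_image₂ F h hc (P.w_A h B 1) hl (P.w_A h B 4) (ec.trans (P.wπ 1).symm) (el.trans (P.wπ 4).symm) hcl
  have facts : ∀ v : V,
      tV (eU 1) (fU 0) (tV (eU 0) (fU 1) (eU 0)) = eU 0 + eU 1 ∧ tV (eU 1) (fU 0) (tV (eU 0) (fU 1) (eU 1)) = eU 0 ∧
      tV (eU 1) (fU 0) (tV (eU 0) (fU 1) (eU 2)) = eU 2 ∧ tV (eU 1) (fU 0) (tV (eU 0) (fU 1) (eU 3)) = eU 3 ∧
      tV (eU 2) (fU 1) (tV (eU 1) (fU 2) (eU 0)) = eU 0 ∧ tV (eU 2) (fU 1) (tV (eU 1) (fU 2) (eU 1)) = eU 1 + eU 2 ∧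
      tV (eU 2) (fU 1) (tV (eU 1) (fU 2) (eU 2)) = eU 1 ∧ tV (eU 2) (fU 1) (tV (eU 1) (fU 2) (eU 3)) = eU 3 ∧
      tV (eU 0 + eU 1) (eU 2) v = tV (eU 0) (eU 2) (tV (eU 1) (eU 2) v) ∧
      tV (eU 1 + eU 2) (eU 3) v = tV (eU 1) (eU 3) (tV (eU 2) (eU 3) v) := by decide +kernel
  obtain ⟨a0, a1, a2, a3, b0, b1, b2, b3, -, -⟩ := facts 0
  have gact : ∀ (a b a' b' : Fin 4) (_ : a ≠ b) (_ : a' ≠ b') (v : V),
      (Tg (eU a) (fU b) * Tg (eU a') (fU b')) • v = tV (eU a) (fU b) (tV (eU a') (fU b') v) := fun a b a' b' hab hab' v => by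
    rw [mul_smul, Tg_act (h1 a').1 (h1 a').2.1 ((h2 _ _).2.2.1.trans (if_neg hab')),
      Tg_act (h1 a).1 (h1 a).2.1 ((h2 _ _).2.2.1.trans (if_neg hab))]
  have c23 : Commute (P.w 3 : G) (P.w 2) := P.w_turn h B (i := 0) (j := 1) (i' := 0) (j' := 1) (p := 1) (q := 3)
    (r := 2) _ ⟨rfl, by decide, by decide⟩ hc hl
    (by
      rw [ec, Tp, Tg_conj (h1 _).1 (h1 _).2.1 (h2 _ _).1, gact _ _ _ _ (by decide) (by decide),
        gact _ _ _ _ (by decide) (by decide), show (pr 1).1 = 0 from rfl, show (pr 1).2 = 2 from rfl, a0, a2]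
      refine Ga_ext fun v => ?_
      rw [mul_smul, Tp_act, Tg_act (u := eU 0 + eU 1) (by decide +kernel) (by decide +kernel) (by decide +kernel),
        Tg_act (h1 0).1 (h1 0).2.1 (h2 0 2).1]
      exact (facts v).2.2.2.2.2.2.2.2.1)
    (by
      rw [el, Tp, Tg_conj (h1 _).1 (h1 _).2.1 (h2 _ _).1, gact _ _ _ _ (by decide) (by decide),
        gact _ _ _ _ (by decide) (by decide), show (pr 4).1 = 1 from rfl, show (pr 4).2 = 3 from rfl, a1, a3]
      rfl)
    hcl (P.w_share h B (i := 0) (j := 2) (j' := 3) (by decide) (by decide))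
  have c50 : Commute (P.w 5 : G) (P.w 0) := P.w_turn h B (i := 1) (j := 2) (i' := 1) (j' := 2) (p := 4) (q := 5)
    (r := 0) _ ⟨rfl, by decide, by decide⟩ hl hc
    (by
      rw [el, Tp, Tg_conj (h1 _).1 (h1 _).2.1 (h2 _ _).1, gact _ _ _ _ (by decide) (by decide),
        gact _ _ _ _ (by decide) (by decide), show (pr 4).1 = 1 from rfl, show (pr 4).2 = 3 from rfl, b1, b3]
      refine Ga_ext fun v => ?_
      rw [mul_smul, Tp_act, Tg_act (u := eU 1 + eU 2) (by decide +kernel) (by decide +kernel) (by decide +kernel),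
        Tg_act (h1 1).1 (h1 1).2.1 (h2 1 3).1]
      exact (facts v).2.2.2.2.2.2.2.2.2)
    (by
      rw [ec, Tp, Tg_conj (h1 _).1 (h1 _).2.1 (h2 _ _).1, gact _ _ _ _ (by decide) (by decide),
        gact _ _ _ _ (by decide) (by decide), show (pr 1).1 = 0 from rfl, show (pr 1).2 = 2 from rfl, b0, b2]
      rfl)
    hcl.symm (P.w_share h B (i := 1) (j := 3) (j' := 0) (by decide) (by decide))
  rcases pr_facts.2 k k' with e | e | e | e | e | ⟨rfl, rfl⟩ | ⟨rfl, rfl⟩ | ⟨rfl, rfl⟩ | ⟨rfl, rfl⟩ |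
    ⟨rfl, rfl⟩ | ⟨rfl, rfl⟩
  · subst e; exact Commute.refl _
  · exact P.w_share h B (Or.inl ⟨rfl, rfl⟩) (Or.inl ⟨e.symm, rfl⟩)
  · exact P.w_share h B (Or.inl ⟨rfl, rfl⟩) (Or.inr ⟨e.symm, rfl⟩)
  · exact P.w_share h B (Or.inr ⟨rfl, rfl⟩) (Or.inl ⟨e.symm, rfl⟩)
  · exact P.w_share h B (Or.inr ⟨rfl, rfl⟩) (Or.inr ⟨e.symm, rfl⟩)
  exacts [c50.symm, c50, c14, c14.symm, c23.symm, c23]

theorem Pts.gen_comm (h : Hyp z Q) (B : Base F x0) (hG : Good F) (k k' : Fin 11) :
    Commute (P.gen k) (P.gen k') := by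
  have hk : ∀ k, P.gen k ∈ Eset F ∨ ∃ j, P.gen k = (P.w j : G) := fun k => by
    unfold Pts.gen
    split_ifs
    exacts [Or.inl (z_E F h), Or.inl (P.x_E _), Or.inr ⟨_, rfl⟩]
  rcases hk k with e | ⟨j, e⟩
  · exact E_central F h e (P.gen_A h B k')
  rcases hk k' with e' | ⟨j', e'⟩
  · exact (E_central F h e' (P.gen_A h B k)).symm
  rw [e, e']; exact P.w_comm h B hG j j'

theorem Pts.gen_sq (h : Hyp z Q) (B : Base F x0) (k : Fin 11) : P.gen k * P.gen k = 1 := by
  unfold Pts.gen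
  split_ifs
  exacts [zz h, (P.sing _).sq F, P.w_sq h B _]

/-- the coordinates -/
def Pts.psi (n : ℕ) : G :=
  ((List.finRange 11).map fun k => bif Nat.testBit n k.val then P.gen k else 1).prod

theorem Pts.psi_mem (h : Hyp z Q) (B : Base F x0) (n : ℕ) : P.psi n ∈ Asub F := by
  refine Subgroup.list_prod_mem _ fun a ha => ?_
  obtain ⟨k, -, rfl⟩ := List.mem_map.1 ha
  cases Nat.testBit n k.val
  exacts [one_mem _, P.gen_A h B k]

theorem Pts.psi_mul (h : Hyp z Q) (B : Base F x0) (hG : Good F) (a b : ℕ) :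
    P.psi (a ^^^ b) = P.psi a * P.psi b := by
  let f : ℕ → Fin 11 → G := fun n k => bif Nat.testBit n k.val then P.gen k else 1
  have hc : ∀ a b k k', Commute (f a k) (f b k') := fun a b k k' => by
    simp only [f]
    cases Nat.testBit a k.val <;> cases Nat.testBit b k'.val
    exacts [Commute.one_left _, Commute.one_left _, Commute.one_right _, P.gen_comm h B hG k k']
  have hm : ∀ k, f (a ^^^ b) k = f a k * f b k := fun k => by
    simp only [f, Nat.testBit_xor]
    cases Nat.testBit a k.val <;> cases Nat.testBit b k.val <;> simp [P.gen_sq h B k]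
  show ((List.finRange 11).map (f (a ^^^ b))).prod = ((List.finRange 11).map (f a)).prod * ((List.finRange 11).map (f b)).prod
  generalize List.finRange 11 = l
  induction l with
  | nil => simp
  | cons k l ih =>
    have hk : Commute (((l.map (f a))).prod) (f b k) := Commute.list_prod_left _ _ fun c hc' => by
      obtain ⟨k', -, rfl⟩ := List.mem_map.1 hc'
      exact hc _ _ _ _
    simp only [List.map_cons, List.prod_cons, ih, hm]
    rw [mul_assoc, ← mul_assoc (f b k), ← hk.eq]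
    group

theorem Pts.psi_zero : P.psi 0 = 1 := by
  refine List.prod_eq_one fun a ha => ?_
  obtain ⟨k, -, rfl⟩ := List.mem_map.1 ha
  simp

theorem Pts.psi_single (k : Fin 11) : P.psi (2 ^ k.val) = P.gen k := by
  have key : ∀ l : List (Fin 11), l.Nodup →
      ((l.map fun j => bif Nat.testBit (2 ^ k.val) j.val then P.gen j else 1).prod) = if k ∈ l then P.gen k else 1 := by
    intro l hl
    induction l with
    | nil => simp
    | cons j l ih =>
      rw [List.nodup_cons] at hl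
      rw [List.map_cons, List.prod_cons, ih hl.2, Nat.testBit_two_pow]
      by_cases e : k = j
      · subst e; simp [hl.1]
      · have : k.val ≠ j.val := fun h => e (Fin.ext h)
        simp [this, e]
  rw [Pts.psi, key _ (List.nodup_finRange 11), if_pos (List.mem_finRange k)]

theorem Pts.psi_z : P.psi 1 = z := P.psi_single 0

theorem Pts.psi_x (i : Fin 4) : P.psi (2 ^ (i.val + 1)) = P.x i := by
  rw [P.psi_single ⟨i.val + 1, by omega⟩, Pts.gen, if_neg (by simp), dif_pos (by simp; omega)]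
  exact congrArg P.x (Fin.ext (by simp))

theorem Pts.psi_w (k : Fin 6) : P.psi (2 ^ (k.val + 5)) = (P.w k : G) := by
  rw [P.psi_single ⟨k.val + 5, by omega⟩, Pts.gen, if_neg (by simp), dif_neg (by simp)]
  exact congrArg (fun k => (P.w k : G)) (Fin.ext (by simp))

theorem Pts.vec_low (h : Hyp z Q) (B : Base F x0) (hG : Good F) :
    ∀ n < 32, P.psi n ∈ Q ∧ F.vec (P.psi n) = vec (n / 2) := by
  have hgen : ∀ k < 5, P.psi (2 ^ k) ∈ Q ∧ F.vec (P.psi (2 ^ k)) = vec (2 ^ k / 2) := by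
    intro k hk
    rcases k with _ | k
    · rw [pow_zero, P.psi_z]; exact ⟨zQ h, by rw [(F.vec_zero z (zQ h)).2 (Or.inr rfl)]; decide +kernel⟩
    · have e := P.psi_x ⟨k, by omega⟩
      rw [e]
      exact ⟨(P.sing _).mem, by rw [P.vx, eU, show (2 : ℕ) ^ (k + 1) / 2 = 2 ^ k by rw [pow_succ]; omega]⟩
  have hstep : ∀ k ≤ 5, ∀ n < 2 ^ k, P.psi n ∈ Q ∧ F.vec (P.psi n) = vec (n / 2) := by
    intro k
    induction k with
    | zero =>
      intro _ n hn
      rw [show n = 0 by simpa using hn, P.psi_zero]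
      exact ⟨one_mem Q, by rw [vec_one F h]; decide +kernel⟩
    | succ k ih =>
      intro hk n hn
      rcases Nat.lt_or_ge n (2 ^ k) with e | e
      · exact ih (by omega) n e
      obtain ⟨a1, a2⟩ := ih (by omega) (n - 2 ^ k) (by rw [pow_succ] at hn; omega)
      obtain ⟨b1, b2⟩ := hgen k (by omega)
      have key : ∀ k < 5, ∀ n < 32, 2 ^ k ≤ n → n < 2 ^ (k + 1) → n = (n - 2 ^ k) ^^^ (2 ^ k) := by decide +kernel
      rw [key k (by omega) n (lt_of_lt_of_le hn (Nat.pow_le_pow_right (by norm_num) hk)) e hn, P.psi_mul h B hG]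
      exact ⟨mul_mem a1 b1, by rw [F.vec_mul _ a1 _ b1, a2, b2, Nat.xor_div_two]; exact (vec_xor _ _).symm⟩
  exact fun n hn => hstep 5 le_rfl n hn

theorem Pts.π_psi (h : Hyp z Q) (B : Base F x0) (hG : Good F) (n : ℕ) (hn : n < 2048) :
    F.π (cC (A_z F h (P.psi_mem h B n))) = wG (fun k => Nat.testBit n (k.val + 5)) := by
  have key : ∀ (l : List (Fin 11)) (hl : Commute ((l.map fun k => bif Nat.testBit n k.val then P.gen k else 1).prod) z),
      F.π (cC hl) = (l.map fun k => if h' : 5 ≤ k.val then (bif Nat.testBit n k.val then Tp ⟨k.val - 5, by omega⟩ else 1)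
        else 1).prod := by
    intro l
    induction l with
    | nil => intro hl; exact map_one F.π
    | cons k l ih =>
      intro hl
      have hz : ∀ k, Commute (bif Nat.testBit n k then (1 : G) else 1) z := fun k => by simp
      have h1 : Commute (bif Nat.testBit n k.val then P.gen k else 1) z := by
        cases Nat.testBit n k.val
        exacts [Commute.one_left _, A_z F h (P.gen_A h B k)]
      have h2 : Commute ((l.map fun k => bif Nat.testBit n k.val then P.gen k else 1).prod) z :=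
        A_z F h (Subgroup.list_prod_mem _ fun a ha => by
          obtain ⟨j, -, rfl⟩ := List.mem_map.1 ha
          cases Nat.testBit n j.val
          exacts [one_mem _, P.gen_A h B j])
      rw [show cC hl = cC h1 * cC h2 from Subtype.ext (List.prod_cons), map_mul, ih h2, List.map_cons, List.prod_cons]
      congr 1
      split_ifs with h5
      · rcases Bool.eq_false_or_eq_true (Nat.testBit n k.val) with hb | hb
        · refine Eq.trans ?_ (congrArg (fun t => bif t then Tp ⟨k.val - 5, by omega⟩ else 1) hb).symm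
          have : cC h1 = P.w ⟨k.val - 5, by omega⟩ := Subtype.ext (by
            show (bif Nat.testBit n k.val then P.gen k else 1) = _
            rw [hb]
            show P.gen k = _
            rw [Pts.gen, if_neg (by omega), dif_neg (by omega)])
          rw [this, P.wπ]; rfl
        · refine Eq.trans ?_ (congrArg (fun t => bif t then Tp ⟨k.val - 5, by omega⟩ else 1) hb).symm
          refine (F.π_ker _).2 ?_
          show (bif Nat.testBit n k.val then P.gen k else 1) ∈ Q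
          rw [hb]; exact one_mem Q
      · refine (F.π_ker _).2 ?_
        show (bif Nat.testBit n k.val then P.gen k else 1) ∈ Q
        rcases Bool.eq_false_or_eq_true (Nat.testBit n k.val) with hb | hb <;> rw [hb]
        · show P.gen k ∈ Q
          unfold Pts.gen
          split_ifs with h0
          exacts [zQ h, (P.sing _).mem, absurd (by omega) h5]
        · exact one_mem Q
  refine (key (List.finRange 11) (A_z F h (P.psi_mem h B n))).trans ?_
  rw [wG]
  simp [List.finRange_succ, Tp]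

theorem Pts.psi_inj (h : Hyp z Q) (B : Base F x0) (hG : Good F) (a b : ℕ) (ha : a < 2048) (hb : b < 2048)
    (e : P.psi a = P.psi b) : a = b := by
  have hab : a ^^^ b < 2 ^ 11 := Nat.xor_lt_two_pow ha hb
  have h1 : P.psi (a ^^^ b) = 1 := by
    rw [P.psi_mul h B hG, e, ← P.psi_mul h B hG, Nat.xor_self, P.psi_zero]
  suffices a ^^^ b = 0 from Nat.eq_of_xor_eq_zero this
  set c := a ^^^ b
  have hπ := P.π_psi h B hG c hab
  rw [show cC (A_z F h (P.psi_mem h B c)) = 1 from Subtype.ext h1, map_one] at hπ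
  have hz : ∀ k : Fin 6, Nat.testBit c (k.val + 5) = false := fun k => by
    have key : ∀ ω : Fin 6 → Bool, (∀ i, wV ω (fU i) = fU i) → ∀ k, ω k = false := by decide +kernel
    exact key _ (fun i => by rw [← wG_act, ← hπ, one_smul]) k
  have hlow : c < 32 := by
    by_contra hn
    obtain ⟨i, hi1, hi2⟩ := Nat.exists_ge_and_testBit_of_ge_two_pow (show c ≥ 2 ^ 5 by omega)
    rcases Nat.lt_or_ge i 11 with hi | hi
    · have := hz ⟨i - 5, by omega⟩
      simp only [show i - 5 + 5 = i by omega] at this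
      rw [this] at hi2; cases hi2
    · rw [Nat.testBit_lt_two_pow (lt_of_lt_of_le hab (Nat.pow_le_pow_right (by norm_num) hi))] at hi2; cases hi2
  obtain ⟨-, hv⟩ := P.vec_low h B hG c hlow
  rw [h1, vec_one F h] at hv
  have h2 : c / 2 = 0 := by
    have e0 := congrArg enc hv
    rw [enc_zero, enc_vec _ (by omega)] at e0
    omega
  rcases (show c = 0 ∨ c = 1 by omega) with e' | e'
  · exact e'
  · rw [e', P.psi_z] at h1; exact absurd h1 (z_ne h)

theorem Pts.psi_surj (h : Hyp z Q) (B : Base F x0) (hG : Good F) {a : G} (ha : a ∈ Asub F) :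
    ∃ n < 2048, P.psi n = a := by
  obtain ⟨ω, hω⟩ := fixer_eq (F.π (cC (A_z F h ha))) fun v hv => π_fix F h ha hv
  obtain ⟨n1, hn1, hbits⟩ : ∃ n < 2048, ∀ k : Fin 6, Nat.testBit n (k.val + 5) = ω k := by
    have key : ∀ ω : Fin 6 → Bool, ∃ m : Fin 64, ∀ k : Fin 6, Nat.testBit (32 * m.val) (k.val + 5) = ω k := by
      decide +kernel
    obtain ⟨m, hm⟩ := key ω
    exact ⟨32 * m.val, by omega, hm⟩
  have hπ := P.π_psi h B hG n1 hn1
  rw [show (fun k : Fin 6 => Nat.testBit n1 (k.val + 5)) = ω from funext hbits, ← hω] at hπ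
  have hQ : (P.psi n1)⁻¹ * a ∈ Q := (F.π_ker ((cC (A_z F h (P.psi_mem h B n1)))⁻¹ * cC (A_z F h ha))).1 (by
    rw [map_mul, map_inv, hπ, inv_mul_cancel])
  obtain ⟨hqQ, hqU⟩ := AQ_E F h hQ (mul_mem (inv_mem (P.psi_mem h B n1)) ha)
  have h16 : enc (F.vec ((P.psi n1)⁻¹ * a)) < 16 := by
    have key : ∀ v : V, (∀ i : Fin 4, v (.inr i) = 0) → enc v < 16 := by decide +kernel
    exact key _ hqU
  set m := enc (F.vec ((P.psi n1)⁻¹ * a))
  obtain ⟨p1, p2'⟩ := P.vec_low h B hG (2 * m) (by omega)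
  rw [show 2 * m / 2 = m by omega, vec_enc] at p2'
  have hlt : ∀ b, b < 32 → n1 ^^^ b < 2048 := fun b hb => Nat.xor_lt_two_pow (n := 11) hn1 (by omega)
  rcases vec_eq F hqQ p1 h p2'.symm with e | e
  · exact ⟨n1 ^^^ (2 * m), hlt _ (by omega), by rw [P.psi_mul h B hG, ← e, mul_inv_cancel_left]⟩
  · refine ⟨n1 ^^^ (2 * m ^^^ 1), hlt _ (Nat.xor_lt_two_pow (n := 5) (by omega) (by omega)), ?_⟩
    rw [P.psi_mul h B hG, P.psi_mul h B hG, P.psi_z, ← e, mul_inv_cancel_left]

theorem Pts.elem (P : Pts F) (h : Hyp z Q) (B : Base F x0) (hG : Good F) :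
    Cfsg.IsElementaryAbelian 2 (Asub F) ∧ Nat.card (Asub F) = 2 ^ 11 := by
  have hcomm : ∀ a ∈ Asub F, ∀ b ∈ Asub F, a * b = b * a := fun a ha b hb => by
    obtain ⟨m, -, rfl⟩ := P.psi_surj h B hG ha
    obtain ⟨n, -, rfl⟩ := P.psi_surj h B hG hb
    rw [← P.psi_mul h B hG, ← P.psi_mul h B hG, Nat.xor_comm]
  refine ⟨⟨⟨⟨fun a b => Subtype.ext (hcomm a a.2 b b.2)⟩⟩, fun a ha => ?_⟩, ?_⟩
  · obtain ⟨m, -, rfl⟩ := P.psi_surj h B hG ha
    rw [pow_two, ← P.psi_mul h B hG, Nat.xor_self, P.psi_zero]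
  · rw [← Nat.card_congr (Equiv.ofBijective (fun n : Fin (2 ^ 11) => (⟨P.psi n, P.psi_mem h B n⟩ : Asub F)) ⟨?_, ?_⟩),
      Nat.card_fin]
    · exact fun a b e => Fin.ext (P.psi_inj h B hG a b a.2 b.2 (congrArg Subtype.val e))
    · rintro ⟨a, ha⟩
      obtain ⟨n, hn, rfl⟩ := P.psi_surj h B hG ha
      exact ⟨⟨n, hn⟩, rfl⟩

end Cfsg.Agent.Spor.CoT.Octad
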