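import Cfsg.Agent.Lib.Spor.CoTOctad.Orbit

/-!
Groups of Conway type: coordinates in which the orbit of the central involution is one explicit set.
-/

set_option autoImplicit false
set_option maxRecDepth 100000
set_option linter.unusedSectionVars false

namespace Cfsg.Agent.Spor.CoT.Octad

/-- a bit as a number -/
def bn (b : Bool) : ℕ := bif b then 1 else 0

theorem bn_xor : ∀ a b : Bool, bn (xor a b) = bn a ^^^ bn b := by decide

theorem bn_le (b : Bool) : bn b ≤ 1 := by cases b <;> decide

/-- membership for unknowns -/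
def candK (f : ℕ → Bool) (n : ℕ) : Bool :=
  n == 1 || cl (n / 2) == 0 || cl (n / 2) == 1 ||
    (cl (n / 2) == 3 && ((n % 2 == 1) == xor (f (idw (n / 32))) (nonT.getD (n / 2) 0 / 16 == 1)))

theorem cand_eq (key n : ℕ) : cand key n = candK (Nat.testBit key) n := rfl

theorem idw_spec : ∀ w : Fin 64, idw w.val < 28 → omT.getD (idw w.val) 0 = w.val := by decide +kernel

theorem dlt_par : ∀ (β : Fin 6 → Bool) (w : Fin 64), ev (dlt β) (32 * w.val) =
    bn ((List.finRange 6).foldl (fun r l => xor r (β l && Nat.testBit w.val l.val)) false) := by decide +kernel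

theorem omT_lt : ∀ i : Fin 28, omT.getD i.val 0 < 64 := by decide +kernel

theorem free_mask : ∀ i : Fin 28, (comT.getD i.val ([], 0, false)).2.1 =
    (List.range 7).foldl (fun r q => r ^^^ (bif Nat.testBit (comT.getD i.val ([], 0, false)).2.1 (freeK.getD q 0)
      then 2 ^ freeK.getD q 0 else 0)) 0 := by decide +kernel

theorem free_spec : ∀ f : Fin 7 → Bool, ∃ s : Fin 128, ∀ q : Fin 7, Nat.testBit s.val q.val = f q := by
  decide +kernel

theorem xor_acc {α : Type*} (f : α → Bool) : ∀ (l : List α) (a b : Bool),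
    l.foldl (fun r x => xor r (f x)) (xor a b) = xor a (l.foldl (fun r x => xor r (f x)) b)
  | [], _, _ => rfl
  | x :: l, a, b => by rw [List.foldl_cons, List.foldl_cons, Bool.xor_assoc, xor_acc f l]

theorem xor_two {α : Type*} (f g : α → Bool) : ∀ (l : List α),
    l.foldl (fun r x => xor r (xor (f x) (g x))) false =
      xor (l.foldl (fun r x => xor r (f x)) false) (l.foldl (fun r x => xor r (g x)) false)
  | [] => rfl
  | x :: l => by
    simp only [List.foldl_cons, Bool.false_xor]
    conv_lhs => rw [← Bool.xor_false (xor (f x) (g x)), xor_acc _ l, xor_two f g l]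
    conv_rhs => rw [← Bool.xor_false (f x), ← Bool.xor_false (g x), xor_acc f l, xor_acc g l]
    cases f x <;> cases g x <;> simp

theorem parX_xor (X : ℕ → Bool) (a b : ℕ) : parX X (a ^^^ b) = xor (parX X a) (parX X b) := by
  rw [parX, parX, parX, ← xor_two]
  congr 1
  funext r l
  rw [Nat.testBit_xor]
  cases X l <;> simp

theorem parX_zero (X : ℕ → Bool) : parX X 0 = false := by
  unfold parX
  induction (List.range 100) with
  | nil => rfl
  | cons l L ih => simp [List.foldl_cons]

theorem parX_pow (X : ℕ → Bool) {i : ℕ} (hi : i < 100) : parX X (2 ^ i) = X i := by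
  have key : ∀ k, (List.range k).foldl (fun r l => xor r (X l && Nat.testBit (2 ^ i) l)) false =
      (decide (i < k) && X i) := by
    intro k
    induction k with
    | zero => simp
    | succ k ih =>
      rw [List.range_succ, List.foldl_append, ih, List.foldl_cons, List.foldl_nil, Nat.testBit_two_pow]
      rcases lt_trichotomy i k with e | e | e
      · simp [e, show i < k + 1 by omega, ne_of_lt e]
      · subst e; simp
      · simp [show ¬ i < k by omega, show ¬ i < k + 1 by omega, ne_of_gt e]
  rw [parX, key, decide_eq_true hi, Bool.true_and]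

theorem parX_fold {α : Type*} (X : ℕ → Bool) (m : α → ℕ) : ∀ (l : List α) (r : ℕ),
    parX X (l.foldl (fun r x => r ^^^ m x) r) = l.foldl (fun r x => xor r (parX X (m x))) (parX X r)
  | [], _ => rfl
  | x :: l, r => by rw [List.foldl_cons, List.foldl_cons, parX_fold X m l, parX_xor]

theorem bn_inj : ∀ a b : Bool, bn a = bn b → a = b := by decide

theorem mod_two_bn (n : ℕ) : n = 2 * (n / 2) + bn (n % 2 == 1) := by
  rcases Nat.mod_two_eq_zero_or_one n with e | e <;> simp [bn, e] <;> omega

theorem pair_xor (m : ℕ) (a : Bool) : 2 * m ^^^ bn a = 2 * m + bn a := by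
  cases a
  · simp [bn]
  · simp [bn, Nat.xor_one_of_even]

theorem double_xor (m : ℕ) (a b : Bool) : (2 * m + bn a) ^^^ bn b = 2 * m + bn (xor a b) := by
  rw [← pair_xor, Nat.xor_assoc, ← bn_xor, pair_xor]

universe u

variable {G : Type u} [Group G] [Finite G] {z : G} {Q : Subgroup G} {F : Frame z Q} {x0 : G} (P : Pts F)

theorem evS_lift (R : Parts F) (h : Hyp z Q) (B : Base F x0) (hG : Good F) (S : ℕ) :
    ∃ c ∈ Subgroup.normalizer (Asub F : Set G), Commute c z ∧ ∀ n, c * P.psi n * c⁻¹ = P.psi (evS S n) := by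
  unfold evS
  have key : ∀ l : List ℕ, (∀ i ∈ l, i < 4) → ∃ c ∈ Subgroup.normalizer (Asub F : Set G), Commute c z ∧
      ∀ n, c * P.psi n * c⁻¹ = P.psi (l.foldl (fun r i => bif Nat.testBit S i then tr i r else r) n) := by
    intro l
    induction l with
    | nil => exact fun _ => ⟨1, one_mem _, Commute.one_left _, fun n => by simp⟩
    | cons i l ih =>
      intro hl
      obtain ⟨c, hc, hz, e⟩ := ih fun j hj => hl j (by simp [hj])
      cases hb : Nat.testBit S i
      · exact ⟨c, hc, hz, fun n => by rw [List.foldl_cons, hb]; exact e n⟩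
      · obtain ⟨c', hc', hz', e'⟩ := partner_lift P R h B hG (hl i (by simp))
        refine ⟨c * c', mul_mem hc hc', hz.mul_left hz', fun n => ?_⟩
        rw [List.foldl_cons, hb, cond_true, ← e, ← e']; group
  exact key _ fun i hi => List.mem_range.1 hi

open scoped _root_.Classical in
/-- the unknowns -/
noncomputable def Pts.kap (i : ℕ) : Bool := decide (¬ P.InO (32 * omT.getD i 0))

theorem Pts.non_unique (h : Hyp z Q) (B : Base F x0) (hG : Good F) {m : ℕ} (hm : m < 1024) (hcl : cl m = 3)
    {a b : Bool} (ha : P.InO (2 * m + bn a)) (hb : P.InO (2 * m + bn b)) : a = b := by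
  have hp : P.prs m = 1 := by
    rw [P.prs_class h B hG hm (fun e => by rw [e, cl_zero] at hcl; omega), hcl]
    exact (P.orbit_759 h B hG).2.2
  by_contra hne
  have : ∀ c : Bool, P.InO (2 * m + bn c) := fun c => by
    cases a <;> cases b <;> cases c <;> first | exact ha | exact hb | exact absurd rfl hne
  rw [Pts.prs, P.ind_pos (show P.InO (2 * m) from this false), P.ind_pos (show P.InO (2 * m + 1) from this true)] at hp
  omega

theorem Pts.InO_omT (h : Hyp z Q) (B : Base F x0) (hG : Good F) {i : ℕ} (hi : i < 28)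
    (hcl : cl (16 * omT.getD i 0) = 3) : P.InO (2 * (16 * omT.getD i 0) + bn (P.kap i)) := by
  classical
  set w := omT.getD i 0
  have hw := omT_lt ⟨i, hi⟩
  have hp : P.prs (16 * w) = 1 := by
    rw [P.prs_class h B hG (by simp only at hw; omega) (fun e => by rw [e, cl_zero] at hcl; omega), hcl]
    exact (P.orbit_759 h B hG).2.2
  have h32 : 2 * (16 * w) = 32 * w := by ring
  by_cases hw0 : P.InO (32 * w)
  · rwa [show P.kap i = false from decide_eq_false (not_not_intro hw0), show bn false = 0 from rfl, add_zero, h32]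
  · rw [show P.kap i = true from decide_eq_true hw0, show bn true = 1 from rfl]
    by_contra hn
    rw [Pts.prs, P.ind_neg (h32 ▸ hw0), P.ind_neg hn] at hp
    omega

theorem Pts.InO_non (h : Hyp z Q) (B : Base F x0) (hG : Good F) {m : ℕ} (hm : m < 1024) (hcl : cl m = 3) :
    P.InO (2 * m + bn (xor (P.kap (idw (m / 16))) (nonT.getD m 0 / 16 == 1))) := by
  have hk := non_ok ⟨m, hm⟩
  simp only [nonOK, hcl, Bool.or_eq_true, Bool.and_eq_true, beq_self_eq_true, Bool.not_true,
    Bool.false_eq_true, false_or] at hk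
  obtain ⟨⟨hi, he⟩, hlt⟩ := hk
  have hi' : idw (m / 16) < 28 := Nat.le_of_ble_eq_true hi
  have he' := Nat.eq_of_beq_eq_true he
  have hlt' : nonT.getD m 0 < 32 := Nat.le_of_ble_eq_true hlt
  have hw := idw_spec ⟨m / 16, by omega⟩ hi'
  simp only at hw
  have hcl16 : cl (16 * omT.getD (idw (m / 16)) 0) = 3 := by
    have := eq_ok ⟨idw (m / 16), by omega⟩
    simp only [eqOK, Bool.and_eq_true, beq_iff_eq, eqW, Nat.mod_eq_of_lt hi'] at this
    exact this.1.2
  have h0 := P.InO_omT h B hG hi' hcl16
  obtain ⟨R⟩ := exists_parts F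
  obtain ⟨c, hc, hcz, e⟩ := evS_lift P R h B hG (nonT.getD m 0 % 16)
  rw [hw] at h0
  refine (P.InO_move hc ?_).1 h0
  have ht : nonT.getD m 0 / 16 = bn (nonT.getD m 0 / 16 == 1) := by
    rcases (show nonT.getD m 0 / 16 = 0 ∨ nonT.getD m 0 / 16 = 1 by omega) with e | e <;> rw [e] <;> rfl
  have hpsi : ∀ k : Bool, c * P.psi (bn k) * c⁻¹ = P.psi (bn k) := fun k => by
    cases k
    · rw [show bn false = 0 from rfl, P.psi_zero]; group
    · rw [show bn true = 1 from rfl, P.psi_z, hcz.eq, mul_inv_cancel_right]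
  rw [← pair_xor, P.psi_mul h B hG, ← conj_mul, hpsi, e, ← P.psi_mul h B hG,
    show 2 * (16 * (m / 16)) = 32 * (m / 16) by ring, he', ht, double_xor, Bool.xor_comm, ← ht]

theorem Pts.InO_iff (h : Hyp z Q) (B : Base F x0) (hG : Good F) {n : ℕ} (hn : n < 2048) :
    P.InO n ↔ candK P.kap n = true := by
  obtain ⟨v0, v1, -, -, v20, -, -⟩ := P.prs_values h B hG
  have v16 : P.prs 16 = 2 := (P.orbit_759 h B hG).2.1
  have both : P.prs (n / 2) = 2 → P.InO n := fun e => by
    by_contra hno
    have h1 := P.ind_le (2 * (n / 2))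
    have h2 := P.ind_le (2 * (n / 2) + 1)
    rw [Pts.prs] at e
    have h0 := P.ind_neg hno
    rcases (show n = 2 * (n / 2) ∨ n = 2 * (n / 2) + 1 by omega) with en | en <;> rw [en] at h0 <;> omega
  by_cases h0 : n / 2 = 0
  · rcases (show n = 0 ∨ n = 1 by omega) with rfl | rfl
    · exact iff_of_false (fun ⟨c, _, e⟩ => z_ne h (conj_eq_one_iff.1 (e.trans P.psi_zero)))
        (by simp [candK, cl_zero])
    · exact iff_of_true P.InO_one rfl
  have hm : n / 2 < 1024 := by omega
  have hk := cl_ok ⟨n / 2, hm⟩ h0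
  simp only [clOK, Bool.and_eq_true] at hk
  have h4 : cl (n / 2) < 4 := Nat.le_of_ble_eq_true hk.1.1.1.1
  have hv := P.prs_class h B hG hm h0
  have hn1 : (n == 1) = false := beq_eq_false_iff_ne.2 (by omega)
  interval_cases hc : cl (n / 2)
  · exact iff_of_true (both (hv.trans v1)) (by simp [candK, hc])
  · exact iff_of_true (both (hv.trans v16)) (by simp [candK, hc])
  · refine iff_of_false (fun hno => ?_) (by simp [candK, hc, hn1])
    rw [show clR 2 = 20 from rfl, v20, Pts.prs] at hv
    rcases (show n = 2 * (n / 2) ∨ n = 2 * (n / 2) + 1 by omega) with en | en <;> rw [← en, P.ind_pos hno] at hv <;>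
      omega
  · have hin := P.InO_non h B hG hm hc
    rw [show n / 2 / 16 = n / 32 by omega] at hin
    set t := xor (P.kap (idw (n / 32))) (nonT.getD (n / 2) 0 / 16 == 1)
    have e : candK P.kap n = ((n % 2 == 1) == t) := by simp [candK, hc, hn1, t]
    rw [e, beq_iff_eq]
    constructor
    · intro hno
      exact P.non_unique h B hG hm hc (by rw [← mod_two_bn]; exact hno) hin
    · intro e'
      rw [mod_two_bn n, e']; exact hin

theorem Pts.equation (h : Hyp z Q) (B : Base F x0) (hG : Good F) :
    ∃ X : ℕ → Bool, (∀ i < 28, X i = P.kap i) ∧ ∀ e < 336, parX X (eqM e) = eqC e := by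
  classical
  choose c hc hcz β hβ hact using fun g : Fin 12 => root_lift P h B hG g
  let X : ℕ → Bool := fun i => if i < 28 then P.kap i else
    if hh : (i - 28) / 6 < 12 then β ⟨(i - 28) / 6, hh⟩ ⟨(i - 28) % 6, Nat.mod_lt _ (by norm_num)⟩ else false
  refine ⟨X, fun i hi => by simp [X, hi], fun e he => ?_⟩
  set g : Fin 12 := ⟨e / 28, by omega⟩
  have hk := eq_ok ⟨e, he⟩
  simp only [eqOK, Bool.and_eq_true, beq_iff_eq] at hk
  obtain ⟨⟨⟨hy, hcy⟩, hcw⟩, hidx⟩ := hk
  have hi : e % 28 < 28 := Nat.mod_lt _ (by norm_num)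
  have hyv : eqY e < 2048 := Nat.le_of_ble_eq_true hy
  have hidv : idw (eqY e / 32) < 28 := by
    have hk := non_ok ⟨eqY e / 2, by omega⟩
    simp only [nonOK, hcy, Bool.or_eq_true, Bool.and_eq_true, beq_self_eq_true, Bool.not_true,
      Bool.false_eq_true, false_or] at hk
    have := Nat.le_of_ble_eq_true hk.1.1
    rwa [show eqY e / 2 / 16 = eqY e / 32 by omega] at this
  set w := eqW e with hwd
  have hw64 : w < 64 := omT_lt ⟨e % 28, hi⟩
  have h0 := P.InO_omT h B hG hi hcw
  set D := (List.finRange 6).foldl (fun r l => xor r (β g l && Nat.testBit w l.val)) false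
  have hpsi : ∀ k : Bool, c g * P.psi (bn k) * (c g)⁻¹ = P.psi (bn k) := fun k => by
    cases k
    · rw [show bn false = 0 from rfl, P.psi_zero]; group
    · rw [show bn true = 1 from rfl, P.psi_z, (hcz g).eq, mul_inv_cancel_right]
  have himg : P.InO (2 * (eqY e / 2) + bn (xor (xor (eqY e % 2 == 1) D) (P.kap (e % 28)))) := by
    refine (P.InO_move (hc g) ?_).1 h0
    rw [← pair_xor, P.psi_mul h B hG, ← conj_mul, hpsi, hact g, ← P.psi_mul h B hG,
      show 2 * (16 * omT.getD (e % 28) 0) = 32 * w by rw [hwd, eqW]; ring, dlt_par (β g) ⟨w, hw64⟩,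
      show tr (4 + g.val) (32 * w) = eqY e from rfl, Nat.xor_assoc, ← bn_xor]
    conv_lhs => rw [mod_two_bn (eqY e), double_xor]
    rw [Bool.xor_assoc]
  have hnon := P.InO_non h B hG (m := eqY e / 2) (by omega) hcy
  rw [show eqY e / 2 / 16 = eqY e / 32 by omega] at hnon
  have key := P.non_unique h B hG (m := eqY e / 2) (by omega) hcy himg hnon
  have hXβ : ∀ l : Fin 6, X (28 + 6 * (e / 28) + l.val) = β g l := fun l => by
    have h1 : ¬ 28 + 6 * (e / 28) + l.val < 28 := by omega
    have h2 : (28 + 6 * (e / 28) + l.val - 28) / 6 = e / 28 := by omega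
    simp only [X, h1, if_false, h2, show e / 28 < 12 by omega, dite_true]
    congr 1
    exact Fin.ext (by simp; omega)
  have hfold : parX X ((List.finRange 6).foldl (fun r l =>
      bif free (rootK (e / 28)) l && Nat.testBit w l.val then r ^^^ 2 ^ (28 + 6 * (e / 28) + l.val) else r) 0) = D := by
    have hgen : ∀ (L : List (Fin 6)) (r : ℕ), parX X (L.foldl (fun r l =>
        bif free (rootK (e / 28)) l && Nat.testBit w l.val then r ^^^ 2 ^ (28 + 6 * (e / 28) + l.val) else r) r) =
        L.foldl (fun r l => xor r (β g l && Nat.testBit w l.val)) (parX X r) := by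
      intro L
      induction L with
      | nil => intro r; rfl
      | cons l L ih =>
        intro r
        rw [List.foldl_cons, List.foldl_cons, ih]
        congr 1
        cases hf : free (rootK (e / 28)) l && Nat.testBit w l.val
        · have : (β g l && Nat.testBit w l.val) = false := by
            cases hb : β g l
            · rfl
            · rw [hβ g l hb, Bool.true_and] at hf; rw [hf, Bool.and_false]
          rw [this, cond_false, Bool.xor_false]
        · rw [Bool.and_eq_true] at hf
          rw [cond_true, parX_xor, parX_pow X (by omega), hXβ, hf.2, Bool.and_true]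
    rw [hgen, parX_zero]
  rw [eqM, parX_xor, parX_xor, parX_pow X (by omega), parX_pow X (by omega), hfold, eqC,
    show X (e % 28) = P.kap (e % 28) by simp [X, hi], show X (idw (eqY e / 32)) = P.kap (idw (eqY e / 32)) by
      simp [X, hidv]]
  generalize P.kap (e % 28) = a at key ⊢
  generalize P.kap (idw (eqY e / 32)) = b at key ⊢
  generalize (eqY e % 2 == 1) = y at key ⊢
  generalize (nonT.getD (eqY e / 2) 0 / 16 == 1) = t at key ⊢
  clear_value D
  cases a <;> cases b <;> cases y <;> cases t <;> cases D <;> simp_all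

theorem Pts.kap_sol (h : Hyp z Q) (B : Base F x0) (hG : Good F) :
    ∃ key b, (key = keyT.1 ∨ key = keyT.2) ∧ ∀ i < 28, P.kap i = xor (Nat.testBit key i) (par6 b (omT.getD i 0)) := by
  obtain ⟨X, hX, heq⟩ := P.equation h B hG
  obtain ⟨s, hs⟩ := free_spec fun q => P.kap (freeK.getD q.val 0)
  have hfk : ∀ q : Fin 7, freeK.getD q.val 0 < 28 := by decide
  have hval : ∀ i < 28, P.kap i = solK s.val i := fun i hi => by
    have hk := com_ok ⟨i, hi⟩
    simp only [comOK, Bool.and_eq_true, beq_iff_eq, List.all_eq_true] at hk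
    obtain ⟨⟨hall, hm⟩, hcst⟩ := hk
    set c := comT.getD i ([], 0, false) with hc
    have e1 : parX X (c.1.foldl (fun r e => r ^^^ eqM e) 0) = c.2.2 := by
      rw [parX_fold, parX_zero, ← hcst]
      refine List.foldl_ext _ _ _ fun r e he => ?_
      rw [heq e (Nat.le_of_ble_eq_true (hall e he))]
    rw [Nat.eq_of_beq_eq_true hm, parX_xor, parX_pow X (by omega), hX i hi] at e1
    have e2 : parX X c.2.1 = (List.range 7).foldl (fun r q => xor r (Nat.testBit s.val q && Nat.testBit c.2.1
        (freeK.getD q 0))) false := by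
      rw [hc]
      conv_lhs => rw [free_mask ⟨i, hi⟩, parX_fold, parX_zero]
      refine List.foldl_ext _ _ _ fun r q hq => ?_
      have hq7 : q < 7 := List.mem_range.1 hq
      cases Nat.testBit (comT.getD i ([], 0, false)).2.1 (freeK.getD q 0)
      · rw [cond_false, parX_zero, Bool.and_false]
      · rw [cond_true, parX_pow X (lt_trans (hfk ⟨q, hq7⟩) (by norm_num)), hX _ (hfk ⟨q, hq7⟩), Bool.and_true,
          hs ⟨q, hq7⟩]
    rw [e2] at e1
    rw [solK, ← hc, ← e1, Bool.xor_assoc, Bool.xor_self, Bool.xor_false]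
  have hso := sol_ok s
  simp only [solOK, List.any_eq_true, List.all_eq_true, beq_iff_eq, List.mem_range] at hso
  obtain ⟨b, -, key, hkey, hall⟩ := hso
  refine ⟨key, b, ?_, fun i hi => (hval i hi).trans (hall i hi)⟩
  simpa using hkey

/-- the shear -/
def shear (b n : ℕ) : ℕ := n ^^^ bn (par6 b (n / 32))

theorem shear_xor (b x y : ℕ) : shear b (x ^^^ y) = shear b x ^^^ shear b y := by
  have : par6 b ((x ^^^ y) / 32) = xor (par6 b (x / 32)) (par6 b (y / 32)) := by
    rw [par6, par6, par6, ← xor_two]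
    congr 1
    funext r l
    rw [show (32 : ℕ) = 2 ^ 5 by norm_num, Nat.testBit_div_two_pow, Nat.testBit_div_two_pow,
      Nat.testBit_div_two_pow, Nat.testBit_xor]
    cases Nat.testBit b l <;> simp
  rw [shear, shear, shear, this, bn_xor]
  ac_rfl

theorem shear_inv (b n : ℕ) : shear b (shear b n) = n := by
  have h : shear b n / 32 = n / 32 := by
    rw [shear, show (32 : ℕ) = 2 ^ 5 by norm_num, Nat.xor_div_two_pow,
      show bn (par6 b (n / 2 ^ 5)) / 2 ^ 5 = 0 from Nat.div_eq_of_lt (lt_of_le_of_lt (bn_le _) (by norm_num)),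
      Nat.xor_zero]
  rw [shear, h, shear, Nat.xor_assoc, Nat.xor_self, Nat.xor_zero]

theorem shear_lt {b n : ℕ} (hn : n < 2048) : shear b n < 2048 :=
  Nat.xor_lt_two_pow (n := 11) hn (lt_of_le_of_lt (bn_le _) (by norm_num))

/-- coordinates in which the orbit of the central involution is the given set -/
structure Coords (F : Frame z Q) (φ : ℕ → G) (M : ℕ) : Prop where
  mem : ∀ n, φ n ∈ Asub F
  mul : ∀ a b, φ (a ^^^ b) = φ a * φ b
  inj : ∀ a < 2048, ∀ b < 2048, φ a = φ b → a = b
  surj : ∀ x ∈ Asub F, ∃ n < 2048, φ n = x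
  one : φ 1 = z
  orb : ∀ n < 2048, (∃ g ∈ Subgroup.normalizer (Asub F : Set G), g * z * g⁻¹ = φ n) ↔ Nat.testBit M n = true

theorem Pts.coords (P : Pts F) (h : Hyp z Q) (B : Base F x0) (hG : Good F) :
    ∃ φ, Coords F φ orbM := by
  obtain ⟨key, b, hkey, hk⟩ := P.kap_sol h B hG
  have hφ : ∀ M, (∀ n < 2048, Nat.testBit M n = cand key n) → Coords F (fun n => P.psi (shear b n)) M := fun M hM => by
    refine ⟨fun n => P.psi_mem h B _, fun x y => by rw [shear_xor]; exact P.psi_mul h B hG _ _,
      fun x hx y hy e => ?_, fun x hx => ?_, ?_, fun n hn => ?_⟩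
    · have := congrArg (shear b) (P.psi_inj h B hG _ _ (shear_lt hx) (shear_lt hy) e)
      rwa [shear_inv, shear_inv] at this
    · obtain ⟨n, hn, rfl⟩ := P.psi_surj h B hG hx
      exact ⟨shear b n, shear_lt hn, congrArg P.psi (shear_inv b n)⟩
    · have h0 : par6 b 0 = false := by simp [par6, List.range_succ]
      show P.psi (1 ^^^ bn (par6 b (1 / 32))) = z
      rw [show (1 : ℕ) / 32 = 0 from rfl, h0]
      exact P.psi_z
    · show P.InO (shear b n) ↔ _
      rw [P.InO_iff h B hG (shear_lt hn), hM n hn, cand_eq, Bool.coe_iff_coe]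
      set p := par6 b (n / 32) with hp
      have hs : shear b n = 2 * (n / 2) + bn (xor (n % 2 == 1) p) := by
        rw [shear, ← hp]; conv_lhs => rw [mod_two_bn n, double_xor]
      have hd : shear b n / 2 = n / 2 := by rw [hs]; have := bn_le (xor (n % 2 == 1) p); omega
      have hd32 : shear b n / 32 = n / 32 := by omega
      have hmod : (shear b n % 2 == 1) = xor (n % 2 == 1) p := by
        rw [hs]; cases xor (n % 2 == 1) p <;> simp [bn]
      simp only [candK, hd, hd32, hmod]
      by_cases h3 : cl (n / 2) = 3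
      · have hne : n / 2 ≠ 0 := fun e => by rw [e, cl_zero] at h3; omega
        have hne1 : (n == 1) = false := beq_eq_false_iff_ne.2 fun e => hne (by rw [e])
        have hne2 : (shear b n == 1) = false := beq_eq_false_iff_ne.2 fun e => hne (by rw [← hd, e])
        have hk' := non_ok ⟨n / 2, by omega⟩
        simp only [nonOK, h3, Bool.or_eq_true, Bool.and_eq_true, beq_self_eq_true, Bool.not_true,
          Bool.false_eq_true, false_or] at hk'
        have hi : idw (n / 32) < 28 := by
          have := Nat.le_of_ble_eq_true hk'.1.1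
          rwa [show n / 2 / 16 = n / 32 by omega] at this
        rw [hne1, hne2, hk _ hi, idw_spec ⟨n / 32, by omega⟩ hi, ← hp]
        generalize Nat.testBit key (idw (n / 32)) = a
        generalize (n % 2 == 1) = c
        generalize (nonT.getD (n / 2) 0 / 16 == 1) = t
        revert a c t p
        simp [h3]
      · by_cases h0 : n / 2 = 0
        · have hp0 : p = false := by rw [hp, show n / 32 = 0 by omega]; simp [par6, List.range_succ]
          have : shear b n = n := by rw [shear, ← hp, hp0]; exact Nat.xor_zero n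
          rw [this]; simp [beq_eq_false_iff_ne.2 h3]
        · have hne1 : (n == 1) = false := beq_eq_false_iff_ne.2 fun e => h0 (by rw [e])
          have hne2 : (shear b n == 1) = false := beq_eq_false_iff_ne.2 fun e => h0 (by rw [← hd, e])
          simp [hne1, hne2, beq_eq_false_iff_ne.2 h3]
  have hok : ∀ n < 2048, Nat.testBit orbM n = cand keyT.1 n ∧ Nat.testBit badM n = cand keyT.2 n := fun n hn => by
    have := orb_ok ⟨n, hn⟩
    simpa only [Bool.and_eq_true, beq_iff_eq] using this
  rcases hkey with rfl | rfl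
  · exact ⟨_, hφ orbM fun n hn => (hok n hn).1⟩
  exfalso
  have C := hφ badM fun n hn => (hok n hn).2
  set φ := fun n => P.psi (shear b n)
  obtain ⟨b1, b385, hne⟩ := bad_ok
  obtain ⟨g, hg, eg⟩ := (C.orb 385 (by norm_num)).2 b385
  have hin : ∀ n, g * φ n * g⁻¹ ∈ Asub F := fun n => (Subgroup.mem_normalizer_iff.1 hg _).1 (C.mem n)
  choose f hf hfe using fun n => C.surj _ (hin n)
  have finj : Set.InjOn f {n | n < 2048} := fun x hx y hy e => C.inj x hx y hy
    (mul_left_cancel (mul_right_cancel ((hfe x).symm.trans ((congrArg φ e).trans (hfe y)))))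
  have horb : ∀ n < 2048, Nat.testBit badM (f n) = Nat.testBit badM n := fun n hn => by
    rw [Bool.eq_iff_iff, ← C.orb _ (hf n), ← C.orb n hn, hfe]
    constructor
    · rintro ⟨c, hc, e⟩
      exact ⟨g⁻¹ * c, mul_mem (inv_mem hg) hc, by
        rw [show g⁻¹ * c * z * (g⁻¹ * c)⁻¹ = g⁻¹ * (c * z * c⁻¹) * g by group, e]; group⟩
    · rintro ⟨c, hc, e⟩
      exact ⟨g * c, mul_mem hg hc, by rw [← e]; group⟩
  have hshift : ∀ n < 2048, f (n ^^^ 1) = f n ^^^ 385 := fun n hn => by
    refine C.inj _ (hf _) _ (Nat.xor_lt_two_pow (n := 11) (hf n) (by norm_num)) ?_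
    rw [hfe, C.mul, C.mul, C.one, hfe, ← eg, conj_mul]
  refine hne ?_
  rw [List.countP_eq_length_filter, List.countP_eq_length_filter]
  show ((Finset.range 2048).filter fun n => (Nat.testBit badM n && Nat.testBit badM (n ^^^ 1)) = true).card =
    ((Finset.range 2048).filter fun n => (Nat.testBit badM n && Nat.testBit badM (n ^^^ 385)) = true).card
  refine Finset.card_bij (fun n _ => f n) (fun n hn => ?_) (fun x hx y hy e => ?_) fun y hy => ?_
  · simp only [Finset.mem_filter, Finset.mem_range, Bool.and_eq_true] at hn ⊢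
    exact ⟨hf n, by rw [horb n hn.1]; exact hn.2.1, by
      rw [← hshift n hn.1, horb _ (Nat.xor_lt_two_pow (n := 11) hn.1 (by norm_num))]; exact hn.2.2⟩
  · simp only [Finset.mem_filter, Finset.mem_range] at hx hy
    exact finj hx.1 hy.1 e
  · simp only [Finset.mem_filter, Finset.mem_range, Bool.and_eq_true] at hy
    obtain ⟨x, hx, rfl⟩ : ∃ x < 2048, f x = y := by
      obtain ⟨x, hx, e⟩ := C.surj _ ((Subgroup.mem_normalizer_iff.1 (inv_mem hg) _).1 (C.mem y))
      refine ⟨x, hx, C.inj _ (hf x) _ hy.1 ?_⟩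
      rw [hfe, e]; group
    refine ⟨x, ?_, rfl⟩
    simp only [Finset.mem_filter, Finset.mem_range, Bool.and_eq_true]
    exact ⟨hx, by rw [← horb x hx]; exact hy.2.1, by
      rw [← horb _ (Nat.xor_lt_two_pow (n := 11) hx (by norm_num)), hshift x hx]; exact hy.2.2⟩

end Cfsg.Agent.Spor.CoT.Octad
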