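import Cfsg.Agent.Lib.Spor.CoTOctad.Swap
import Cfsg.Agent.Lib.Spor.CoTOctad.Checks

/-!
Groups of Conway type: the sixteen maps of the tables are induced by elements of the normaliser.
-/

set_option autoImplicit false
set_option maxRecDepth 100000
set_option linter.unusedSectionVars false

namespace Cfsg.Agent.Spor.CoT.Octad

theorem ev_xor (f g : Fin 11 → ℕ) (n : ℕ) : ev (fun t => f t ^^^ g t) n = ev f n ^^^ ev g n := by
  unfold ev
  generalize List.finRange 11 = l
  induction l with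
  | nil => simp
  | cons t l ih =>
    rw [List.foldr_cons, List.foldr_cons, List.foldr_cons, ih]
    cases Nat.testBit n t.val
    · simp only [cond_false, Nat.zero_xor]
    · simp only [cond_true]; ac_rfl

theorem ev_congr {f g : Fin 11 → ℕ} (e : ∀ t, f t = g t) (n : ℕ) : ev f n = ev g n := by rw [funext e]

/-- the undetermined bits as a map -/
def dlt (β : Fin 6 → Bool) (t : Fin 11) : ℕ :=
  if h : t.val < 5 then 0 else bif β ⟨t.val - 5, by omega⟩ then 1 else 0

theorem imN_split (k j : Fin 4) (β : Fin 6 → Bool) (t : Fin 11) :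
    imN k j β t = imN k j (fun _ => false) t ^^^ dlt β t := by
  unfold imN dlt
  by_cases h0 : t.val = 0
  · rw [if_pos h0, if_pos h0, dif_pos (by omega)]; rfl
  by_cases h5 : t.val < 5
  · rw [if_neg h0, if_neg h0, dif_pos h5, dif_pos h5, dif_pos h5, Nat.xor_zero]
  · rw [if_neg h0, if_neg h0, dif_neg h5, dif_neg h5, dif_neg h5, cond_false, Nat.xor_zero]

theorem ev_dlt_le (β : Fin 6 → Bool) (n : ℕ) : ev (dlt β) n ≤ 1 := by
  have hd : ∀ t, dlt β t ≤ 1 := fun t => by
    unfold dlt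
    split_ifs
    · exact zero_le_one
    · cases β ⟨t.val - 5, by omega⟩ <;> simp
  have hx : ∀ a b : ℕ, a ≤ 1 → b ≤ 1 → a ^^^ b ≤ 1 := fun a b ha hb => by
    interval_cases a <;> interval_cases b <;> decide
  unfold ev
  generalize List.finRange 11 = l
  induction l with
  | nil => exact zero_le_one
  | cons t l ih =>
    rw [List.foldr_cons]
    cases Nat.testBit n t.val
    · exact hx _ _ zero_le_one ih
    · exact hx _ _ (hd t) ih

theorem gen_bound : ∀ g : Fin 16, ∀ t : Fin 11, (if g.val < 4 then imP ⟨g.val % 4, Nat.mod_lt _ (by norm_num)⟩ t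
    else imN (rootK (g.val - 4)) (rootJ (g.val - 4)) (fun _ => false) t) < 2048 := by decide +kernel

theorem ev_lt {f : Fin 11 → ℕ} (hf : ∀ t, f t < 2048) (n : ℕ) : ev f n < 2048 := by
  unfold ev
  generalize List.finRange 11 = l
  induction l with
  | nil => norm_num
  | cons t l ih =>
    rw [List.foldr_cons]
    cases Nat.testBit n t.val
    · rwa [cond_false, Nat.zero_xor]
    · exact Nat.xor_lt_two_pow (n := 11) (hf t) ih

theorem tr_lt {g : ℕ} (hg : g < 16) (n : ℕ) : tr g n < 2048 := by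
  have h := gen_bound ⟨g, hg⟩
  unfold tr
  split_ifs with h4
  · exact ev_lt (fun t => by simpa [h4] using h t) n
  · exact ev_lt (fun t => by simpa [h4] using h t) n

theorem root_ne : ∀ g : Fin 12, rootK g.val ≠ rootJ g.val := by decide +kernel

universe u

variable {G : Type u} [Group G] [Finite G] {z : G} {Q : Subgroup G} {F : Frame z Q} {x0 : G} (P : Pts F)

theorem partner_lift (R : Parts F) (h : Hyp z Q) (B : Base F x0) (hG : Good F) {g : ℕ} (hg : g < 4) :
    ∃ c ∈ Subgroup.normalizer (Asub F : Set G), Commute c z ∧ ∀ n, c * P.psi n * c⁻¹ = P.psi (tr g n) := by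
  refine ⟨R.p ⟨g % 4, Nat.mod_lt _ (by norm_num)⟩, mem_N h (k := cC (Qz h (R.sing _).mem)) fun v hv => ?_,
    Qz h (R.sing _).mem, fun n => ?_⟩
  · rw [π_Q F h (R.sing _).mem, one_smul]; exact hv
  · rw [tr, if_pos hg]
    exact P.conj_psi h B hG (fun k => P.partner_gen R h B hG _ k) n

theorem root_lift (h : Hyp z Q) (B : Base F x0) (hG : Good F) (g : Fin 12) :
    ∃ c ∈ Subgroup.normalizer (Asub F : Set G), Commute c z ∧ ∃ β : Fin 6 → Bool, (∀ l, β l = true → free (rootK g.val) l = true) ∧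
      ∀ n, c * P.psi n * c⁻¹ = P.psi (tr (4 + g.val) n ^^^ ev (dlt β) n) := by
  obtain ⟨R⟩ := exists_parts F
  have hkj := root_ne g
  obtain ⟨n, n1, -, n3⟩ := exists_root P R h B hkj
  obtain ⟨β, hβ, hgen⟩ := P.root_gen h B hG hkj n1 n3
  refine ⟨n, mem_N h fun v hv => by rw [n3]; exact root_pres hkj hv, mem_C.1 n.2, β, hβ, fun m => ?_⟩
  rw [P.conj_psi h B hG hgen m, tr, if_neg (by omega), show 4 + g.val - 4 = g.val by omega, ← ev_xor,
    ev_congr (imN_split _ _ β)]

theorem tr_lift (h : Hyp z Q) (B : Base F x0) (hG : Good F) {g : ℕ} (hg : g < 16) (n : ℕ) :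
    ∃ c ∈ Subgroup.normalizer (Asub F : Set G), Commute c z ∧ ∃ d ≤ 1, c * P.psi n * c⁻¹ = P.psi (tr g n ^^^ d) := by
  obtain ⟨R⟩ := exists_parts F
  by_cases h4 : g < 4
  · obtain ⟨c, hc, hz, e⟩ := partner_lift P R h B hG h4
    exact ⟨c, hc, hz, 0, zero_le_one, by rw [e, Nat.xor_zero]⟩
  · obtain ⟨c, hc, hz, β, -, e⟩ := root_lift P h B hG ⟨g - 4, by omega⟩
    refine ⟨c, hc, hz, _, ev_dlt_le β n, ?_⟩
    rw [e]
    simp only [show 4 + (g - 4) = g by omega]

end Cfsg.Agent.Spor.CoT.Octad
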