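import Cfsg.Agent.Lib.Spor.CoTOctad.Coord
import Cfsg.Agent.Lib.Spor.CoTOctad.Act
import Cfsg.Agent.Lib.Spor.CoTOctad.Checks
import Cfsg.Agent.Lib.Spor.CoTOctad.ChainData

/-!
Groups of Conway type: a lower bound for the stabiliser of the subspace.
-/

set_option autoImplicit false
set_option maxRecDepth 100000
set_option linter.unusedSectionVars false

namespace Cfsg.Agent.Spor.CoT.Octad

/-- the stabiliser of the subspace -/
noncomputable def SU : Subgroup Ga where
  carrier := {g | ∀ v, InU v → InU (g • v)}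
  one_mem' := fun v hv => by rwa [one_smul]
  mul_mem' := fun {a b} ha hb v hv => by rw [mul_smul]; exact ha _ (hb v hv)
  inv_mem' := fun {g} hg v hv => by
    let f : {v : V // InU v} → {v : V // InU v} := fun w => ⟨g • w.1, hg _ w.2⟩
    obtain ⟨w, hw⟩ := (Finite.injective_iff_surjective.1 (show Function.Injective f from fun a b e =>
      Subtype.ext (MulAction.injective g (congrArg Subtype.val e)))) ⟨v, hv⟩
    rw [← show g • w.1 = v from congrArg Subtype.val hw, inv_smul_smul]
    exact w.2

/-- a step on the subspace -/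
def stepU (g m : ℕ) : ℕ := bif Nat.testBit m (rootJ g).val then m ^^^ 2 ^ (rootK g).val else m

/-- the product of elementary transvections -/
noncomputable def wT (l : List ℕ) : Ga := (l.map fun g => Tg (eU (rootK g)) (fU (rootJ g))).prod

/-- the image of a point under a word -/
def stepW (l : List ℕ) (m : ℕ) : ℕ := l.foldr stepU m

theorem step_spec : ∀ g : Fin 12, ∀ m : Fin 16, stepU g.val m.val < 16 ∧
    tV (eU (rootK g.val)) (fU (rootJ g.val)) (vec m.val) = vec (stepU g.val m.val) := by decide +kernel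

theorem root_ne' : ∀ g : Fin 12, rootK g.val ≠ rootJ g.val := by decide +kernel

theorem chain_ok : ∀ k : Fin 4, ∀ w ∈ chainW.getD k.val [], (∀ g ∈ w, g < 12) ∧
    ∀ i : Fin 4, i.val < k.val → stepW w (2 ^ i.val) = 2 ^ i.val := by decide +kernel

theorem chain_nodup : ∀ k : Fin 4, ((chainW.getD k.val []).map fun w => stepW w (2 ^ k.val)).Nodup := by decide +kernel

theorem chain_len : ∀ k : Fin 4, (chainW.getD k.val []).length = [15, 14, 12, 8].getD k.val 0 := by decide +kernel

theorem wT_act {l : List ℕ} (hl : ∀ g ∈ l, g < 12) {m : ℕ} (hm : m < 16) :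
    wT l • vec m = vec (stepW l m) ∧ stepW l m < 16 := by
  induction l with
  | nil => exact ⟨one_smul _ _, hm⟩
  | cons g l ih =>
    obtain ⟨e, hlt⟩ := ih fun x hx => hl x (by simp [hx])
    have hg := hl g (by simp)
    obtain ⟨s1, s2⟩ := step_spec ⟨g, hg⟩ ⟨_, hlt⟩
    refine ⟨?_, s1⟩
    show (Tg _ _ * wT l) • vec m = _
    rw [mul_smul, e, root_act (root_ne' ⟨g, hg⟩)]
    exact s2

theorem wT_SU {l : List ℕ} (hl : ∀ g ∈ l, g < 12) : wT l ∈ SU :=
  Subgroup.list_prod_mem _ fun a ha => by
    obtain ⟨g, hg, rfl⟩ := List.mem_map.1 ha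
    exact fun v hv => root_pres (root_ne' ⟨g, hl g hg⟩) hv

/-- elements of the stabiliser fixing the first points -/
noncomputable def fixK (k : ℕ) : Subgroup Ga where
  carrier := {g | g ∈ SU ∧ ∀ i : Fin 4, i.val < k → g • eU i = eU i}
  one_mem' := ⟨one_mem _, fun i _ => one_smul _ _⟩
  mul_mem' := fun {a b} ha hb => ⟨mul_mem ha.1 hb.1, fun i hi => by rw [mul_smul, hb.2 i hi, ha.2 i hi]⟩
  inv_mem' := fun {a} ha => ⟨inv_mem ha.1, fun i hi => by conv_lhs => rw [← ha.2 i hi, inv_smul_smul]⟩

theorem levelU {n : ℕ} {S S' : Subgroup Ga} (v : V) (W : Fin n → Ga) (hle : S' ≤ S) (hW : ∀ c, W c ∈ S)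
    (hfix : ∀ g ∈ S', g • v = v) (hinj : Function.Injective fun c => W c • v) :
    n * Nat.card S' ≤ Nat.card S := by
  let f : Fin n × S' → S := fun q => ⟨W q.1 * q.2, mul_mem (hW q.1) (hle q.2.2)⟩
  have hf : Function.Injective f := fun a b e => by
    have e' : W a.1 * (a.2 : Ga) = W b.1 * (b.2 : Ga) := congrArg Subtype.val e
    have hi : a.1 = b.1 := hinj (by
      show W a.1 • v = W b.1 • v
      have := congrArg (· • v) e'
      simpa only [mul_smul, hfix _ a.2.2, hfix _ b.2.2] using this)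
    refine Prod.ext hi (Subtype.ext ?_)
    rw [hi] at e'
    exact mul_left_cancel e'
  have h := Nat.card_le_card_of_injective f hf
  rwa [Nat.card_prod, Nat.card_fin] at h

theorem wG_inj : ∀ ω ω' : Fin 6 → Bool, (∀ i, wV ω (fU i) = wV ω' (fU i)) → ω = ω' := by decide +kernel

theorem wG_fix (ω : Fin 6 → Bool) {v : V} (hv : InU v) : wG ω • v = v := by
  rw [wG_act]
  unfold wV
  induction (List.finRange 6) with
  | nil => rfl
  | cons k l ih =>
    rw [List.foldr_cons, ih]
    cases ω k
    · rfl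
    · exact tV_U (eU_facts.1 _).2.2.1 (eU_facts.1 _).2.2.1 hv

theorem card_fix : 64 ≤ Nat.card (fixK 4) := by
  have := Nat.card_le_card_of_injective (fun ω : Fin 6 → Bool => (⟨wG ω, fun v hv => by rw [wG_fix ω hv]; exact hv,
      fun i _ => wG_fix ω (eU_facts.1 i).2.2.1⟩ : fixK 4))
    fun ω ω' e => wG_inj _ _ fun i => by rw [← wG_act, ← wG_act, show wG ω = wG ω' from congrArg Subtype.val e]
  simpa using this

theorem card_SU : 1290240 ≤ Nat.card SU := by
  have hlev : ∀ k : Fin 4, [15, 14, 12, 8].getD k.val 0 * Nat.card (fixK (k.val + 1)) ≤ Nat.card (fixK k.val) := by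
    intro k
    rw [← chain_len k]
    refine levelU (eU k) (fun c : Fin (chainW.getD k.val []).length => wT ((chainW.getD k.val [])[c.1]))
      (fun g hg => ⟨hg.1, fun i hi => hg.2 i (by omega)⟩) (fun c => ?_) (fun g hg => hg.2 k (by omega)) ?_
    · obtain ⟨h1, h2⟩ := chain_ok k _ (List.getElem_mem c.2)
      refine ⟨wT_SU h1, fun i hi => ?_⟩
      rw [eU, (wT_act h1 (by
        calc (2 : ℕ) ^ i.val ≤ 2 ^ 3 := Nat.pow_le_pow_right (by norm_num) (by omega)
          _ < 16 := by norm_num)).1, h2 i hi]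
    · intro a b e
      have hk : (2 : ℕ) ^ k.val < 16 := by
        calc (2 : ℕ) ^ k.val ≤ 2 ^ 3 := Nat.pow_le_pow_right (by norm_num) (by omega)
          _ < 16 := by norm_num
      obtain ⟨ha, -⟩ := chain_ok k _ (List.getElem_mem a.2)
      obtain ⟨hb, -⟩ := chain_ok k _ (List.getElem_mem b.2)
      obtain ⟨ea, la⟩ := wT_act ha hk
      obtain ⟨eb, lb⟩ := wT_act hb hk
      simp only at e
      rw [eU, ea, eb] at e
      have e3 := congrArg enc e
      rw [enc_vec _ (by omega), enc_vec _ (by omega)] at e3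
      exact Fin.ext ((List.Nodup.getElem_inj_iff (chain_nodup k) (i := a.1) (j := b.1) (hi := by rw [List.length_map]; exact a.2) (hj := by rw [List.length_map]; exact b.2)).mp
        (by simpa using e3))
  have h0 := hlev 0
  have h1 := hlev 1
  have h2 := hlev 2
  have h3 := hlev 3
  have h4 := card_fix
  have hle : Nat.card (fixK 0) ≤ Nat.card SU := Subgroup.card_le_of_le fun g hg => hg.1
  simp only [show ((0 : Fin 4).val) = 0 from rfl, show ((1 : Fin 4).val) = 1 from rfl,
    show ((2 : Fin 4).val) = 2 from rfl, show ((3 : Fin 4).val) = 3 from rfl, List.getD_cons_zero,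
    List.getD_cons_succ] at h0 h1 h2 h3
  norm_num at h0 h1 h2 h3
  omega

universe u

variable {G : Type u} [Group G] [Finite G] {z : G} {Q : Subgroup G}

theorem card_stab_C (F : Frame z Q) (h : Hyp z Q) : 512 * 1290240 ≤ Nat.card (SU.comap F.π) := by
  have h1 := Subgroup.card_mul_index (SU.comap F.π)
  rw [Subgroup.index_comap_of_surjective SU F.π_surj, h.cardC] at h1
  have h2 := Subgroup.card_mul_index SU
  rw [card_Ga] at h2
  have h3 := card_SU
  have h4 : Nat.card (SU.comap F.π) = 512 * Nat.card SU := by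
    have : Nat.card (SU.comap F.π) * SU.index = 512 * Nat.card SU * SU.index := by rw [h1, mul_assoc, h2]
    exact Nat.eq_of_mul_eq_mul_right (Nat.pos_of_ne_zero Subgroup.index_ne_zero_of_finite) this
  omega

end Cfsg.Agent.Spor.CoT.Octad
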