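import Cfsg.Agent.Lib.Spor.CoTOctad.Coord

/-!
Groups of Conway type: the normaliser of the elementary abelian subgroup contains an element moving the central
involution to a point of the subspace.
-/

set_option autoImplicit false
set_option maxRecDepth 100000
set_option linter.unusedSectionVars false

namespace Cfsg.Agent.Spor.CoT.Octad

open Cfsg.Agent.Classical

theorem sig_Tg {u b : V} (hu : u ≠ 0) (hq : qm u = 0) (hp : pol u b = 0) :
    sigHom (Tg u b) = Tg (sig • u) (sig • b) := Ga_ext fun v => by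
  show (sig * (Tg u b : OG) * sig⁻¹) • v = _
  rw [Tg_act (fun e => hu (MulAction.injective sig (e.trans (osmul_zero sig).symm)))
    ((osmul_qm sig u).trans hq) ((osmul_pol sig u b).trans hp), mul_smul, mul_smul, coe_smul, Tg_act hu hq hp]
  simp only [tV, osmul_add, osmul_smul, smul_inv_smul]
  rw [← osmul_pol sig (sig⁻¹ • v) b, ← osmul_pol sig (sig⁻¹ • v) u, smul_inv_smul, osmul_qm]

theorem nz_pol {v w : V} (hv : pol e0 v = 0) (hw : pol e0 w = 0) : pol (nz v) (nz w) = pol v w := by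
  simp only [nz, pol_add_left, pol_add_right, pol_smul_left, pol_smul_right, hw, pol_self,
    pol_comm' v e0, hv, mul_zero, add_zero]

theorem plane_last : ∀ b : V, InP b → pol b e1 = 0 → pol b e2 = 0 → qm b = 0 →
    (∀ i j : ZMod 2, b ≠ i • e1 + j • e2) → pol b e3 = 0 ∨ pol b f3 = 0 := by
  simp only [InP]; decide +kernel

theorem span4 : ∀ v : V, (∀ i : Fin 4, v (.inr i) = 0) →
    ∃ i0 i1 i2 i3 : ZMod 2, v = i0 • e0 + i1 • e1 + i2 • e2 + i3 • e3 := by decide +kernel

universe u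

variable {G : Type u} [Group G] [Finite G] {z : G} {Q : Subgroup G} {F : Frame z Q} {x0 : G}

theorem mem_N (h : Hyp z Q) {k : Subgroup.centralizer ({z} : Set G)} (hk : ∀ v, InU v → InU (F.π k • v)) :
    (k : G) ∈ Subgroup.normalizer (Asub F : Set G) := by
  have hk' : ∀ v, InU v → InU ((F.π k)⁻¹ • v) := fun v hv => by
    let f : {v : V // InU v} → {v : V // InU v} := fun w => ⟨F.π k • w.1, hk _ w.2⟩
    obtain ⟨w, hw⟩ := (Finite.injective_iff_surjective.1 (show Function.Injective f from fun a b e =>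
      Subtype.ext (MulAction.injective (F.π k) (congrArg Subtype.val e)))) ⟨v, hv⟩
    rw [← show F.π k • w.1 = v from congrArg Subtype.val hw, inv_smul_smul]
    exact w.2
  refine Subgroup.mem_normalizer_iff.2 fun a => ⟨fun ha => conj_A F h hk' ha, fun ha => ?_⟩
  have := conj_A F h (k := k⁻¹) (fun v hv => by rw [map_inv, inv_inv]; exact hk v hv) ha
  rwa [Subgroup.coe_inv, show (k : G)⁻¹ * ((k : G) * a * (k : G)⁻¹) * (k : G)⁻¹⁻¹ = a by group] at this

theorem flip_base (B : Base F x0) : Base (flipFrame F) x0 :=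
  ⟨B.mem, by
    show sig • F.vec x0 = e0
    rw [B.vec, sig_act]
    exact (by decide +kernel : e0 + pol n0 e0 • n0 = e0), B.sq, B.ne1, B.nez, B.conj⟩

/-- an abelian subgroup of full order inside the centraliser gives commuting elements -/
theorem good_of_abelian (h : Hyp z Q) {X : Subgroup G} (hX : X ≤ Asub F) (hc : Nat.card X = 2 ^ 11)
    (hab : ∀ a ∈ X, ∀ b ∈ X, Commute a b) : Good F := by
  classical
  let f : X →* Ga :=
    { toFun := fun a => F.π (cC (A_z F h (hX a.2)))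
      map_one' := map_one F.π
      map_mul' := fun a b => (map_mul F.π (cC (A_z F h (hX a.2))) (cC (A_z F h (hX b.2)))) }
  have hker : Nat.card f.ker ≤ 32 := by
    choose r hr rv using F.vec_surj
    have h16 : ∀ v : V, InU v → enc v < 16 := by
      have key : ∀ v : V, (∀ i : Fin 4, v (.inr i) = 0) → enc v < 16 := by decide +kernel
      exact key
    have hU : ∀ a : f.ker, ((a : X) : G) ∈ Eset F := fun a =>
      AQ_E F h ((F.π_ker (cC (A_z F h (hX (a : X).2)))).1 a.2) (hX (a : X).2)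
    refine (Nat.card_le_card_of_injective (fun a : f.ker => ((⟨enc (F.vec ((a : X) : G)), h16 _ (hU a).2⟩ : Fin 16),
      decide (((a : X) : G) = r (F.vec ((a : X) : G))))) fun a b e => ?_).trans (by simp)
    simp only [Prod.mk.injEq, Fin.mk.injEq, decide_eq_decide] at e
    obtain ⟨e1, e2⟩ := e
    have ev := enc_injective e1
    refine Subtype.ext (Subtype.ext ?_)
    rcases vec_eq F (hU a).1 (hr (F.vec ((a : X) : G))) h (rv _).symm with ea | ea
    · exact ea.trans ((congrArg r ev).trans (e2.1 ea).symm)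
    rcases vec_eq F (hU b).1 (hr (F.vec ((b : X) : G))) h (rv _).symm with eb | eb
    · exact absurd (e2.2 eb) (fun e' => z_ne h (mul_eq_left.1 (ea.symm.trans e')))
    · rw [ea, eb, ev]
  have hsub : (f.range : Set Ga) ⊆ Set.range wG := by
    rintro _ ⟨a, rfl⟩
    obtain ⟨ω, hω⟩ := fixer_eq (F.π (cC (A_z F h (hX a.2)))) fun v hv => π_fix F h (hX a.2) hv
    exact ⟨ω, hω.symm⟩
  have h64 : (Set.range wG).ncard ≤ 64 := by
    rw [← Nat.card_coe_set_eq]
    exact (Finite.card_range_le wG).trans (by simp)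
  have h1 := Subgroup.card_eq_card_quotient_mul_card_subgroup f.ker
  rw [Nat.card_congr (QuotientGroup.quotientKerEquivRange f).toEquiv, hc] at h1
  have h2 := Nat.mul_le_mul_left (Nat.card f.range) hker
  have heq := Set.eq_of_subset_of_ncard_le hsub (h64.trans (by
    rw [← Nat.card_coe_set_eq]
    show 64 ≤ Nat.card f.range
    omega)) (Set.toFinite _)
  have hmem : ∀ k, ∃ c : Subgroup.centralizer ({z} : Set G), (c : G) ∈ X ∧ F.π c = Tp k := fun k => by
    have : Tp k ∈ (f.range : Set Ga) := by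
      rw [heq]
      refine ⟨fun j => decide (j = k), ?_⟩
      fin_cases k <;> simp [wG, List.finRange_succ]
    obtain ⟨a, ha⟩ := this
    exact ⟨cC (A_z F h (hX a.2)), a.2, ha⟩
  obtain ⟨c, c1, c2⟩ := hmem 1
  obtain ⟨l, l1, l2⟩ := hmem 4
  exact ⟨c, l, hX c1, hX l1, c2, l2, hab _ c1 _ l1⟩

variable (P : Pts F)

theorem Pts.base0 (h : Hyp z Q) : Base F (P.x 0) :=
  ⟨(P.sing 0).mem, by rw [P.vx]; exact eU_facts.2.2.1, (P.sing 0).sq F, (P.sing 0).ne1 F h, (P.sing 0).nez F h,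
    (P.sing 0).conj F h⟩

/-- only one of the two families gives commuting elements -/
theorem Pts.not_flip (P : Pts F) (h : Hyp z Q) (B : Base F x0) (hG : Good F) : ¬ Good (flipFrame F) := by
  intro hG'
  obtain ⟨h1, h2, -, -⟩ := eU_facts
  have hpl : pol (eU 1) e3 = 0 ∧ pol (eU 1) f3 = 0 ∧ pol (eU 0) f3 = 0 ∧ pol (eU 2) f3 = 0 ∧ qm n0 = 1 ∧
      pol (eU 0) n0 = 0 ∧ pol (eU 1) n0 = 0 ∧ pol (eU 2) n0 = 0 ∧ e3 + f3 = n0 ∧ eU 0 + eU 2 ≠ eU 1 := by
    decide +kernel
  obtain ⟨p1, p2', p4, p6, qn, n0', n1', n2', hsum, hs⟩ := hpl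
  set c := P.w 1
  set l := P.w 4
  obtain ⟨wl, -, hc⟩ : InQ z Q (P.x 0) c ∧ True ∧ F.π c = Tg (eU 0) (eU 2) := ⟨P.wl 1, trivial, P.wπ 1⟩
  obtain ⟨ll, hl⟩ : InQ z Q (P.x 1) l ∧ F.π l = Tg (eU 1) e3 :=
    ⟨P.wl 4, (P.wπ 4).trans (by rw [← eU_facts.2.2.2]; rfl)⟩
  obtain ⟨l', hl', hπl'⟩ := exists_over F h B (P.sing 1) (a := f3) (by rw [P.vx]; exact p2')
  rw [P.vx] at hπl'
  have hcl : Commute (c : G) l := P.w_comm h B hG 1 4
  have ne : ∀ i j : Fin 4, i ≠ j → eU i ≠ eU j := fun i j hij e => hij ((h2 i j).2.2.2 e)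
  have k := comm_two F h B (P.sing 0) (P.sing 1) (P.sing 2) (by rw [P.vx, P.vx]; exact ne 0 1 (by decide))
    (by rw [P.vx, P.vx]; exact ne 2 1 (by decide)) (by rw [P.vx, P.vx]; exact ne 0 2 (by decide))
    (by rw [P.vx, P.vx, P.vx]; exact hs) (by rw [P.vx, P.vx]; exact (h2 0 1).1)
    (by rw [P.vx, P.vx]; exact (h2 2 1).1) (by rw [P.vx, P.vx]; exact (h2 0 2).1) qn
    (by rw [P.vx]; exact n0') (by rw [P.vx]; exact n1') (by rw [P.vx]; exact n2') wl
    (by rw [P.vx, P.vx]; exact hc) (l := l * l') (ll.mul h hl')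
    (by rw [map_mul, hl, hπl', Tg_add (h1 1).1 (h1 1).2.1 p1 p2', hsum, P.vx])
  have hs' : sig • eU 0 = eU 0 ∧ sig • eU 1 = eU 1 ∧ sig • eU 2 = eU 2 ∧ sig • f3 = eU 3 := by
    simp only [sig_act]; decide +kernel
  obtain ⟨s1, s2, s3, s4⟩ := hs'
  have mv : ∀ {y : G}, Sing F y → Sing (flipFrame F) y := fun {y} hy =>
    ⟨hy.mem, fun e => hy.ne (MulAction.injective sig (e.trans (osmul_zero sig).symm)),
      (osmul_qm sig _).trans hy.q⟩
  have v0 : (flipFrame F).vec (P.x 0) = eU 0 := by show sig • F.vec _ = _; rw [P.vx, s1]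
  have v1 : (flipFrame F).vec (P.x 1) = eU 1 := by show sig • F.vec _ = _; rw [P.vx, s2]
  have πc : (flipFrame F).π c = Tp 1 := by
    show sigHom (F.π c) = _
    rw [hc, sig_Tg (h1 0).1 (h1 0).2.1 (h2 0 2).1, s1, s3]; rfl
  have πl : (flipFrame F).π l' = Tp 4 := by
    show sigHom (F.π l') = _
    rw [hπl', sig_Tg (h1 1).1 (h1 1).2.1 p2', s2, s4]; rfl
  have hcA := mem_A (flipFrame F) h (flip_base B) (mv (P.sing 0)) (by rw [v0]; exact (h1 0).2.2.1) wl
    (h1 2).2.2.1 (by rw [v0]; exact πc)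
  have hlA := mem_A (flipFrame F) h (flip_base B) (mv (P.sing 1)) (by rw [v1]; exact (h1 1).2.2.1) hl'
    (h1 3).2.2.1 (by rw [v1]; exact πl)
  obtain ⟨c', l'', a1, a2, a3, a4, a5⟩ := hG'
  have hcl' : Commute (c : G) l' :=
    comm_image₂ (flipFrame F) h a1 hcA a2 hlA (a3.trans πc.symm) (a4.trans πl.symm) a5
  refine z_ne h (mul_eq_right.1 ((k : ((l : G) * l') * c = z * ((c : G) * ((l : G) * l'))).symm.trans ?_))
  exact (hcl.mul_right hcl').eq.symm

set_option maxHeartbeats 800000 in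
theorem Pts.exists_swapA (h : Hyp z Q) (B : Base F x0) (hG : Good F) :
    ∃ g : G, g ∈ Subgroup.normalizer (Asub F : Set G) ∧ g * z * g⁻¹ = P.x 0 ∧ g * P.x 0 * g⁻¹ = z := by
  classical
  obtain ⟨hel, hcard⟩ := P.elem h B hG
  have hB := P.base0 h
  obtain ⟨τ, t1, t2⟩ := exists_swap F h hB
  obtain ⟨h1, h2, -, -⟩ := eU_facts
  have hyz : ∀ i, Commute (τ * P.x i * τ⁻¹) z := fun i => by
    have := (Commute.conj_iff τ).2 ((F.comm_iff _ (P.sing i).mem _ (P.sing 0).mem).2
      (by rw [P.vx, P.vx]; exact (h2 i 0).1))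
    rwa [t1] at this
  have hy : ∀ i, Mem F (P.x 0) (param (F.π (cC (hyz i)) : OG)) (cC (hyz i)) := fun i =>
    Mem.of_inQ F h hB (by
      have := ((inQ_z h).2 (P.sing i).mem).conj τ
      rwa [t2] at this)
  set a : Fin 4 → V := fun i => param (F.π (cC (hyz i)) : OG)
  have hq : ∀ i, qm (a i) = 0 := fun i => by
    have := Msq F h hB (hy i)
    rw [show ((cC (hyz i) : Subgroup.centralizer ({z} : Set G)) : G) * (cC (hyz i) : Subgroup.centralizer ({z} : Set G)) = 1 by
      show τ * P.x i * τ⁻¹ * (τ * P.x i * τ⁻¹) = 1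
      rw [conj_mul, (P.sing i).sq F]; group] at this
    exact (Iel_eq_one F h hB this.symm).1
  have hp : ∀ i j, pol (a i) (a j) = 0 := fun i j => by
    have := Mmul F h hB (hy i) (hy j)
    rw [show ((cC (hyz i) : Subgroup.centralizer ({z} : Set G)) : G) * (cC (hyz j) : Subgroup.centralizer ({z} : Set G)) =
        (cC (hyz j) : Subgroup.centralizer ({z} : Set G)) * (cC (hyz i) : Subgroup.centralizer ({z} : Set G)) from
      (Commute.conj_iff τ).2 ((F.comm_iff _ (P.sing i).mem _ (P.sing j).mem).2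
        (by rw [P.vx, P.vx]; exact (h2 i j).1))] at this
    exact (Iel_eq_one F h hB (mul_eq_right.1 this.symm)).1
  have hind : ∀ i j l : ZMod 2, i • a 1 + j • a 2 + l • a 3 = 0 → i = 0 ∧ j = 0 ∧ l = 0 := by
    intro i j l e
    have hm : ∀ (i : ZMod 2) (r : Fin 4), ∃ m : Subgroup.centralizer ({z} : Set G),
        (m : G) = τ * p2 (P.x r) i * τ⁻¹ ∧ Mem F (P.x 0) (i • a r) m := fun i r => by
      rcases zm2 i with rfl | rfl
      · refine ⟨1, by rw [p2_zero]; simp, by rw [zero_smul]; exact inP_facts.1, ?_, by rw [map_one, zero_smul, R_zero]⟩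
        have := (Iel_mem F h hB 0 0).2.1
        rwa [Iel_00 F] at this
      · exact ⟨cC (hyz r), by rw [p2_one]; rfl, by rw [one_smul]; exact hy r⟩
    obtain ⟨m1, e1', M1⟩ := hm i 1
    obtain ⟨m2, e2', M2⟩ := hm j 2
    obtain ⟨m3, e3', M3⟩ := hm l 3
    have M := (M1.mul F h M2).mul F h M3
    rw [e] at M
    have hQ : ((m1 * m2 * m3 : Subgroup.centralizer ({z} : Set G)) : G) ∈ Q :=
      (F.π_ker _).1 (M.2.2.trans R_zero)
    obtain ⟨s, t, est⟩ := sect_Iel F h hB hQ M.2.1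
    set g := p2 (P.x 1) i * p2 (P.x 2) j * p2 (P.x 3) l
    have hg : τ * g * τ⁻¹ = Iel z (P.x 0) s t := by
      rw [← est, Subgroup.coe_mul, Subgroup.coe_mul, e1', e2', e3', conj_mul, conj_mul]
    obtain ⟨v1Q, v1⟩ := vec_p2 F h (P.sing 1).mem i
    obtain ⟨v2Q, v2⟩ := vec_p2 F h (P.sing 2).mem j
    obtain ⟨v3Q, v3⟩ := vec_p2 F h (P.sing 3).mem l
    have hgv : F.vec g = i • eU 1 + j • eU 2 + l • eU 3 := by
      rw [F.vec_mul _ (mul_mem v1Q v2Q) _ v3Q, F.vec_mul _ v1Q _ v2Q, v1, v2, v3, P.vx, P.vx, P.vx]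
    have hsw : τ⁻¹ * P.x 0 * τ = z := by rw [← t2]; group
    have hsw' : τ⁻¹ * z * τ = P.x 0 := by
      calc τ⁻¹ * z * τ = τ⁻¹ * (τ * P.x 0 * τ⁻¹) * τ := by rw [t1]
        _ = P.x 0 := by group
    have hg' : g = τ⁻¹ * Iel z (P.x 0) s t * τ := by rw [← hg]; group
    have hv0 : F.vec g = 0 ∨ F.vec g = eU 0 := by
      rw [hg']
      rcases zm2 s with rfl | rfl <;> rcases zm2 t with rfl | rfl
      · rw [Iel_00 F, show τ⁻¹ * 1 * τ = (1 : G) by group]; exact Or.inl (vec_one F h)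
      · rw [Iel_01 F, hsw']; exact Or.inr (P.vx 0)
      · rw [Iel_10 F, hsw]; exact Or.inl (vec_z F h)
      · rw [Iel_11 F, show τ⁻¹ * (P.x 0 * z) * τ = τ⁻¹ * P.x 0 * τ * (τ⁻¹ * z * τ) by group, hsw, hsw',
          F.vec_mul z (zQ h) _ (P.sing 0).mem, vec_z F h, zero_add]
        exact Or.inr (P.vx 0)
    have key : ∀ i j l : ZMod 2, (i • eU 1 + j • eU 2 + l • eU 3 = 0 ∨ i • eU 1 + j • eU 2 + l • eU 3 = eU 0) →
        i = 0 ∧ j = 0 ∧ l = 0 := by decide +kernel
    exact key i j l (hgv ▸ hv0)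
  have ha1 : a 1 ≠ 0 := fun e => one_ne_zero (hind 1 0 0 (by rw [one_smul, e]; simp)).1
  obtain ⟨c1, c1m, c1e⟩ := rep_move (hy 1).1 ha1
  rw [if_pos (hq 1)] at c1e
  have pe : ∀ {c : Ga}, c ∈ St → ∀ i, pol e0 (c • a i) = 0 := fun {c} hc i => by
    rw [St_perp hc]; exact (inP_perp (hy i).1).1
  have hpc : ∀ {c : Ga}, c ∈ St → ∀ i j, pol (nz (c • a i)) (nz (c • a j)) = 0 := fun {c} hc i j => by
    rw [nz_pol (pe hc i) (pe hc j), smul_pol]; exact hp i j
  have hqc : ∀ {c : Ga}, c ∈ St → ∀ i, qm (nz (c • a i)) = 0 := fun {c} hc i => by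
    rw [nz_qm (pe hc i), smul_qm]; exact hq i
  have hindc : ∀ {c : Ga}, c ∈ St → ∀ i j l : ZMod 2,
      i • nz (c • a 1) + j • nz (c • a 2) + l • nz (c • a 3) = 0 → i = 0 ∧ j = 0 ∧ l = 0 := by
    intro c hc i j l e
    refine hind i j l ?_
    have hsm : ∀ (i : ZMod 2) (v : V), i • nz v = nz (i • v) := fun i v => by
      rcases zm2 i with rfl | rfl
      · rw [zero_smul, zero_smul, nz_of_inP inP_facts.1]
      · rw [one_smul, one_smul]
    rw [hsm, hsm, hsm, ← nz_add, ← nz_add, ← smul_smul', ← smul_smul', ← smul_smul', ← smul_add', ← smul_add']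
      at e
    have hP : InP (i • a 1 + j • a 2 + l • a 3) := by
      have : ∀ (i : ZMod 2) r, InP (i • a r) := fun i r => by
        rcases zm2 i with rfl | rfl
        · rw [zero_smul]; exact inP_facts.1
        · rw [one_smul]; exact (hy r).1
      exact inP_add (inP_add (this i 1) (this j 2)) (this l 3)
    have e' : nz (c⁻¹ • nz (c • (i • a 1 + j • a 2 + l • a 3))) = nz (c⁻¹ • (0 : V)) := by rw [e]
    rwa [nz_smul_nz (inv_mem hc), inv_smul_smul, nz_of_inP hP, smul_zero', nz_of_inP inP_facts.1] at e'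
  have u1 : pol e1 (nz (c1 • a 2)) = 0 := by rw [← c1e]; exact hpc c1m 1 2
  obtain ⟨c2, c2m, c2e, c2f⟩ := u2_move (hqc c1m 2) (inP_perp (St_inP c1m (hy 2).1)).1 u1 ⟨
    fun e => one_ne_zero (hindc c1m 0 1 0 (by rw [one_smul, e]; simp)).2.1,
    fun e => by
      have h0 := congrFun e (.inl 0)
      rw [(St_inP c1m (hy 2).1).1] at h0
      exact absurd h0 (by decide +kernel),
    fun e => one_ne_zero (hindc c1m 1 1 0 (by rw [one_smul, one_smul, zero_smul, e, c1e, ZModModule.add_self, add_zero])).2.1,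
    fun e => by
      have h0 := congrFun e (.inl 0)
      rw [(St_inP c1m (hy 2).1).1] at h0
      exact absurd h0 (by decide +kernel)⟩
  have hc : c2 * c1 ∈ St := mul_mem c2m c1m
  have comp : ∀ i, nz ((c2 * c1) • a i) = nz (c2 • nz (c1 • a i)) := fun i => by rw [mul_smul, nz_smul_nz c2m]
  set b : Fin 4 → V := fun i => nz ((c2 * c1) • a i) with hb
  have b1 : b 1 = e1 := by rw [hb]; simp only; rw [comp, c1e, c2e]
  have b2 : b 2 = e2 ∨ b 2 = e2 + e1 := by rw [hb]; simp only; rw [comp]; exact c2f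
  have b31 : pol (b 3) e1 = 0 := by rw [← b1]; exact hpc hc 3 1
  have b32 : pol (b 3) e2 = 0 := by
    have := hpc hc 3 2
    rcases b2 with e | e <;> rw [show nz ((c2 * c1) • a 2) = b 2 from rfl, e] at this
    · exact this
    · rwa [pol_add_right, show pol (nz ((c2 * c1) • a 3)) e1 = 0 from b31, add_zero] at this
  have hspan : ∀ i j : ZMod 2, b 3 ≠ i • e1 + j • e2 := by
    intro i j e
    rcases b2 with e' | e'
    · exact one_ne_zero (hindc hc i j 1 (by
        show i • b 1 + j • b 2 + (1 : ZMod 2) • b 3 = 0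
        rw [b1, e', one_smul, e, ZModModule.add_self])).2.2
    · exact one_ne_zero (hindc hc (i + j) j 1 (by
        show (i + j) • b 1 + j • b 2 + (1 : ZMod 2) • b 3 = 0
        rw [b1, e', one_smul, e, smul_add, add_smul,
          show i • e1 + j • e1 + (j • e2 + j • e1) + (i • e1 + j • e2) =
            (i • e1 + i • e1) + (j • e1 + j • e1) + (j • e2 + j • e2) by abel]
        simp only [ZModModule.add_self, add_zero])).2.2
  obtain ⟨d, hd, hd3⟩ : ∃ d, (d = e3 ∨ d = f3) ∧ pol (b 3) d = 0 := by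
    rcases plane_last (b 3) (St_inP hc (hy 3).1) b31 b32 (hqc hc 3) hspan with e | e
    exacts [⟨e3, Or.inl rfl, e⟩, ⟨f3, Or.inr rfl, e⟩]
  have perp : ∀ r : Fin 4, r ≠ 0 → pol (b r) e1 = 0 ∧ pol (b r) e2 = 0 ∧ pol (b r) d = 0 := by
    have facts : pol e1 e1 = 0 ∧ pol e1 e2 = 0 ∧ pol e2 e1 = 0 ∧ pol e2 e2 = 0 ∧ pol e1 e3 = 0 ∧ pol e2 e3 = 0 ∧
        pol e1 f3 = 0 ∧ pol e2 f3 = 0 := by decide +kernel
    obtain ⟨q11, q12, q21, q22, q13, q23, q13', q23'⟩ := facts
    intro r hr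
    have hr' : r = 1 ∨ r = 2 ∨ r = 3 := (by decide : ∀ r : Fin 4, r ≠ 0 → r = 1 ∨ r = 2 ∨ r = 3) r hr
    rcases hr' with rfl | rfl | rfl
    · rw [b1]; rcases hd with rfl | rfl
      exacts [⟨q11, q12, q13⟩, ⟨q11, q12, q13'⟩]
    · rcases b2 with e | e <;> rw [e] <;> rcases hd with rfl | rfl <;>
        simp only [pol_add_left, q11, q12, q21, q22, q13, q23, q13', q23', add_zero, and_self]
    · exact ⟨b31, b32, hd3⟩
  obtain ⟨k, hk, hkx⟩ := move_x F h hB hc
  set g := (k : G) * τ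
  have gz : g * z * g⁻¹ = P.x 0 := by
    rw [show g * z * g⁻¹ = (k : G) * (τ * z * τ⁻¹) * (k : G)⁻¹ by simp only [g]; group, t2, hkx.eq,
      mul_inv_cancel_right]
  have gx : g * P.x 0 * g⁻¹ = z := by
    rw [show g * P.x 0 * g⁻¹ = (k : G) * (τ * P.x 0 * τ⁻¹) * (k : G)⁻¹ by simp only [g]; group, t1,
      (mem_C.1 k.2).eq, mul_inv_cancel_right]
  -- elements over the plane
  have hW : ∀ (F' : Frame z Q), (∀ q ∈ Eset F', ∃ i0 i1 i2 i3 : ZMod 2,
      F.vec q = i0 • e0 + i1 • e1 + i2 • e2 + i3 • d) → ∀ q ∈ Eset F', g⁻¹ * q * g ∈ Asub F := by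
    intro F' hF' q hqE
    obtain ⟨i0, i1, i2, i3, hv⟩ := hF' q hqE
    have q0 : pol e0 (F.vec q) = 0 := by
      rw [hv]
      rcases hd with rfl | rfl <;> clear hv <;> revert i0 i1 i2 i3 <;> decide +kernel
    have hcomm : ∀ r, Commute q (g * P.x r * g⁻¹) := fun r => by
      by_cases hr : r = 0
      · rw [hr, gx]; exact Qz h hqE.1
      have hM : Mem F (P.x 0) (b r) (k * cC (hyz r) * k⁻¹) := by
        have := (hy r).conj F h hkx (by rw [hk]; exact hc)
        rwa [hk] at this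
      have hpr := pairing F h hB hM hqE.1 q0
      obtain ⟨p1, p2', p3⟩ := perp r hr
      rw [hv, pol_comm', pol_add_right, pol_add_right, pol_add_right, pol_smul_right, pol_smul_right,
        pol_smul_right, pol_smul_right, p1, p2', p3, pol_comm' (b r) e0, (inP_perp hM.1).1] at hpr
      simp only [mul_zero, add_zero, Iel_00 F, one_mul] at hpr
      have hval : ((k * cC (hyz r) * k⁻¹ : Subgroup.centralizer ({z} : Set G)) : G) = g * P.x r * g⁻¹ := by
        show (k : G) * (τ * P.x r * τ⁻¹) * (k : G)⁻¹ = _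
        simp only [g]; group
      rw [hval] at hpr
      exact hpr
    refine Subgroup.mem_centralizer_iff.2 fun e he => ?_
    obtain ⟨n, hn, rfl⟩ := P.psi_surj h B hG (E_A F h he)
    have hall : ∀ t, Commute (bif Nat.testBit n t then (1 : G) else 1) q := fun t => by simp
    have key : Commute q (g * P.psi n * g⁻¹) := by
      have hlow : ∀ t : Fin 11, 5 ≤ t.val → Nat.testBit n t.val = false := by
        intro t ht
        have hπ := P.π_psi h B hG n hn
        rw [(F.π_ker (cC (A_z F h (P.psi_mem h B n)))).2 he.1] at hπ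
        have key : ∀ ω : Fin 6 → Bool, (∀ i, wV ω (fU i) = fU i) → ∀ k, ω k = false := by decide +kernel
        have := key _ (fun i => by rw [← wG_act, ← hπ, one_smul]) ⟨t.val - 5, by omega⟩
        simpa [show t.val - 5 + 5 = t.val by omega] using this
      show Commute q (g * (List.map _ _).prod * g⁻¹)
      rw [← MulAut.conj_apply, map_list_prod]
      refine Commute.list_prod_right _ _ fun x hx => ?_
      obtain ⟨x', hx', rfl⟩ := List.mem_map.1 hx
      obtain ⟨t, -, rfl⟩ := List.mem_map.1 hx'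
      rw [MulAut.conj_apply]
      cases hb' : Nat.testBit n t.val
      · simp
      show Commute q (g * P.gen t * g⁻¹)
      rcases Nat.lt_or_ge t.val 5 with h5 | h5
      · unfold Pts.gen
        split_ifs
        · rw [gz]; exact comm_x F hB hqE.1 q0
        · exact hcomm _
      · rw [hlow t h5] at hb'; cases hb'
    have := (Commute.conj_iff g⁻¹).2 key
    rw [show g⁻¹ * (g * P.psi n * g⁻¹) * g⁻¹⁻¹ = P.psi n by group, inv_inv] at this
    exact this.eq.symm
  have habA : ∀ a ∈ Asub F, ∀ b ∈ Asub F, Commute a b := fun a ha b hb =>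
    congrArg Subtype.val (hel.1.is_comm.comm (⟨a, ha⟩ : Asub F) ⟨b, hb⟩)
  set X := (Asub F).map (MulAut.conj g).toMonoidHom with hX
  have hXc : Nat.card X = 2 ^ 11 := by
    rw [← hcard]
    exact (Nat.card_congr (Subgroup.equivMapOfInjective (Asub F) _ (MulAut.conj g).injective).toEquiv).symm
  have hXab : ∀ a ∈ X, ∀ b ∈ X, Commute a b := by
    rintro _ ⟨a, ha, rfl⟩ _ ⟨b, hb, rfl⟩
    exact (habA a ha b hb).map _
  have sub : ∀ F' : Frame z Q, (∀ q ∈ Eset F', g⁻¹ * q * g ∈ Asub F) → X ≤ Asub F' := fun F' hF' => by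
    rintro _ ⟨a, ha, rfl⟩
    refine Subgroup.mem_centralizer_iff.2 fun q hqE => ?_
    have := ((habA _ (hF' q hqE) a ha).map (MulAut.conj g).toMonoidHom).eq
    simpa [mul_assoc] using this
  rcases hd with rfl | rfl
  · have hle := sub F (hW F fun q hqE => span4 _ hqE.2)
    have hXA : X = Asub F := Subgroup.eq_of_le_of_card_ge hle (by rw [hXc, hcard])
    refine ⟨g, Subgroup.mem_normalizer_iff.2 fun a => ⟨fun ha => ?_, fun ha => ?_⟩, gz, gx⟩
    · have : g * a * g⁻¹ ∈ X := ⟨a, ha, rfl⟩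
      rwa [hXA] at this
    · rw [← hXA] at ha
      obtain ⟨a', ha', e⟩ := ha
      have : a' = a := mul_left_cancel (mul_right_cancel e)
      rwa [← this]
  · exfalso
    have hfl : ∀ v : V, (∀ i : Fin 4, (v + pol n0 v • n0) (.inr i) = 0) →
        ∃ i0 i1 i2 i3 : ZMod 2, v = i0 • e0 + i1 • e1 + i2 • e2 + i3 • f3 := by decide +kernel
    exact P.not_flip h B hG (good_of_abelian h (sub (flipFrame F) (hW _ fun q hqE => hfl _ (by
      have := hqE.2
      rwa [show (flipFrame F).vec q = F.vec q + pol n0 (F.vec q) • n0 from sig_act _] at this))) hXc hXab)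

end Cfsg.Agent.Spor.CoT.Octad
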