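import Cfsg.Agent.Lib.Spor.CoTOctad.Act
import Cfsg.Agent.Lib.Spor.CoTOctad.Swap

/-!
Groups of Conway type: a subgroup of order 1024 of the normaliser meeting the elementary abelian subgroup trivially.
-/

set_option autoImplicit false
set_option maxRecDepth 100000
set_option linter.unusedSectionVars false

namespace Cfsg.Agent.Spor.CoT.Octad

/-- the six positive root elements in the order of the tower -/
def mk6 : Fin 6 → Fin 4 × Fin 4 := ![(0, 3), (1, 3), (2, 3), (0, 2), (1, 2), (0, 1)]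

/-- the effect of a product of root elements on the subspace -/
def mimg (ε : Fin 6 → Bool) (m : ℕ) : ℕ :=
  (List.finRange 6).foldr (fun q r => bif ε q && Nat.testBit r (mk6 q).2.val then r ^^^ 2 ^ (mk6 q).1.val else r) m

theorem mk6_lt : ∀ q : Fin 6, (mk6 q).1 < (mk6 q).2 := by decide

theorem mimg_inj : ∀ ε ε' : Fin 6 → Bool, (∀ i : Fin 4, mimg ε (2 ^ i.val) = mimg ε' (2 ^ i.val)) → ε = ε' := by
  decide +kernel

theorem mimg_zero : ∀ i : Fin 4, mimg (fun _ => false) (2 ^ i.val) = 2 ^ i.val := by decide +kernel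

theorem move_spec : ∀ q : Fin 6, ∀ m : Fin 16,
    tV (eU (mk6 q).1) (fU (mk6 q).2) (vec m.val) =
      vec (bif Nat.testBit m.val (mk6 q).2.val then m.val ^^^ 2 ^ (mk6 q).1.val else m.val) ∧
    (bif Nat.testBit m.val (mk6 q).2.val then m.val ^^^ 2 ^ (mk6 q).1.val else m.val) < 16 := by decide +kernel

/-- the transvection of two coded vectors -/
noncomputable def TgC (c : ℕ × ℕ) : Ga := Tg (vec c.1) (vec c.2)

/-- coded transvections applied to a coded vector -/
def tVC (l : List (ℕ × ℕ)) (v : V) : V := l.foldr (fun c r => tV (vec c.1) (vec c.2) r) v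

theorem TgC_act {l : List (ℕ × ℕ)} (hl : ∀ c ∈ l, vec c.1 ≠ 0 ∧ qm (vec c.1) = 0 ∧ pol (vec c.1) (vec c.2) = 0)
    (v : V) : (l.map TgC).prod • v = tVC l v := by
  induction l with
  | nil => exact one_smul _ _
  | cons c l ih =>
    obtain ⟨a, b, d⟩ := hl c (by simp)
    rw [List.map_cons, List.prod_cons, mul_smul, ih fun x hx => hl x (by simp [hx]), TgC, Tg_act a b d]
    rfl

/-- a move of the subspace -/
def TMove (l : List (ℕ × ℕ)) (k j r m : Fin 4) : Prop :=
  (∀ c ∈ l, vec c.1 ≠ 0 ∧ qm (vec c.1) = 0 ∧ pol (vec c.1) (vec c.2) = 0) ∧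
    tVC l (eU 0) = eU k ∧ tVC l (eU 1) = fU j ∧ tVC l (eU 2) = eU r ∧ tVC l (eU 3) = fU m

theorem moves : TMove [(2, 8), (32, 128), (2, 128), (8, 32), (2, 128)] 0 1 2 3 ∧
    TMove [(8, 32), (4, 128), (2, 128), (8, 64), (2, 8), (32, 128)] 0 2 1 3 ∧
    TMove [(4, 32), (2, 64), (2, 8), (32, 128)] 0 3 1 2 := by
  simp only [TMove]; decide +kernel

theorem comm_img : ∀ v : V,
    tV (eU 0) (fU 1) (tV (eU 1) (fU 2) (tV (eU 0) (fU 1) (tV (eU 1) (fU 2) v))) = tV (eU 0) (fU 2) v ∧
    tV (eU 1) (fU 2) (tV (eU 2) (fU 3) (tV (eU 1) (fU 2) (tV (eU 2) (fU 3) v))) = tV (eU 1) (fU 3) v ∧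
    tV (eU 0) (fU 2) (tV (eU 2) (fU 3) (tV (eU 0) (fU 2) (tV (eU 2) (fU 3) v))) = tV (eU 0) (fU 3) v := by
  decide +kernel

section tower

variable {H : Type*} [Group H]

/-- product over bits -/
def pw : ∀ {n : ℕ}, (Fin n → H) → (Fin n → Bool) → H
  | 0, _, _ => 1
  | _ + 1, g, ε => pw (fun i => g i.castSucc) (fun i => ε i.castSucc) * (bif ε (Fin.last _) then g (Fin.last _) else 1)

theorem pw_mem {S : Subgroup H} : ∀ {n : ℕ} {g : Fin n → H}, (∀ i, g i ∈ S) → ∀ ε, pw g ε ∈ S
  | 0, _, _, _ => one_mem S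
  | n + 1, g, h, ε => mul_mem (pw_mem (fun i => h _) _) (by
      cases ε (Fin.last n)
      exacts [one_mem S, h _])

theorem pw_append {a : ℕ} : ∀ {b : ℕ} (g : Fin (a + b) → H) (ε : Fin (a + b) → Bool),
    pw g ε = pw (fun i => g (Fin.castAdd b i)) (fun i => ε (Fin.castAdd b i)) *
      pw (fun i => g (Fin.natAdd a i)) (fun i => ε (Fin.natAdd a i))
  | 0, g, ε => (mul_one _).symm
  | b + 1, g, ε => by
    exact (congrArg (· * _) (pw_append (b := b) (fun i => g i.castSucc) (fun i => ε i.castSucc))).trans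
      (mul_assoc _ _ _)

theorem tower_closure : ∀ {n : ℕ} (g : Fin n → H), (∀ i, g i * g i = 1) →
    (∀ i j : Fin n, j < i → g i * g j * (g i)⁻¹ ∈ Subgroup.closure (g '' {t | t < i})) →
    ∀ x ∈ Subgroup.closure (Set.range g), ∃ ε, x = pw g ε
  | 0, g, _, _, x, hx => by
    rw [Set.range_eq_empty g, Subgroup.closure_empty, Subgroup.mem_bot] at hx
    exact ⟨fun _ => false, hx⟩
  | n + 1, g, hsq, hconj, x, hx => by
    set g' : Fin n → H := fun i => g i.castSucc
    set a := g (Fin.last n)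
    set S := Subgroup.closure (Set.range g')
    have himg : ∀ i : Fin n, g '' {t | t < i.castSucc} = g' '' {t | t < i} := fun i => by
      ext y
      constructor
      · rintro ⟨t, ht, rfl⟩
        exact ⟨⟨t.val, lt_trans (show t.val < i.val from ht) i.2⟩, show t.val < i.val from ht, rfl⟩
      · rintro ⟨t, ht, rfl⟩
        exact ⟨t.castSucc, show t.val < i.val from ht, rfl⟩
    have ih := tower_closure g' (fun i => hsq _) fun i j hij => by
      have := hconj i.castSucc j.castSucc hij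
      rwa [himg] at this
    have hlast : g '' {t | t < Fin.last n} = Set.range g' := by
      ext y
      constructor
      · rintro ⟨t, ht, rfl⟩; exact ⟨⟨t.val, ht⟩, rfl⟩
      · rintro ⟨t, rfl⟩; exact ⟨t.castSucc, Fin.castSucc_lt_last t, rfl⟩
    have ha : ∀ y ∈ S, a * y * a⁻¹ ∈ S := fun y hy => by
      have hle : S ≤ S.comap (MulAut.conj a).toMonoidHom := by
        refine (Subgroup.closure_le _).2 ?_
        rintro _ ⟨t, rfl⟩
        have := hconj (Fin.last n) t.castSucc (Fin.castSucc_lt_last t)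
        rwa [hlast] at this
      exact hle hy
    have hai : a⁻¹ = a := inv_eq_of_mul_eq_one_right (hsq _)
    let W : Subgroup H :=
      { carrier := {y | y ∈ S ∨ y * a ∈ S}
        one_mem' := Or.inl (one_mem S)
        mul_mem' := by
          rintro u v (hu | hu) (hv | hv)
          · exact Or.inl (mul_mem hu hv)
          · exact Or.inr (by rw [mul_assoc]; exact mul_mem hu hv)
          · refine Or.inr ?_
            rw [show u * v * a = u * a * (a⁻¹ * v * a) by group, hai]
            exact mul_mem hu (by simpa only [hai] using ha v hv)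
          · refine Or.inl ?_
            rw [show u * v = u * a * (a⁻¹ * (v * a) * a⁻¹) by group]
            refine mul_mem hu ?_
            rw [hai]
            simpa only [hai] using ha _ hv
        inv_mem' := by
          rintro u (hu | hu)
          · exact Or.inl (inv_mem hu)
          · refine Or.inr ?_
            have := ha _ (inv_mem hu)
            rw [mul_inv_rev, hai, show a * (a * u⁻¹) * a = (a * a) * (u⁻¹ * a) by group, hsq, one_mul] at this
            exact this }
    have hW : Subgroup.closure (Set.range g) ≤ W := by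
      refine (Subgroup.closure_le _).2 ?_
      rintro _ ⟨t, rfl⟩
      rcases Fin.eq_castSucc_or_eq_last t with ⟨t', rfl⟩ | rfl
      · exact Or.inl (Subgroup.subset_closure ⟨t', rfl⟩)
      · exact Or.inr (by rw [hsq]; exact one_mem S)
    rcases hW hx with hx' | hx'
    · obtain ⟨ε, rfl⟩ := ih _ hx'
      refine ⟨Fin.snoc ε false, ?_⟩
      show pw g' ε = pw g' (fun i => (Fin.snoc ε false : Fin (n + 1) → Bool) i.castSucc) *
        (bif (Fin.snoc ε false : Fin (n + 1) → Bool) (Fin.last n) then a else 1)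
      simp only [Fin.snoc_castSucc, Fin.snoc_last, cond_false, mul_one]
    · obtain ⟨ε, he⟩ := ih _ hx'
      refine ⟨Fin.snoc ε true, ?_⟩
      show x = pw g' (fun i => (Fin.snoc ε true : Fin (n + 1) → Bool) i.castSucc) *
        (bif (Fin.snoc ε true : Fin (n + 1) → Bool) (Fin.last n) then a else 1)
      simp only [Fin.snoc_castSucc, Fin.snoc_last, cond_true, ← he, mul_assoc, a, hsq, mul_one]

end tower

universe u

variable {G : Type u} [Group G] [Finite G] {z : G} {Q : Subgroup G} {F : Frame z Q} {x0 : G}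

/-- an element over an elementary transvection in both subgroups -/
structure Root (P : Pts F) (R : Parts F) (k j : Fin 4) (n : Subgroup.centralizer ({z} : Set G)) : Prop where
  ne : k ≠ j
  left : InQ z Q (P.x k) n
  right : InQ z Q (R.p j * z) n
  img : F.π n = Tg (eU k) (fU j)

variable {P : Pts F} {R : Parts F}

theorem Parts.vpz (h : Hyp z Q) (R : Parts F) (j : Fin 4) : F.vec (R.p j * z) = fU j := by
  rw [vec_mul_z F h (R.sing j).mem, R.vp]

theorem fU_img (k j i : Fin 4) (hkj : k ≠ j) :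
    Tg (eU k) (fU j) • fU i = fU i + (if i = k then fU j else 0) := by
  rw [root_act hkj, tV, (eU_facts.2.1 i j).2.1, pol_fU_eU, (eU_facts.1 j).2.2.2]
  by_cases e : i = k
  · rw [if_pos e.symm, if_pos e]; simp
  · rw [if_neg (fun e' => e e'.symm), if_neg e]; simp

theorem Root.sq (h : Hyp z Q) (B : Base F x0) {k j : Fin 4} {n : Subgroup.centralizer ({z} : Set G)}
    (hn : Root P R k j n) : (n : G) * n = 1 := by
  rw [sq_over F h B (P.sing k) hn.left (a := fU j) (by rw [P.vx, pol_eU_fU, if_neg hn.ne]) (by rw [P.vx]; exact hn.img),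
    (eU_facts.1 j).2.2.2, p2_zero]

theorem Root.same_left (h : Hyp z Q) (B : Base F x0) {k j l : Fin 4}
    {n n' : Subgroup.centralizer ({z} : Set G)} (hn : Root P R k j n) (hn' : Root P R k l n') :
    Commute (n : G) n' := by
  have := comm_over F h B (P.sing k) hn.left hn'.left (a := fU j) (b := fU l)
    (by rw [P.vx, pol_eU_fU, if_neg hn.ne]) (by rw [P.vx, pol_eU_fU, if_neg hn'.ne]) (by rw [P.vx]; exact hn.img)
    (by rw [P.vx]; exact hn'.img)
  rwa [(eU_facts.2.1 j l).2.1, p2_zero, one_mul] at this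

theorem Root.img_symm {k j : Fin 4} {n : Subgroup.centralizer ({z} : Set G)} (hn : Root P R k j n) :
    F.π n = Tg (fU j) (eU k) := by
  rw [hn.img, Tg_symm (eU_facts.1 k).1 (fU_ne j) (eU_facts.1 k).2.1 (eU_facts.1 j).2.2.2
    (by rw [pol_eU_fU, if_neg hn.ne])]

theorem Root.same_right (h : Hyp z Q) (B : Base F x0) {k l j : Fin 4}
    {n n' : Subgroup.centralizer ({z} : Set G)} (hn : Root P R k j n) (hn' : Root P R l j n') :
    Commute (n : G) n' := by
  have := comm_over F h B ((R.sing j).mul_z h) hn.right hn'.right (a := eU k) (b := eU l)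
    (by rw [R.vpz h, pol_fU_eU, if_neg hn.ne]) (by rw [R.vpz h, pol_fU_eU, if_neg hn'.ne])
    (by rw [R.vpz h]; exact hn.img_symm) (by rw [R.vpz h]; exact hn'.img_symm)
  rwa [(eU_facts.2.1 k l).1, p2_zero, one_mul] at this

theorem Root.comm_x (h : Hyp z Q) (B : Base F x0) {k j i : Fin 4} {n : Subgroup.centralizer ({z} : Set G)}
    (hn : Root P R k j n) (hi : i ≠ j) : Commute (P.x i) (n : G) :=
  comm_fix F h B (P.sing k) hn.left (P.sing i).mem (by rw [P.vx, P.vx]; exact (eU_facts.2.1 k i).1)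
    (by rw [P.vx, hn.img, root_eU hn.ne, if_neg hi, add_zero])

theorem Root.comm_p (h : Hyp z Q) (B : Base F x0) {k j i : Fin 4} {n : Subgroup.centralizer ({z} : Set G)}
    (hn : Root P R k j n) (hi : i ≠ k) : Commute (R.p i) (n : G) :=
  comm_fix F h B (P.sing k) hn.left (R.sing i).mem (by rw [P.vx, R.vp, pol_eU_fU, if_neg hi.symm])
    (by rw [R.vp, hn.img, fU_img k j i hn.ne, if_neg hi, add_zero])

theorem Root.move_p (h : Hyp z Q) (B : Base F x0) {k j : Fin 4} {n : Subgroup.centralizer ({z} : Set G)}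
    (hn : Root P R k j n) : (n : G) * R.p k * (n : G)⁻¹ = R.p j * R.p k := by
  have e := flip F h B ((R.sing j).mul_z h) hn.right (R.sing k).mem
    (by rw [R.vpz h, R.vp]; exact (eU_facts.2.1 j k).2.1)
    (by rw [R.vp, R.vpz h, hn.img, fU_img k j k hn.ne, if_pos rfl])
  rw [mul_assoc (R.p j) z z, zz h, mul_one] at e
  calc (n : G) * R.p k * (n : G)⁻¹ = R.p j * R.p j * ((n : G) * R.p k) * (n : G)⁻¹ := by
        rw [(R.sing j).sq F, one_mul]
    _ = R.p j * (R.p k * n) * (n : G)⁻¹ := by rw [e]; group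
    _ = _ := by group

theorem Root.chain (h : Hyp z Q) (B : Base F x0) {k j l : Fin 4}
    {n n' : Subgroup.centralizer ({z} : Set G)} (hn : Root P R k j n) (hn' : Root P R j l n') (hkl : k ≠ l)
    (himg : ∀ v : V, tV (eU k) (fU j) (tV (eU j) (fU l) (tV (eU k) (fU j) (tV (eU j) (fU l) v))) =
      tV (eU k) (fU l) v) :
    Root P R k l (n'⁻¹ * n * n' * n⁻¹) := by
  have c1 : Commute ((n' : G)⁻¹) (P.x k) := (hn'.comm_x h B hkl).symm.inv_left
  have c2 : Commute ((n : G)) (R.p l * z) := ((hn.comm_p h B hkl.symm).symm).mul_right (mem_C.1 n.2)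
  refine ⟨hkl, ?_, ?_, ?_⟩
  · show InQ z Q (P.x k) ((n' : G)⁻¹ * n * n' * (n : G)⁻¹)
    have := hn.left.conj' c1
    rw [inv_inv] at this
    exact this.mul h hn.left.inv
  · show InQ z Q (R.p l * z) ((n' : G)⁻¹ * n * n' * (n : G)⁻¹)
    rw [show (n' : G)⁻¹ * n * n' * (n : G)⁻¹ = (n' : G)⁻¹ * ((n : G) * n' * (n : G)⁻¹) by group]
    exact hn'.right.inv.mul h (hn'.right.conj' c2)
  · have a1 : (F.π n)⁻¹ = F.π n := by
      rw [hn.img, Tg_inv (eU_facts.1 k).1 (eU_facts.1 k).2.1 (by rw [pol_eU_fU, if_neg hn.ne])]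
    have a2 : (F.π n')⁻¹ = F.π n' := by
      rw [hn'.img, Tg_inv (eU_facts.1 j).1 (eU_facts.1 j).2.1 (by rw [pol_eU_fU, if_neg hn'.ne])]
    refine Ga_ext fun v => ?_
    rw [map_mul, map_mul, map_mul, map_inv, map_inv, a1, a2, hn.img, hn'.img, mul_smul, mul_smul, mul_smul,
      root_act hn.ne, root_act hn'.ne, root_act hn.ne, root_act hn'.ne, root_act hkl]
    have key : ∀ w, tV (eU k) (fU j) (tV (eU k) (fU j) w) = w := fun w => by
      rw [← root_act hn.ne, ← root_act hn.ne, ← mul_smul, ← hn.img]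
      rw [show F.π n * F.π n = 1 by nth_rewrite 1 [← a1]; exact inv_mul_cancel _, one_smul]
    have key' : ∀ w, tV (eU j) (fU l) (tV (eU j) (fU l) w) = w := fun w => by
      rw [← root_act hn'.ne, ← root_act hn'.ne, ← mul_smul, ← hn'.img]
      rw [show F.π n' * F.π n' = 1 by nth_rewrite 1 [← a2]; exact inv_mul_cancel _, one_smul]
    have e := himg (tV (eU k) (fU l) v)
    have key'' : ∀ w, tV (eU k) (fU l) (tV (eU k) (fU l) w) = w := fun w => by
      rw [← root_act hkl, ← root_act hkl, ← mul_smul,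
        Tg_add (eU_facts.1 k).1 (eU_facts.1 k).2.1 (by rw [pol_eU_fU, if_neg hkl]) (by rw [pol_eU_fU, if_neg hkl]),
        ZModModule.add_self, Tg_zero (eU_facts.1 k).1 (eU_facts.1 k).2.1, one_smul]
    rw [key''] at e
    conv_lhs => rw [← e]
    simp only [key, key']

theorem Root.disjoint_comm (h : Hyp z Q) (B : Base F x0) (hG : Good F) {k j r m : Fin 4} {l : List (ℕ × ℕ)}
    (hl : TMove l k j r m) {n n' : Subgroup.centralizer ({z} : Set G)} (hn : Root P R k j n)
    (hn' : Root P R r m n') : Commute (n : G) n' := by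
  obtain ⟨hval, m0, m1, m2, m3⟩ := hl
  obtain ⟨c, hc⟩ := F.π_surj (l.map TgC).prod
  have hel := (P.elem h B hG).1
  have key : ∀ {a b : Fin 4} {t : Subgroup.centralizer ({z} : Set G)} {k j : Fin 4} (_ : Root P R k j t),
      tVC l (eU a) = eU k → tVC l (eU b) = fU j → ((c⁻¹ * t * c : Subgroup.centralizer ({z} : Set G)) : G) ∈ Asub F := by
    intro a b t k j ht ea eb
    have hv : F.vec ((c : G)⁻¹ * P.x k * c) = eU a := by
      have := F.vec_conj c⁻¹ (P.x k) (P.sing k).mem
      rw [Subgroup.coe_inv, inv_inv, map_inv, P.vx] at this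
      rw [this, inv_smul_eq_iff, hc, TgC_act hval, ea]
    have hs : Sing F ((c : G)⁻¹ * P.x k * c) := by
      refine ⟨by simpa using h.norm (c : G)⁻¹ (mem_C.1 c.2).inv_left _ (P.sing k).mem, ?_, ?_⟩ <;> rw [hv]
      · exact (eU_facts.1 a).1
      · exact (eU_facts.1 a).2.1
    refine mem_A F h B hs (by rw [hv]; exact (eU_facts.1 a).2.2.1) ?_ (eU_facts.1 b).2.2.1 ?_
    · have := ht.left.conj (c : G)⁻¹
      rwa [inv_inv] at this
    · have hab : pol (eU a) (eU b) = 0 := (eU_facts.2.1 a b).1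
      have hT := Tg_conj (eU_facts.1 a).1 (eU_facts.1 a).2.1 hab (F.π c)
      rw [hc, TgC_act hval, TgC_act hval, ea, eb] at hT
      rw [hv, map_mul, map_mul, map_inv, ht.img, hc, ← hT]
      group
  have hcom : Commute ((c⁻¹ * n * c : Subgroup.centralizer ({z} : Set G)) : G)
      ((c⁻¹ * n' * c : Subgroup.centralizer ({z} : Set G)) : G) :=
    congrArg Subtype.val (hel.1.is_comm.comm (⟨_, key hn m0 m1⟩ : Asub F) ⟨_, key hn' m2 m3⟩)
  have := (Commute.conj_iff (c : G)).2 hcom
  rwa [show (c : G) * ((c⁻¹ * n * c : Subgroup.centralizer ({z} : Set G)) : G) * (c : G)⁻¹ = n by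
      show (c : G) * ((c : G)⁻¹ * n * c) * (c : G)⁻¹ = n; group,
    show (c : G) * ((c⁻¹ * n' * c : Subgroup.centralizer ({z} : Set G)) : G) * (c : G)⁻¹ = n' by
      show (c : G) * ((c : G)⁻¹ * n' * c) * (c : G)⁻¹ = n'; group] at this

/-- the ten generators -/
def gens (R : Parts F) (M : Fin 6 → Subgroup.centralizer ({z} : Set G)) : Fin (4 + 6) → G :=
  Fin.append R.p (fun q => (M q : G))

theorem exists_roots (h : Hyp z Q) (B : Base F x0) (hG : Good F) (P : Pts F) (R : Parts F) :
    ∃ M : Fin 6 → Subgroup.centralizer ({z} : Set G), (∀ q, Root P R (mk6 q).1 (mk6 q).2 (M q)) ∧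
      ∀ i j : Fin 6, j < i → (M i : G) * M j * (M i : G)⁻¹ ∈
        Subgroup.closure ((fun q => (M q : G)) '' {t | t < i}) := by
  have mkroot : ∀ k j : Fin 4, k ≠ j → ∃ n, Root P R k j n := fun k j hkj => by
    obtain ⟨n, a, b, c⟩ := exists_root P R h B hkj
    exact ⟨n, hkj, a, b, c⟩
  obtain ⟨na, ha⟩ := mkroot 0 1 (by decide)
  obtain ⟨nb, hb⟩ := mkroot 1 2 (by decide)
  obtain ⟨nc, hc⟩ := mkroot 2 3 (by decide)
  set n02 := nb⁻¹ * na * nb * na⁻¹ with e02
  set n13 := nc⁻¹ * nb * nc * nb⁻¹ with e13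
  set n03 := nc⁻¹ * n02 * nc * n02⁻¹ with e03
  have h02 : Root P R 0 2 n02 := ha.chain h B hb (by decide) fun v => (comm_img v).1
  have h13 : Root P R 1 3 n13 := hb.chain h B hc (by decide) fun v => (comm_img v).2.1
  have h03 : Root P R 0 3 n03 := h02.chain h B hc (by decide) fun v => (comm_img v).2.2
  have inv : ∀ {k j : Fin 4} {n : Subgroup.centralizer ({z} : Set G)}, Root P R k j n → (n : G)⁻¹ = n :=
    fun hn => inv_eq_of_mul_eq_one_right (hn.sq h B)
  let M : Fin 6 → Subgroup.centralizer ({z} : Set G) := ![n03, n13, nc, n02, nb, na]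
  refine ⟨M, fun q => by fin_cases q <;> assumption, ?_⟩
  obtain ⟨d0, d1, d2⟩ := moves
  have c0123 : Commute (na : G) nc := ha.disjoint_comm h B hG d0 hc
  have c0213 : Commute (n02 : G) n13 := h02.disjoint_comm h B hG d1 h13
  have c0312 : Commute (n03 : G) nb := h03.disjoint_comm h B hG d2 hb
  have fixed : ∀ {u v : G}, Commute u v → u * v * u⁻¹ = v := fun hu => by rw [hu.eq, mul_inv_cancel_right]
  have ab : (na : G) * nb * (na : G)⁻¹ = (nb : G) * n02 := by
    rw [e02]; simp only [Subgroup.coe_mul, Subgroup.coe_inv]; group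
  have bc : (nb : G) * nc * (nb : G)⁻¹ = (nc : G) * n13 := by
    rw [e13]; simp only [Subgroup.coe_mul, Subgroup.coe_inv]; group
  have dc : (n02 : G) * nc * (n02 : G)⁻¹ = (nc : G) * n03 := by
    rw [e03]; simp only [Subgroup.coe_mul, Subgroup.coe_inv]; group
  have a13 : (na : G) * n13 * (na : G)⁻¹ = (n13 : G) * n03 := by
    have hbd : Commute (nb : G) n02 := hb.same_right h B h02
    have hf : Commute (n03 : G) nb := c0312
    have ad : Commute (na : G) nc := c0123
    have e : (n13 : G) = (nc : G)⁻¹ * ((nb : G) * nc * (nb : G)⁻¹) := by rw [e13]; simp only [Subgroup.coe_mul, Subgroup.coe_inv]; group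
    conv_lhs => rw [e]
    rw [show (na : G) * ((nc : G)⁻¹ * ((nb : G) * nc * (nb : G)⁻¹)) * (na : G)⁻¹ =
      ((na : G) * nc * (na : G)⁻¹)⁻¹ * (((na : G) * nb * (na : G)⁻¹) * ((na : G) * nc * (na : G)⁻¹) *
        ((na : G) * nb * (na : G)⁻¹)⁻¹) by group, fixed ad, ab]
    calc (nc : G)⁻¹ * ((nb : G) * n02 * nc * ((nb : G) * n02)⁻¹) =
        (nc : G)⁻¹ * ((nb : G) * ((n02 : G) * nc * (n02 : G)⁻¹) * (nb : G)⁻¹) := by group
      _ = (nc : G)⁻¹ * ((nb : G) * nc * (nb : G)⁻¹) * ((nb : G) * n03 * (nb : G)⁻¹) := by rw [dc]; group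
      _ = _ := by rw [fixed hf.symm, ← e]
  have mem : ∀ {i : Fin 6} (t : Fin 6), t < i → (M t : G) ∈ Subgroup.closure ((fun q => (M q : G)) '' {t | t < i}) :=
    fun t ht => Subgroup.subset_closure ⟨t, ht, rfl⟩
  intro i j hij
  fin_cases i <;> fin_cases j <;>
    first
    | exact absurd hij (by decide)
    | skip
  all_goals simp only [M, Matrix.cons_val, Fin.zero_eta, Fin.mk_one, Fin.reduceFinMk, Fin.isValue]
  · -- 13, 03
    rw [fixed (h13.same_right h B h03)]; exact mem 0 (by decide)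
  · rw [fixed (hc.same_right h B h03)]; exact mem 0 (by decide)
  · rw [fixed (hc.same_right h B h13)]; exact mem 1 (by decide)
  · rw [fixed (h02.same_left h B h03)]; exact mem 0 (by decide)
  · rw [fixed c0213]; exact mem 1 (by decide)
  · rw [dc]; exact mul_mem (mem 2 (by decide)) (mem 0 (by decide))
  · rw [fixed c0312.symm]; exact mem 0 (by decide)
  · rw [fixed (hb.same_left h B h13)]; exact mem 1 (by decide)
  · rw [bc]; exact mul_mem (mem 2 (by decide)) (mem 1 (by decide))
  · rw [fixed (hb.same_right h B h02)]; exact mem 3 (by decide)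
  · rw [fixed (ha.same_left h B h03)]; exact mem 0 (by decide)
  · rw [a13]; exact mul_mem (mem 1 (by decide)) (mem 0 (by decide))
  · rw [fixed c0123]; exact mem 2 (by decide)
  · rw [fixed (ha.same_left h B h02)]; exact mem 3 (by decide)
  · rw [ab]; exact mul_mem (mem 4 (by decide)) (mem 3 (by decide))

theorem exists_unip (h : Hyp z Q) (B : Base F x0) (hG : Good F) :
    ∃ T : Subgroup G, T ≤ Subgroup.normalizer (Asub F : Set G) ∧ Asub F ⊓ T = ⊥ ∧ Nat.card T = 2 ^ 10 := by
  classical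
  obtain ⟨P⟩ := exists_pts F h B
  obtain ⟨R⟩ := exists_parts F
  obtain ⟨M, hM, hMc⟩ := exists_roots h B hG P R
  set g := gens R M with hg
  have gp : ∀ i, g (Fin.castAdd 6 i) = R.p i := fun i => Fin.append_left _ _ i
  have gm : ∀ q, g (Fin.natAdd 4 q) = (M q : G) := fun q => Fin.append_right _ _ q
  have cases10 : ∀ i : Fin (4 + 6), (∃ a, i = Fin.castAdd 6 a) ∨ ∃ b, i = Fin.natAdd 4 b := fun i =>
    Fin.addCases (motive := fun i => (∃ a, i = Fin.castAdd 6 a) ∨ ∃ b, i = Fin.natAdd 4 b)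
      (fun a => Or.inl ⟨a, rfl⟩) (fun b => Or.inr ⟨b, rfl⟩) i
  have hsq : ∀ i, g i * g i = 1 := fun i => by
    rcases cases10 i with ⟨a, rfl⟩ | ⟨b, rfl⟩
    · rw [gp]; exact (R.sing a).sq F
    · rw [gm]; exact (hM b).sq h B
  have hpp : ∀ a b, Commute (R.p a) (R.p b) := fun a b =>
    (F.comm_iff _ (R.sing a).mem _ (R.sing b).mem).2 (by rw [R.vp, R.vp]; exact (eU_facts.2.1 a b).2.1)
  have hconj : ∀ i j : Fin (4 + 6), j < i → g i * g j * (g i)⁻¹ ∈ Subgroup.closure (g '' {t | t < i}) := by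
    intro i j hij
    have mem : ∀ t, t < i → g t ∈ Subgroup.closure (g '' {t | t < i}) :=
      fun t ht => Subgroup.subset_closure ⟨t, ht, rfl⟩
    rcases cases10 i with ⟨a, rfl⟩ | ⟨b, rfl⟩ <;> rcases cases10 j with ⟨c, rfl⟩ | ⟨d, rfl⟩
    · rw [gp, gp, (hpp a c).eq, mul_inv_cancel_right, ← gp]; exact mem _ hij
    · exact absurd (Fin.lt_def.1 hij) (by rw [Fin.val_castAdd, Fin.val_natAdd]; omega)
    · rw [gm, gp]
      have hlt : ∀ e : Fin 4, Fin.castAdd 6 e < Fin.natAdd 4 b := fun e => Fin.lt_def.2 (by rw [Fin.val_castAdd, Fin.val_natAdd]; omega)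
      by_cases e : c = (mk6 b).1
      · rw [e, (hM b).move_p h B, ← gp, ← gp]
        exact mul_mem (mem _ (hlt _)) (mem _ (hlt _))
      · rw [← ((hM b).comm_p h B e).eq, mul_inv_cancel_right, ← gp]
        exact mem _ (hlt _)
    · rw [gm, gm]
      have := hMc b d (Fin.lt_def.2 (by have := Fin.lt_def.1 hij; rw [Fin.val_natAdd, Fin.val_natAdd] at this; omega))
      refine Subgroup.closure_mono ?_ this
      rintro _ ⟨t, ht, rfl⟩
      exact ⟨Fin.natAdd 4 t, Fin.lt_def.2 (by rw [Fin.val_natAdd, Fin.val_natAdd]; have := Fin.lt_def.1 (show t < b from ht); omega), gm t⟩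
  set T := Subgroup.closure (Set.range g)
  have hel := fun x hx => tower_closure g hsq hconj x hx
  have gN : ∀ i, g i ∈ Subgroup.normalizer (Asub F : Set G) := fun i => by
    rcases cases10 i with ⟨a, rfl⟩ | ⟨b, rfl⟩
    · rw [gp]
      refine mem_N h (k := cC (Qz h (R.sing a).mem)) fun v hv => ?_
      rw [π_Q F h (R.sing a).mem, one_smul]; exact hv
    · rw [gm]
      exact mem_N h fun v hv => by rw [(hM b).img]; exact root_pres (hM b).ne hv
  have gC : ∀ i, Commute (g i) z := fun i => by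
    rcases cases10 i with ⟨a, rfl⟩ | ⟨b, rfl⟩
    · rw [gp]; exact Qz h (R.sing a).mem
    · rw [gm]; exact mem_C.1 (M b).2
  -- the two parts of a product
  have split : ∀ ε : Fin (4 + 6) → Bool, ∃ q ∈ Q, ∃ c : Subgroup.centralizer ({z} : Set G),
      pw g ε = q * (c : G) ∧ F.vec q = ∑ i : Fin 4, (if ε (Fin.castAdd 6 i) then fU i else 0) ∧
      (∀ i : Fin 4, F.π c • eU i = vec (mimg (fun q => ε (Fin.natAdd 4 q)) (2 ^ i.val))) ∧
      c = pw M (fun q => ε (Fin.natAdd 4 q)) ∧ ((∀ q : Fin 6, ε (Fin.natAdd 4 q) = false) → (c : G) = 1) := by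
    intro ε
    rw [pw_append g ε, show (fun i => g (Fin.castAdd 6 i)) = R.p from funext gp,
      show (fun i => g (Fin.natAdd 4 i)) = fun q => (M q : G) from funext gm]
    set a := fun i => ε (Fin.castAdd 6 i) with ha
    set b := fun q => ε (Fin.natAdd 4 q) with hb
    have hq : ∀ (f : Fin 4 → Bool), pw R.p f ∈ Q ∧ F.vec (pw R.p f) = ∑ i : Fin 4, (if f i then fU i else 0) := by
      intro f
      have hone : ∀ i, (bif f i then R.p i else 1) ∈ Q ∧
          F.vec (bif f i then R.p i else 1) = (if f i then fU i else 0) := fun i => by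
        cases f i
        · exact ⟨one_mem Q, vec_one F h⟩
        · exact ⟨(R.sing i).mem, R.vp i⟩
      show (1 : G) * (bif f 0 then R.p 0 else 1) * (bif f 1 then R.p 1 else 1) * (bif f 2 then R.p 2 else 1) *
          (bif f 3 then R.p 3 else 1) ∈ Q ∧ F.vec ((1 : G) * (bif f 0 then R.p 0 else 1) *
          (bif f 1 then R.p 1 else 1) * (bif f 2 then R.p 2 else 1) * (bif f 3 then R.p 3 else 1)) = _
      have m1 := mul_mem (mul_mem (one_mem Q) (hone 0).1) (hone 1).1
      have m2 := mul_mem m1 (hone 2).1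
      refine ⟨mul_mem m2 (hone 3).1, ?_⟩
      rw [F.vec_mul _ m2 _ (hone 3).1, F.vec_mul _ m1 _ (hone 2).1,
        F.vec_mul _ (mul_mem (one_mem Q) (hone 0).1) _ (hone 1).1, F.vec_mul _ (one_mem Q) _ (hone 0).1,
        vec_one F h, (hone 0).2, (hone 1).2, (hone 2).2, (hone 3).2, Fin.sum_univ_four, zero_add]
    refine ⟨_, (hq a).1, pw M b, ?_, (hq a).2, fun i => ?_, rfl, fun hz => ?_⟩
    · congr 1
      have : ∀ {n : ℕ} (N : Fin n → Subgroup.centralizer ({z} : Set G)) (e : Fin n → Bool),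
          pw (fun q => (N q : G)) e = (pw N e : Subgroup.centralizer ({z} : Set G)) := by
        intro n
        induction n with
        | zero => intro N e; rfl
        | succ n ih =>
          intro N e
          show pw (fun q => (N q.castSucc : G)) _ * _ = _
          rw [ih]
          show _ = ((pw (fun q => N q.castSucc) (fun q => e q.castSucc) * (bif e (Fin.last n) then N (Fin.last n) else 1) : Subgroup.centralizer ({z} : Set G)) : G)
          cases e (Fin.last n) <;> rfl
      exact this M b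
    · have step : ∀ (q : Fin 6) (m : ℕ), m < 16 → F.π (bif b q then M q else 1) • vec m =
          vec (bif b q && Nat.testBit m (mk6 q).2.val then m ^^^ 2 ^ (mk6 q).1.val else m) ∧
          (bif b q && Nat.testBit m (mk6 q).2.val then m ^^^ 2 ^ (mk6 q).1.val else m) < 16 := fun q m hm => by
        cases b q
        · simp only [cond_false, Bool.false_and, map_one, one_smul]; exact ⟨trivial, hm⟩
        · obtain ⟨e1, e2⟩ := move_spec q ⟨m, hm⟩
          simp only [cond_true, Bool.true_and]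
          rw [(hM q).img, root_act (hM q).ne]
          exact ⟨e1, e2⟩
      show F.π (1 * (bif b 0 then M 0 else 1) * (bif b 1 then M 1 else 1) * (bif b 2 then M 2 else 1) *
        (bif b 3 then M 3 else 1) * (bif b 4 then M 4 else 1) * (bif b 5 then M 5 else 1)) • eU i = _
      simp only [map_mul, map_one, one_mul, mul_smul, eU]
      have h16 : (2 : ℕ) ^ i.val < 16 := by
        calc (2 : ℕ) ^ i.val ≤ 2 ^ 3 := Nat.pow_le_pow_right (by norm_num) (by omega)
          _ < 16 := by norm_num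
      obtain ⟨s5, l5⟩ := step 5 _ h16
      rw [s5]
      obtain ⟨s4, l4⟩ := step 4 _ l5
      rw [s4]
      obtain ⟨s3, l3⟩ := step 3 _ l4
      rw [s3]
      obtain ⟨s2, l2⟩ := step 2 _ l3
      rw [s2]
      obtain ⟨s1, l1⟩ := step 1 _ l2
      rw [s1, (step 0 _ l1).1]
      rfl
    · have : ∀ q : Fin 6, b q = false := hz
      show ((1 * (bif b 0 then M 0 else 1) * (bif b 1 then M 1 else 1) * (bif b 2 then M 2 else 1) *
        (bif b 3 then M 3 else 1) * (bif b 4 then M 4 else 1) * (bif b 5 then M 5 else 1) :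
          Subgroup.centralizer ({z} : Set G)) : G) = 1
      simp only [this, cond_false, mul_one]; rfl
  have hsum : ∀ e : Fin 4 → Bool, InU (∑ i : Fin 4, (if e i then fU i else 0)) → ∀ i, e i = false := by
    simp only [InU]; decide +kernel
  have hvec_inj : ∀ e e' : Fin 4 → Bool,
      (∑ i : Fin 4, (if e i then fU i else 0)) = ∑ i : Fin 4, (if e' i then fU i else 0) → e = e' := by
    decide +kernel
  have henc : ∀ e : Fin 6 → Bool, ∀ i : Fin 4, mimg e (2 ^ i.val) < 256 := by decide +kernel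
  refine ⟨T, (Subgroup.closure_le _).2 (by rintro _ ⟨i, rfl⟩; exact gN i), ?_, ?_⟩
  · refine (eq_bot_iff).2 fun x hx => ?_
    obtain ⟨hxA, hxT⟩ := hx
    obtain ⟨ε, rfl⟩ := hel x hxT
    obtain ⟨q, hq, c, e, hv, hπ, -, h1⟩ := split ε
    have hqz := Qz h hq
    rw [e] at hxA ⊢
    have hfix : ∀ i : Fin 4, mimg (fun q => ε (Fin.natAdd 4 q)) (2 ^ i.val) = mimg (fun _ => false) (2 ^ i.val) := fun i => by
      have := π_fix F h (c := cC hqz * c) hxA (eU_facts.1 i).2.2.1
      rw [map_mul, π_Q F h hq, one_mul, hπ i] at this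
      have e' := congrArg enc this
      rw [enc_vec _ (henc _ i), eU, enc_vec _ (by
        calc (2 : ℕ) ^ i.val ≤ 2 ^ 3 := Nat.pow_le_pow_right (by norm_num) (by omega)
          _ < 256 := by norm_num)] at e'
      rw [e', mimg_zero]
    have hz := mimg_inj _ _ hfix
    have c1 : (c : G) = 1 := h1 fun q => congrFun hz q
    rw [c1, mul_one] at hxA ⊢
    have hqU := (AQ_E F h hq hxA).2
    rw [hv] at hqU
    have ha := hsum _ hqU
    rw [show ε = fun _ => false from funext fun i => by
      rcases cases10 i with ⟨a, rfl⟩ | ⟨b, rfl⟩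
      exacts [ha a, congrFun hz b]] at e
    rw [c1, mul_one] at e
    rw [Subgroup.mem_bot, ← e]
    have : ∀ {n : ℕ} (g : Fin n → G), pw g (fun _ => false) = 1 := by
      intro n
      induction n with
      | zero => intro g; rfl
      | succ n ih => intro g; show pw _ (fun _ => false) * 1 = 1; rw [ih, mul_one]
    exact this g
  · rw [show (2 : ℕ) ^ 10 = Nat.card (Fin (4 + 6) → Bool) by simp]
    refine (Nat.card_congr (Equiv.ofBijective (fun ε => (⟨pw g ε, pw_mem (S := T) (fun i => Subgroup.subset_closure ⟨i, rfl⟩) ε⟩ : T))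
      ⟨fun ε ε' e => ?_, fun w => ?_⟩)).symm
    · obtain ⟨q, hq, c, e1, hv, hπ, hc, h1⟩ := split ε
      obtain ⟨q', hq', c', e1', hv', hπ', hc', h1'⟩ := split ε'
      have e2 : cC (Qz h hq) * c = cC (Qz h hq') * c' := Subtype.ext (by
        show q * (c : G) = q' * (c' : G)
        rw [← e1, ← e1']; exact congrArg Subtype.val e)
      have e3 := congrArg F.π e2
      rw [map_mul, map_mul, π_Q F h hq, π_Q F h hq', one_mul, one_mul] at e3
      have hm : (fun q => ε (Fin.natAdd 4 q)) = fun q => ε' (Fin.natAdd 4 q) := mimg_inj _ _ fun i => by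
        have := (hπ i).symm.trans ((congrArg (· • eU i) e3).trans (hπ' i))
        have e' := congrArg enc this
        rwa [enc_vec _ (henc _ i), enc_vec _ (henc _ i)] at e'
      have hqq : q = q' := by
        have h2 : q * (c : G) = q' * (c' : G) := congrArg Subtype.val e2
        rw [hc, hc', hm] at h2
        exact mul_right_cancel h2
      funext i
      rcases cases10 i with ⟨a, rfl⟩ | ⟨b, rfl⟩
      · exact congrFun (hvec_inj _ _ (hv.symm.trans ((congrArg F.vec hqq).trans hv'))) a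
      · exact congrFun hm b
    · obtain ⟨x, hx⟩ := w
      obtain ⟨ε, rfl⟩ := hel x hx
      exact ⟨ε, rfl⟩

end Cfsg.Agent.Spor.CoT.Octad
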