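import Cfsg.Agent.Lib.Spor.CoTOctad.Kappa
import Cfsg.Agent.Lib.Spor.CoTOctad.Code
import Cfsg.Agent.Lib.Spor.CoTOctad.StabU
import Cfsg.Agent.Lib.Spor.CoTOctad.Unip
import Cfsg.Agent.Lib.Spor.CoTypeBridge
import Cfsg.Agent.Lib.Spor.M23CohGaschuetz

/-!
Groups of Conway type: the normaliser of the elementary abelian subgroup of order 2048.
-/

set_option autoImplicit false
set_option maxRecDepth 100000
set_option linter.unusedSectionVars false

namespace Cfsg.Agent.Spor.CoT.Octad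

open Cfsg

theorem dodecad_point : 0 < 2048 ∧ (∃ n : Fin 2048, n.val ≠ 0 ∧ Nat.testBit orbM n.val = false) := by
  decide +kernel

universe u

variable {G : Type u} [Group G] [Finite G] {z : G} {Q : Subgroup G} {F : Frame z Q} {φ : ℕ → G}

/-- conjugation in coordinates -/
theorem Coords.maps (C : Coords F φ orbM) (y : Subgroup.normalizer (Asub F : Set G)) :
    ∃ f : ℕ → ℕ, (∀ n < 2048, f n < 2048 ∧ φ (f n) = (y : G) * φ n * (y : G)⁻¹) := by
  choose f hf hfe using fun n => C.surj _ ((Subgroup.mem_normalizer_iff.1 y.2 _).1 (C.mem n))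
  exact ⟨f, fun n _ => ⟨hf n, hfe n⟩⟩

theorem Coords.exists_perm (C : Coords F φ orbM) (y : Subgroup.normalizer (Asub F : Set G)) :
    ∃ f : ℕ → ℕ, (∀ n < 2048, f n < 2048 ∧ φ (f n) = (y : G) * φ n * (y : G)⁻¹) ∧
      ∃ σ ∈ M24, Acts σ f := by
  obtain ⟨f, hf⟩ := C.maps y
  refine ⟨f, hf, exists_acts (fun n hn => (hf n hn).1) (fun a ha b hb => ?_) (fun a ha b hb e => ?_) fun n hn => ?_⟩
  · have hab : a ^^^ b < 2048 := Nat.xor_lt_two_pow (n := 11) ha hb
    refine C.inj _ (hf _ hab).1 _ (Nat.xor_lt_two_pow (n := 11) (hf a ha).1 (hf b hb).1) ?_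
    rw [(hf _ hab).2, C.mul, C.mul, (hf a ha).2, (hf b hb).2, conj_mul]
  · refine C.inj a ha b hb ?_
    have h := (hf a ha).2.symm.trans ((congrArg φ e).trans (hf b hb).2)
    exact mul_left_cancel (mul_right_cancel h)
  · rw [Bool.eq_iff_iff, ← C.orb _ (hf n hn).1, ← C.orb n hn, (hf n hn).2]
    constructor
    · rintro ⟨c, hc, e⟩
      exact ⟨(y : G)⁻¹ * c, mul_mem (inv_mem y.2) hc, by
        rw [show (y : G)⁻¹ * c * z * ((y : G)⁻¹ * c)⁻¹ = (y : G)⁻¹ * (c * z * c⁻¹) * y by group, e]; group⟩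
    · rintro ⟨c, hc, e⟩
      exact ⟨(y : G) * c, mul_mem y.2 hc, by rw [← e]; group⟩

/-- the permutation of an element of the normaliser -/
def Coords.Rel (_C : Coords F φ orbM) (y : Subgroup.normalizer (Asub F : Set G)) (σ : Equiv.Perm GolayPt) : Prop :=
  ∃ f : ℕ → ℕ, (∀ n < 2048, f n < 2048 ∧ φ (f n) = (y : G) * φ n * (y : G)⁻¹) ∧ Acts σ f

theorem Coords.rel_unique (C : Coords F φ orbM) {y : Subgroup.normalizer (Asub F : Set G)}
    {σ τ : Equiv.Perm GolayPt} (h1 : C.Rel y σ) (h2 : C.Rel y τ) : σ = τ := by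
  obtain ⟨f, hf, a⟩ := h1
  obtain ⟨g, hg, b⟩ := h2
  refine a.unique fun n hn => ?_
  rw [show f n = g n from C.inj _ (hf n hn).1 _ (hg n hn).1 ((hf n hn).2.trans (hg n hn).2.symm)]
  exact b n hn

theorem Coords.rel_mul (C : Coords F φ orbM) {x y : Subgroup.normalizer (Asub F : Set G)}
    {σ τ : Equiv.Perm GolayPt} (h1 : C.Rel x σ) (h2 : C.Rel y τ) : C.Rel (x * y) (σ * τ) := by
  obtain ⟨f, hf, a⟩ := h1
  obtain ⟨g, hg, b⟩ := h2
  refine ⟨f ∘ g, fun n hn => ⟨(hf _ (hg n hn).1).1, ?_⟩, a.comp b fun n hn => (hg n hn).1⟩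
  rw [Function.comp_apply, (hf _ (hg n hn).1).2, (hg n hn).2, Subgroup.coe_mul]
  group

/-- the homomorphism to the Mathieu group -/
theorem Coords.exists_hom (C : Coords F φ orbM) :
    ∃ θ : Subgroup.normalizer (Asub F : Set G) →* M24, ∀ y, C.Rel y (θ y : Equiv.Perm GolayPt) := by
  have hex : ∀ y, ∃ σ : M24, C.Rel y (σ : Equiv.Perm GolayPt) := fun y => by
    obtain ⟨f, hf, σ, hσ, ha⟩ := C.exists_perm y
    exact ⟨⟨σ, hσ⟩, f, hf, ha⟩
  choose t ht using hex
  exact ⟨MonoidHom.mk' t fun x y => Subtype.ext (C.rel_unique (ht _) (C.rel_mul (ht x) (ht y))), ht⟩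

theorem Coords.ker_eq (C : Coords F φ orbM) (h : Hyp z Q)
    {θ : Subgroup.normalizer (Asub F : Set G) →* M24} (hθ : ∀ y, C.Rel y (θ y : Equiv.Perm GolayPt))
    (hab : ∀ a ∈ Asub F, ∀ b ∈ Asub F, a * b = b * a) :
    θ.ker = (Asub F).subgroupOf (Subgroup.normalizer (Asub F : Set G)) := by
  ext y
  rw [MonoidHom.mem_ker, Subgroup.mem_subgroupOf]
  obtain ⟨f, hf, ha⟩ := hθ y
  constructor
  · intro e
    rw [e] at ha
    have hid := Acts.eq_id (fun n hn => (hf n hn).1) ha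
    refine Subgroup.mem_centralizer_iff.2 fun q hq => ?_
    obtain ⟨n, hn, rfl⟩ := C.surj q (E_A F h hq)
    have e2 := (hf n hn).2
    rw [hid n hn] at e2
    calc φ n * (y : G) = (y : G) * φ n * (y : G)⁻¹ * (y : G) := by rw [← e2]
      _ = (y : G) * φ n := by group
  · intro hy
    refine Subtype.ext (ha.unique (Acts.id_of f fun n hn => C.inj _ (hf n hn).1 n hn ?_))
    rw [(hf n hn).2, hab _ hy _ (C.mem n), mul_inv_cancel_right]

theorem conclusion {G : Type u} [Group G] [Finite G] {z : G} {Q : Subgroup G} (h : Hyp z Q) :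
    ∃ A : Subgroup G, Cfsg.IsElementaryAbelian 2 A ∧ Nat.card A = 2 ^ 11 ∧ z ∈ A ∧
      ∃ _ : (A.subgroupOf (Subgroup.normalizer (A : Set G))).Normal,
        Nonempty (↥(Subgroup.normalizer (A : Set G)) ⧸ A.subgroupOf (Subgroup.normalizer (A : Set G)) ≃* ↥Cfsg.M24) ∧
        (∃ K : Subgroup ↥(Subgroup.normalizer (A : Set G)),
          (A.subgroupOf (Subgroup.normalizer (A : Set G))).IsComplement' K) ∧
        ∃ a ∈ A, ∃ b ∈ A, a ≠ 1 ∧ b ≠ 1 ∧ (∀ n ∈ Subgroup.normalizer (A : Set G), n * a * n⁻¹ ≠ b) ∧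
          ∀ c ∈ A, c ≠ 1 → ∃ n ∈ Subgroup.normalizer (A : Set G), n * c * n⁻¹ = a ∨ n * c * n⁻¹ = b := by
  classical
  obtain ⟨F, x0, B, hG⟩ := exists_good h
  obtain ⟨P⟩ := exists_pts F h B
  obtain ⟨hel, hcard⟩ := P.elem h B hG
  obtain ⟨φ, C⟩ := P.coords h B hG
  set A := Asub F
  set N := Subgroup.normalizer (A : Set G)
  have hab : ∀ a ∈ A, ∀ b ∈ A, a * b = b * a := fun a ha b hb =>
    congrArg Subtype.val (hel.1.is_comm.comm (⟨a, ha⟩ : A) ⟨b, hb⟩)
  haveI hnorm : (A.subgroupOf N).Normal := Subgroup.normal_in_normalizer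
  have hZcard : Nat.card (A.subgroupOf N) = 2 ^ 11 := by
    rw [Nat.card_congr (Subgroup.subgroupOfEquivOfLe Subgroup.le_normalizer).toEquiv, hcard]
  obtain ⟨θ, hθ⟩ := C.exists_hom
  have hker := C.ker_eq h hθ hab
  -- the order
  have hK : 512 * 1290240 ≤ Nat.card ((Subgroup.centralizer ({z} : Set G)).subgroupOf N) := by
    refine (card_stab_C F h).trans (Nat.card_le_card_of_injective
      (fun c : SU.comap F.π => (⟨⟨((c : Subgroup.centralizer ({z} : Set G)) : G), mem_N h c.2⟩,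
        (c : Subgroup.centralizer ({z} : Set G)).2⟩ : (Subgroup.centralizer ({z} : Set G)).subgroupOf N))
      fun a b e => ?_)
    exact Subtype.ext (Subtype.ext (congrArg (fun w => ((w.1 : N) : G)) e))
  have horb := P.orbit_stab h B hG
  rw [(P.orbit_759 h B hG).1] at horb
  have hrange : Nat.card N = Nat.card θ.range * 2 ^ 11 := by
    rw [Subgroup.card_eq_card_quotient_mul_card_subgroup θ.ker,
      Nat.card_congr (QuotientGroup.quotientKerEquivRange θ).toEquiv, hker, hZcard]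
  have htop : θ.range = ⊤ := by
    refine Subgroup.eq_top_of_le_card _ ?_
    rw [card_M24]
    have h2 := Nat.mul_le_mul_left 759 hK
    rw [horb, hrange] at h2
    omega
  have hsurj : Function.Surjective θ := MonoidHom.range_eq_top.1 htop
  refine ⟨A, hel, hcard, E_A F h (z_E F h), hnorm,
    ⟨(QuotientGroup.quotientMulEquivOfEq hker.symm).trans (QuotientGroup.quotientKerEquivOfSurjective θ hsurj)⟩,
    ?_, ?_⟩
  · -- splitting
    obtain ⟨T, hTN, hTA, hTc⟩ := exists_unip h B hG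
    set Z := A.subgroupOf N
    set T' := T.subgroupOf N
    have hT'c : Nat.card T' = 2 ^ 10 := by
      rw [Nat.card_congr (Subgroup.subgroupOfEquivOfLe hTN).toEquiv, hTc]
    have hfree : Z ⊓ T' = ⊥ := by
      refine eq_bot_iff.2 fun w hw => ?_
      have : (w : G) ∈ A ⊓ T := ⟨hw.1, hw.2⟩
      rw [hTA, Subgroup.mem_bot] at this
      exact Subgroup.mem_bot.2 (Subtype.ext this)
    have hsup : Nat.card ↥(Z ⊔ T') = 2 ^ 11 * 2 ^ 10 := by
      rw [← hZcard, ← hT'c, ← Nat.card_prod]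
      refine (Nat.card_congr (Equiv.ofBijective (fun p : Z × T' => (⟨(p.1 : N) * (p.2 : N),
        mul_mem (Subgroup.mem_sup_left p.1.2) (Subgroup.mem_sup_right p.2.2)⟩ : ↥(Z ⊔ T'))) ⟨fun p q e => ?_, fun w => ?_⟩)).symm
      · have e' : (p.1 : N) * (p.2 : N) = (q.1 : N) * (q.2 : N) := congrArg Subtype.val e
        have hm : (q.1 : N)⁻¹ * (p.1 : N) ∈ Z ⊓ T' := by
          refine Subgroup.mem_inf.2 ⟨Z.mul_mem (Z.inv_mem q.1.2) p.1.2, ?_⟩
          rw [show (q.1 : N)⁻¹ * (p.1 : N) = (q.2 : N) * (p.2 : N)⁻¹ by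
            rw [eq_mul_inv_iff_mul_eq, mul_assoc, e', inv_mul_cancel_left]]
          exact T'.mul_mem q.2.2 (T'.inv_mem p.2.2)
        rw [hfree, Subgroup.mem_bot, inv_mul_eq_one] at hm
        rw [hm] at e'
        exact Prod.ext (Subtype.ext hm.symm) (Subtype.ext (mul_left_cancel e'))
      · obtain ⟨w, hw⟩ := w
        obtain ⟨a, ha, t, ht, rfl⟩ := Subgroup.mem_sup_of_normal_left.1 hw
        exact ⟨(⟨a, ha⟩, ⟨t, ht⟩), rfl⟩
    have hcop : (Nat.card Z).Coprime (Z ⊔ T').index := by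
      rw [hZcard]
      refine Nat.Coprime.pow_left 11 ((Nat.Prime.coprime_iff_not_dvd Nat.prime_two).2 ?_)
      have hi := Subgroup.card_mul_index (Z ⊔ T')
      rw [hsup, hrange, htop, Subgroup.card_top, card_M24] at hi
      omega
    obtain ⟨K, hK1, hK2⟩ := M23Coh.gaschuetz Z T'
      (fun a ha b hb => Subtype.ext (hab _ ha _ hb)) hfree hcop
    refine ⟨K, Subgroup.isComplement'_of_disjoint_and_mul_eq_univ (disjoint_iff.2 (by rw [inf_comm]; exact hK1)) ?_⟩
    rw [← Subgroup.normal_mul, sup_comm, hK2, Subgroup.coe_top]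
  · -- two orbits
    obtain ⟨-, n0, hn0, hn0b⟩ := dodecad_point
    have hφ0 : φ 0 = 1 := by
      have := C.mul 0 0
      rw [Nat.xor_self] at this
      exact left_eq_mul.1 this
    refine ⟨z, E_A F h (z_E F h), φ n0.val, C.mem _, z_ne h,
      fun e => hn0 (C.inj _ n0.2 0 (by norm_num) (e.trans hφ0.symm)), fun n hn e => ?_, fun c hc hc1 => ?_⟩
    · have := (C.orb _ n0.2).1 ⟨n, hn, e⟩
      rw [hn0b] at this
      cases this
    · obtain ⟨m, hm, rfl⟩ := C.surj c hc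
      have hm0 : m ≠ 0 := fun e => hc1 (e ▸ hφ0)
      cases hb : Nat.testBit orbM m
      · obtain ⟨σ, hσ, hmove⟩ := exists_moving hm n0.2 hm0 hn0 (hb.trans hn0b.symm)
        obtain ⟨y, hy⟩ := hsurj ⟨σ, hσ⟩
        obtain ⟨f, hf, ha⟩ := hθ y
        rw [hy] at ha
        refine ⟨y, y.2, Or.inr ?_⟩
        rw [← (hf m hm).2, hmove f (fun a ha' => (hf a ha').1) ha]
      · obtain ⟨g, hg, e⟩ := (C.orb m hm).2 hb
        exact ⟨g⁻¹, inv_mem hg, Or.inl (by rw [← e]; group)⟩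

end Cfsg.Agent.Spor.CoT.Octad
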