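import Cfsg.Agent.Lib.Spor.CoTOctad.Lift
import Cfsg.Agent.Lib.Spor.LFTSmall

/-!
Groups of Conway type: the orbit of the central involution under the normaliser of the elementary abelian subgroup
has 759 members.
-/

set_option autoImplicit false
set_option maxRecDepth 100000
set_option linter.unusedSectionVars false

namespace Cfsg.Agent.Spor.CoT.Octad

theorem root_cl : cl 1 = 0 ∧ cl 16 = 1 ∧ cl 20 = 2 ∧ cl 192 = 3 ∧ tr 0 2 = 3 ∧ tr 2 40 = 41 := by decide +kernel

theorem low_bits : ∀ ω : Fin 6 → Bool,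
    (∀ i : Fin 4, i ≠ 0 → wV ω (fU i) = fU i ∨ wV ω (fU i) = fU i + e0) →
      ω 3 = false ∧ ω 4 = false ∧ ω 5 = false := by decide +kernel

theorem class_sums : ((Finset.range 1024).filter fun m => cl m = 0).card = 15 ∧
    ((Finset.range 1024).filter fun m => cl m = 1).card = 140 ∧
    ((Finset.range 1024).filter fun m => cl m = 3).card = 448 ∧
    ((Finset.range 1024).filter fun m => cl m = 4).card = 1 := by decide +kernel

theorem sum_pairs (f : ℕ → ℕ) : ∀ k, ∑ n ∈ Finset.range (2 * k), f n = ∑ m ∈ Finset.range k, (f (2 * m) + f (2 * m + 1))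
  | 0 => by simp
  | k + 1 => by
    rw [show 2 * (k + 1) = 2 * k + 1 + 1 by ring, Finset.sum_range_succ, Finset.sum_range_succ, sum_pairs f k,
      Finset.sum_range_succ _ k, add_assoc]

universe u

variable {G : Type u} [Group G] [Finite G] {z : G} {Q : Subgroup G} {F : Frame z Q} {x0 : G}

/-- the coordinates of the orbit -/
def Pts.InO (P : Pts F) (n : ℕ) : Prop :=
  ∃ g ∈ Subgroup.normalizer (Asub F : Set G), g * z * g⁻¹ = P.psi n

open scoped _root_.Classical in
/-- the indicator of the orbit -/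
noncomputable def Pts.ind (P : Pts F) (n : ℕ) : ℕ := if P.InO n then 1 else 0

/-- members over a pair -/
noncomputable def Pts.prs (P : Pts F) (m : ℕ) : ℕ := P.ind (2 * m) + P.ind (2 * m + 1)

variable (P : Pts F)

theorem Pts.InO_move {c : G} (hc : c ∈ Subgroup.normalizer (Asub F : Set G)) {n y : ℕ}
    (e : c * P.psi n * c⁻¹ = P.psi y) : P.InO n ↔ P.InO y := by
  constructor
  · rintro ⟨g, hg, eg⟩
    exact ⟨c * g, mul_mem hc hg, by rw [← e, ← eg]; group⟩
  · rintro ⟨g, hg, eg⟩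
    refine ⟨c⁻¹ * g, mul_mem (inv_mem hc) hg, ?_⟩
    rw [show c⁻¹ * g * z * (c⁻¹ * g)⁻¹ = c⁻¹ * (g * z * g⁻¹) * c by group, eg, ← e]; group

theorem Pts.InO_one : P.InO 1 := ⟨1, one_mem _, by rw [P.psi_z]; group⟩

theorem Pts.InO_conj {n : ℕ} (hn : P.InO n) : IsConj z (P.psi n) := by
  obtain ⟨g, -, e⟩ := hn
  exact isConj_iff.2 ⟨g, e⟩

theorem Pts.ind_pos {n : ℕ} (h : P.InO n) : P.ind n = 1 := by classical simp [Pts.ind, h]

theorem Pts.ind_neg {n : ℕ} (h : ¬ P.InO n) : P.ind n = 0 := by classical simp [Pts.ind, h]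

theorem Pts.ind_le (n : ℕ) : P.ind n ≤ 1 := by
  by_cases h : P.InO n
  · rw [P.ind_pos h]
  · rw [P.ind_neg h]; exact zero_le_one

theorem Pts.ind_iff {n y : ℕ} (h : P.InO n ↔ P.InO y) : P.ind n = P.ind y := by
  classical simp [Pts.ind, h]

theorem pair_of_le {a d : ℕ} (hd : d ≤ 1) :
    (a ^^^ d = 2 * (a / 2) ∧ a ^^^ d ^^^ 1 = 2 * (a / 2) + 1) ∨
      (a ^^^ d = 2 * (a / 2) + 1 ∧ a ^^^ d ^^^ 1 = 2 * (a / 2)) := by
  have key : ∀ b : ℕ, b / 2 = a / 2 → b = 2 * (a / 2) ∨ b = 2 * (a / 2) + 1 := fun b hb => by omega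
  have h1 : (a ^^^ d) / 2 = a / 2 := by
    rw [Nat.xor_div_two, show d / 2 = 0 by omega, Nat.xor_zero]
  have h2 : (a ^^^ d ^^^ 1) / 2 = a / 2 := by
    rw [Nat.xor_div_two, h1, show (1 : ℕ) / 2 = 0 from rfl, Nat.xor_zero]
  have hne : a ^^^ d ≠ a ^^^ d ^^^ 1 := fun e => by
    have := congrArg (fun x => (a ^^^ d) ^^^ x) e
    simp only [Nat.xor_self, ← Nat.xor_assoc, Nat.zero_xor] at this
    exact absurd this (by decide)
  rcases key _ h1 with e | e <;> rcases key _ h2 with e' | e'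
  · exact absurd (e.trans e'.symm) hne
  · exact Or.inl ⟨e, e'⟩
  · exact Or.inr ⟨e, e'⟩
  · exact absurd (e.trans e'.symm) hne

theorem Pts.prs_trm (h : Hyp z Q) (B : Base F x0) (hG : Good F) {g : ℕ} (hg : g < 16) (m : ℕ) :
    P.prs m = P.prs (trm m g) := by
  obtain ⟨c, hc, hcz, d, hd, e⟩ := tr_lift P h B hG hg (2 * m)
  have e1 : c * P.psi (2 * m + 1) * c⁻¹ = P.psi (tr g (2 * m) ^^^ d ^^^ 1) := by
    rw [show 2 * m + 1 = (2 * m) ^^^ 1 from (Nat.xor_one_of_even (by simp)).symm,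
      P.psi_mul h B hG, P.psi_mul h B hG, ← e, P.psi_z, ← conj_mul, hcz.eq, mul_inv_cancel_right]
  have i0 := P.ind_iff (P.InO_move hc e)
  have i1 := P.ind_iff (P.InO_move hc e1)
  rw [Pts.prs, Pts.prs, i0, i1, trm]
  rcases pair_of_le (a := tr g (2 * m)) hd with ⟨e', e''⟩ | ⟨e', e''⟩ <;> rw [e'', e']
  exact add_comm _ _

theorem Pts.prs_class (h : Hyp z Q) (B : Base F x0) (hG : Good F) {m : ℕ} (hm : m < 1024) (h0 : m ≠ 0) :
    P.prs m = P.prs (clR (cl m)) := by
  have hk := cl_ok ⟨m, hm⟩ h0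
  simp only [clOK, Bool.and_eq_true, List.all_eq_true] at hk
  obtain ⟨⟨⟨⟨-, hw⟩, he⟩, -⟩, -⟩ := hk
  have key : ∀ (l : List ℕ), (∀ g ∈ l, g < 16) → ∀ r, P.prs r = P.prs (l.foldl trm r) := by
    intro l
    induction l with
    | nil => intro _ r; rfl
    | cons g l ih =>
      intro hl r
      rw [List.foldl_cons, P.prs_trm h B hG (hl g (by simp)) r]
      exact ih (fun x hx => hl x (by simp [hx])) _
  conv_lhs => rw [← Nat.eq_of_beq_eq_true he]
  exact (key _ (fun g hg => Nat.le_of_ble_eq_true (hw g hg)) _).symm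

theorem Pts.prs_values (h : Hyp z Q) (B : Base F x0) (hG : Good F) :
    P.prs 0 = 1 ∧ P.prs 1 = 2 ∧ 1 ≤ P.prs 16 ∧ P.prs 16 ≤ 2 ∧ P.prs 20 = 0 ∧ P.prs 192 ≤ 2 ∧ P.InO 2 := by
  obtain ⟨-, -, -, -, t3, t41⟩ := root_cl
  have hB := P.base0 h
  obtain ⟨g, hg, gz, gx⟩ := P.exists_swapA h B hG
  have o2 : P.InO 2 := ⟨g, hg, gz.trans (P.psi_x 0).symm⟩
  obtain ⟨R⟩ := exists_parts F
  obtain ⟨p0, hp0, -, ep0⟩ := partner_lift P R h B hG (g := 0) (by norm_num)
  have o3 : P.InO 3 := (P.InO_move hp0 (by rw [ep0 2, t3])).1 o2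
  have n0 : ¬ P.InO 0 := fun ⟨c, _, e⟩ => z_ne h (conj_eq_one_iff.1 (e.trans P.psi_zero))
  -- the class without members
  have hc0 : Form F (P.x 0) (P.psi 40) e1 e2 := by
    have hx : P.psi 40 = (P.w 0 : G) * P.x 2 := by
      rw [show (40 : ℕ) = 2 ^ ((0 : Fin 6).val + 5) ^^^ 2 ^ ((2 : Fin 4).val + 1) by decide, P.psi_mul h B hG,
        P.psi_w, P.psi_x]
    obtain ⟨-, Pe1, -⟩ := inP_facts
    refine ⟨P.w 0, ⟨Pe1, P.wl 0, ?_⟩, P.x 2, (P.sing 2).mem, (P.vx 2).trans (by decide +kernel),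
      val_facts.2.2.2.2.2.2.2.2.2.1, hx⟩
    rw [P.wπ]
    refine Ga_ext fun v => ?_
    rw [R_tV Pe1, Tp_act]
    exact (by decide +kernel : ∀ v : V, tV (eU (pr 0).1) (eU (pr 0).2) v = tV e0 e1 v) v
  have n40 : ¬ P.InO 40 := fun hn => c0_not_z F h hB hc0 (P.InO_conj hn)
  obtain ⟨p2, hp2, -, ep2⟩ := partner_lift P R h B hG (g := 2) (by norm_num)
  have n41 : ¬ P.InO 41 := fun hn => n40 ((P.InO_move hp2 (by rw [ep2 40, t41])).2 hn)
  have v1 : P.prs 1 = 2 := by rw [Pts.prs, P.ind_pos o2, P.ind_pos o3]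
  have v20 : P.prs 20 = 0 := by rw [Pts.prs, P.ind_neg n40, P.ind_neg n41]
  -- a member in the other singular class
  have p1 : 1 ≤ P.prs 16 := by
    obtain ⟨g1, hg1, eg1⟩ : P.InO 4 := by
      by_contra hn
      have e := P.prs_class h B hG (m := 2) (by norm_num) (by norm_num)
      rw [show cl 2 = 0 by decide +kernel, show clR 0 = 1 from rfl, v1, Pts.prs, P.ind_neg hn] at e
      have := P.ind_le (2 * 2 + 1)
      omega
    rw [show (4 : ℕ) = 2 ^ ((1 : Fin 4).val + 1) from rfl, P.psi_x] at eg1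
    set a := g * P.x 1 * g⁻¹ with ha
    have haA : a ∈ Asub F := (Subgroup.mem_normalizer_iff.1 hg _).1 (E_A F h (P.x_E 1))
    obtain ⟨n, hn, en⟩ := P.psi_surj h B hG haA
    have hno : P.InO n := ⟨g * g1, mul_mem hg hg1, by rw [en, ha, ← eg1]; group⟩
    have haQ : InQ z Q (P.x 0) a := by
      have := ((inQ_z h).2 (P.sing 1).mem).conj g
      rwa [gz] at this
    have h32 : 32 ≤ n := by
      by_contra hn'
      obtain ⟨aQ, -⟩ := P.vec_low h B hG n (by omega)
      rw [en] at aQ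
      have back : ∀ b, a = b → P.x 1 = g⁻¹ * b * g := fun b e => by rw [← e, ha]; group
      have gz' : g⁻¹ * P.x 0 * g = z := by rw [← gz]; group
      have gx' : g⁻¹ * z * g = P.x 0 := by
        calc g⁻¹ * z * g = g⁻¹ * (g * P.x 0 * g⁻¹) * g := by rw [gx]
          _ = P.x 0 := by group
      have hne : F.vec (P.x 1) ≠ F.vec (P.x 0) := by rw [P.vx, P.vx]; decide +kernel
      rcases sect_sing F h B (P.sing 0) aQ haQ with e | e | e | e <;> have e' := back _ e
      · exact (P.sing 1).ne1 F h (by rw [e']; group)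
      · exact hne (by rw [e', gx'])
      · exact (P.sing 1).nez F h (e'.trans gz')
      · refine hne ?_
        rw [e', show g⁻¹ * (P.x 0 * z) * g = g⁻¹ * P.x 0 * g * (g⁻¹ * z * g) by group, gz', gx',
          F.vec_mul z (zQ h) _ (P.sing 0).mem, vec_z F h, zero_add]
    have hbits : Nat.testBit n 8 = false ∧ Nat.testBit n 9 = false ∧ Nat.testBit n 10 = false := by
      have haz := A_z F h (P.psi_mem h B n)
      have hrad := radAt F h hB (m := cC haz) (by
        show InQ z Q (P.x 0) (P.psi n)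
        rw [en]; exact haQ)
      obtain ⟨b3, b4, b5⟩ := low_bits (fun k => Nat.testBit n (k.val + 5)) fun i hi => by
        have := hrad.2 (fU i) (by rw [← eU_facts.2.2.1, pol_eU_fU, if_neg (Ne.symm hi)])
        rw [coe_smul, P.π_psi h B hG n hn, wG_act] at this
        exact this
      exact ⟨b3, b4, b5⟩
    have hlt : n / 2 < 128 := by
      by_contra hge
      have key : ∀ n < 2048, 128 ≤ n / 2 → Nat.testBit n 8 = true ∨ Nat.testBit n 9 = true ∨ Nat.testBit n 10 = true := by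
        decide +kernel
      rcases key n hn (by omega) with e | e | e
      · rw [hbits.1] at e; cases e
      · rw [hbits.2.1] at e; cases e
      · rw [hbits.2.2] at e; cases e
    have hm : n / 2 < 1024 := by omega
    have hk := cl_ok ⟨n / 2, hm⟩ (by show n / 2 ≠ 0; omega)
    simp only [clOK, Bool.and_eq_true, Bool.or_eq_true, Bool.not_eq_true', beq_iff_eq] at hk
    obtain ⟨⟨⟨⟨-, -⟩, -⟩, h16⟩, h128⟩ := hk
    have hc3 : cl (n / 2) < 3 := by
      rcases h128 with e | e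
      · exact absurd hlt (fun h' => by
          rw [Bool.eq_false_iff] at e
          exact e (Nat.ble_eq_true_of_le h'))
      · exact Nat.le_of_ble_eq_true e
    have hc0 : cl (n / 2) ≠ 0 := fun e => by
      rw [e] at h16
      have : Nat.blt (n / 2) 16 = true := h16.symm
      have := Nat.le_of_ble_eq_true this
      omega
    have hpos : 1 ≤ P.prs (n / 2) := by
      rcases (show n = 2 * (n / 2) ∨ n = 2 * (n / 2) + 1 by omega) with e | e <;> rw [e] at hno <;>
        rw [Pts.prs, P.ind_pos hno]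
      · exact Nat.le_add_right _ _
      · exact Nat.le_add_left _ _
    rw [P.prs_class h B hG hm (by omega)] at hpos
    rcases (show cl (n / 2) = 1 ∨ cl (n / 2) = 2 by omega) with e | e <;> rw [e] at hpos
    · exact hpos
    · rw [show clR 2 = 20 from rfl, v20] at hpos; omega
  refine ⟨?_, ?_, p1, Nat.add_le_add (P.ind_le _) (P.ind_le _), ?_, Nat.add_le_add (P.ind_le _) (P.ind_le _), o2⟩
  · rw [Pts.prs, P.ind_neg n0, P.ind_pos P.InO_one]
  · exact v1
  · exact v20

theorem Pts.card_InO : Nat.card {n : Fin 2048 // P.InO n.val} = ∑ m ∈ Finset.range 1024, P.prs m := by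
  classical
  rw [Nat.card_eq_fintype_card, Fintype.card_subtype, Finset.card_filter]
  show ∑ n : Fin 2048, P.ind n.val = _
  rw [Fin.sum_univ_eq_sum_range, show (2048 : ℕ) = 2 * 1024 from rfl, sum_pairs]
  rfl

theorem Pts.card_formula (h : Hyp z Q) (B : Base F x0) (hG : Good F) :
    Nat.card {n : Fin 2048 // P.InO n.val} = 31 + 140 * P.prs 16 + 448 * P.prs 192 := by
  obtain ⟨v0, v1, -, -, v20, -⟩ := P.prs_values h B hG
  obtain ⟨s0, s1, s3, s4⟩ := class_sums
  rw [P.card_InO, Finset.sum_congr rfl fun m hm => show P.prs m =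
      (if cl m = 0 then 2 else 0) + (if cl m = 1 then P.prs 16 else 0) + (if cl m = 3 then P.prs 192 else 0) +
        (if cl m = 4 then 1 else 0) by
    rw [Finset.mem_range] at hm
    by_cases h0 : m = 0
    · subst h0; rw [v0, cl_zero]; simp
    rw [P.prs_class h B hG hm h0]
    have hk := cl_ok ⟨m, hm⟩ h0
    simp only [clOK, Bool.and_eq_true] at hk
    have h4 : cl m < 4 := Nat.le_of_ble_eq_true hk.1.1.1.1
    interval_cases hc : cl m <;> simp [clR, v1, v20]]
  simp only [Finset.sum_add_distrib, Finset.sum_ite, Finset.sum_const_zero, add_zero, Finset.sum_const, s0, s1, s3,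
    s4, smul_eq_mul]
  ring

theorem Pts.orbit_stab (h : Hyp z Q) (B : Base F x0) (hG : Good F) :
    Nat.card {n : Fin 2048 // P.InO n.val} *
      Nat.card ((Subgroup.centralizer ({z} : Set G)).subgroupOf (Subgroup.normalizer (Asub F : Set G))) =
        Nat.card (Subgroup.normalizer (Asub F : Set G)) := by
  classical
  set H := Subgroup.normalizer (Asub F : Set G)
  set K := (Subgroup.centralizer ({z} : Set G)).subgroupOf H
  have hzA : z ∈ Asub F := E_A F h (z_E F h)
  have hex : ∀ y : H, ∃ n : {n : Fin 2048 // P.InO n.val}, P.psi n.1.val = (y : G) * z * (y : G)⁻¹ := fun y => by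
    obtain ⟨n, hn, e⟩ := P.psi_surj h B hG ((Subgroup.mem_normalizer_iff.1 y.2 z).1 hzA)
    exact ⟨⟨⟨n, hn⟩, ⟨y, y.2, e.symm⟩⟩, e⟩
  choose φ hφ using hex
  have hfib : ∀ y y' : H, φ y = φ y' ↔ y⁻¹ * y' ∈ K := by
    intro y y'
    show _ ↔ ((y⁻¹ * y' : H) : G) ∈ Subgroup.centralizer ({z} : Set G)
    rw [Subgroup.mem_centralizer_singleton_iff, Subgroup.coe_mul, Subgroup.coe_inv]
    constructor
    · intro e
      have h' : (y : G) * z * (y : G)⁻¹ = (y' : G) * z * (y' : G)⁻¹ := by rw [← hφ, ← hφ, e]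
      calc (y : G)⁻¹ * y' * z = (y : G)⁻¹ * ((y' : G) * z * (y' : G)⁻¹) * y' := by group
        _ = _ := by rw [← h']; group
    · intro e
      refine Subtype.ext (Fin.ext (P.psi_inj h B hG _ _ (φ y).1.2 (φ y').1.2 ?_))
      rw [hφ, hφ]
      calc (y : G) * z * (y : G)⁻¹ = (y : G) * (z * ((y : G)⁻¹ * y')) * (y' : G)⁻¹ := by group
        _ = _ := by rw [← e]; group
  rw [Subgroup.card_eq_card_quotient_mul_card_subgroup K]
  congr 1
  refine (Nat.card_congr (Equiv.ofBijective (Quotient.lift φ fun a b hab => (hfib a b).2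
    (QuotientGroup.leftRel_apply.1 hab) : H ⧸ K → {n : Fin 2048 // P.InO n.val}) ⟨?_, ?_⟩)).symm
  · intro a b
    induction a using QuotientGroup.induction_on
    induction b using QuotientGroup.induction_on
    exact fun e => QuotientGroup.eq.2 ((hfib _ _).1 e)
  · rintro ⟨n, y, hy, e⟩
    refine ⟨QuotientGroup.mk ⟨y, hy⟩, Subtype.ext (Fin.ext (P.psi_inj h B hG _ _ (φ ⟨y, hy⟩).1.2 n.2 ?_))⟩
    exact (hφ ⟨y, hy⟩).trans e

theorem orbit_prime (h : Hyp z Q) (hel : Cfsg.IsElementaryAbelian 2 (Asub F)) (hAc : Nat.card (Asub F) = 2 ^ 11)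
    (p : ℕ) (hp : p = 19 ∨ p = 619 ∨ p = 97 ∨ p = 311 ∨ p = 71) :
    ¬ p ∣ Nat.card (Subgroup.normalizer (Asub F : Set G)) := by
  intro hdvd
  have hzA : z ∈ Asub F := E_A F h (z_E F h)
  have hpp : p.Prime := by rcases hp with rfl | rfl | rfl | rfl | rfl <;> norm_num
  haveI : Fact p.Prime := ⟨hpp⟩
  obtain ⟨y, hy⟩ := exists_prime_orderOf_dvd_card' p hdvd
  haveI := hel.1
  letI : CommGroup (Asub F) := { (inferInstance : Group (Asub F)) with mul_comm := fun a b => hel.1.is_comm.comm a b }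
  obtain ⟨f, hf⟩ := LFT.toGL (V := Asub F) (fun a => Subtype.ext (by
    show (a : G) * a = 1
    rw [← pow_two]; exact hel.2 a a.2)) hAc
  let ρ := Subgroup.normalizerMonoidHom (Asub F)
  by_cases h1 : ρ y = 1
  · have hyz : Commute (y : G) z := mul_inv_eq_iff_eq_mul.1
      (congrArg Subtype.val (MulEquiv.congr_fun h1 ⟨z, hzA⟩))
    have hd : p ∣ Nat.card (Subgroup.centralizer ({z} : Set G)) := by
      rw [← hy, ← Subgroup.orderOf_coe]
      exact (Subgroup.orderOf_mk (H := Subgroup.centralizer ({z} : Set G)) (y : G) (mem_C.2 hyz)).symm.dvd.trans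
        (orderOf_dvd_natCard _)
    rw [h.cardC] at hd
    rcases hp with rfl | rfl | rfl | rfl | rfl <;> norm_num at hd
  · have h2 : orderOf (f (ρ y)) = p := by
      rw [orderOf_injective f hf]
      exact orderOf_eq_prime (by rw [← map_pow, ← hy, pow_orderOf_eq_one, map_one]) h1
    have hd : p ∣ Nat.card (GL (Fin 11) (ZMod 2)) := h2 ▸ orderOf_dvd_natCard _
    rw [Matrix.card_GL_field, ZMod.card] at hd
    rcases hp with rfl | rfl | rfl | rfl | rfl <;> revert hd <;> decide +kernel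

/-- the orbit contains all of the singular part and one element over each nonsingular pair -/
theorem Pts.orbit_759 (h : Hyp z Q) (B : Base F x0) (hG : Good F) :
    Nat.card {n : Fin 2048 // P.InO n.val} = 759 ∧ P.prs 16 = 2 ∧ P.prs 192 = 1 := by
  obtain ⟨hel, hc⟩ := P.elem h B hG
  obtain ⟨-, -, hp1, hp2, -, hq, -⟩ := P.prs_values h B hG
  have hT := P.card_formula h B hG
  have hdiv : ∀ p, p ∣ Nat.card {n : Fin 2048 // P.InO n.val} →
      p ∣ Nat.card (Subgroup.normalizer (Asub F : Set G)) := fun p hp => hp.trans ⟨_, (P.orbit_stab h B hG).symm⟩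
  have hno : ∀ p, p = 19 ∨ p = 619 ∨ p = 97 ∨ p = 311 ∨ p = 71 →
      ¬ p ∣ Nat.card {n : Fin 2048 // P.InO n.val} := fun p hp hd => orbit_prime h hel hc p hp (hdiv p hd)
  generalize Nat.card {n : Fin 2048 // P.InO n.val} = T at hT hno ⊢
  generalize P.prs 16 = a at hp1 hp2 hT ⊢
  generalize P.prs 192 = b at hq hT ⊢
  interval_cases a <;> interval_cases b <;> subst hT
  · exact absurd ⟨9, rfl⟩ (hno 19 (by norm_num))
  · exact absurd ⟨1, rfl⟩ (hno 619 (by norm_num))
  · exact absurd ⟨11, rfl⟩ (hno 97 (by norm_num))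
  · exact absurd ⟨1, rfl⟩ (hno 311 (by norm_num))
  · exact ⟨rfl, rfl, rfl⟩
  · exact absurd ⟨17, rfl⟩ (hno 71 (by norm_num))

end Cfsg.Agent.Spor.CoT.Octad
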