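import Cfsg.Agent.Lib.Spor.CoTOctad.Basic

/-!
Groups of Conway type: commutators of elements over transvections at different points.  Over a nonsingular
parameter the commutator with the element of a line is the central involution, so that of the two singular
parameters summing to it exactly one gives commuting elements.
-/

set_option autoImplicit false
set_option maxRecDepth 100000
set_option linter.unusedSectionVars false

namespace Cfsg.Agent.Spor.CoT.Octad

theorem tV_add {u a b : V} (hu : qm u = 0) (ha : pol u a = 0) (hb : pol u b = 0) (w : V) :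
    tV u a (tV u b w) = tV u (a + b) w := by
  have hau : pol a u = 0 := by rw [pol_comm', ha]
  have hbu : pol b u = 0 := by rw [pol_comm', hb]
  have h1 : pol (tV u b w) a = pol w a + pol w u * pol b a := by
    simp only [tV, pol_add_left, pol_smul_left, ha, pol_self, mul_zero, add_zero]
  have h2 : pol (tV u b w) u = pol w u := by
    simp only [tV, pol_add_left, pol_smul_left, hbu, pol_self, mul_zero, add_zero]
  conv_lhs => rw [tV]
  rw [h1, h2, tV, tV, qm_add, pol_add_right, pol_comm' b a]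
  rcases zm2 (pol w u) with e | e <;> rw [e] <;>
    simp only [zero_smul, one_smul, one_mul, zero_mul, add_zero, add_smul] <;> abel

theorem tV_symm {u v : V} (hu : qm u = 0) (hv : qm v = 0) (w : V) : tV u v w = tV v u w := by
  simp only [tV, hu, hv, zero_smul, add_zero]; abel

theorem tV_line {u v n : V} (huv : pol u v = 0) (hun : pol u n = 0)
    (hvn : pol v n = 0) (hu : qm u = 0) (hn : qm n = 1) (w : V) :
    tV (u + v) n w = tV v (n + u) (tV u n w) := by
  have hnu : pol n u = 0 := by rw [pol_comm', hun]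
  have hnv : pol n v = 0 := by rw [pol_comm', hvn]
  have hq : qm (n + u) = 1 := by rw [qm_add, hn, hu, hnu, add_zero, add_zero]
  have h1 : pol (tV u n w) (n + u) = pol w n + pol w u := by
    simp only [tV, hn, one_smul, pol_add_left, pol_add_right, pol_smul_left, hun, hnu, pol_self, mul_zero,
      add_zero]
  have h2 : pol (tV u n w) v = pol w v := by
    simp only [tV, hn, one_smul, pol_add_left, pol_smul_left, huv, hnv, mul_zero, add_zero]
  conv_rhs => rw [tV]
  rw [h1, h2, tV, tV, hn, hq, pol_add_right, one_smul, one_smul, one_smul]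
  rcases zm2 (pol w n) with e | e <;> rcases zm2 (pol w u) with e' | e' <;> rcases zm2 (pol w v) with e'' | e'' <;>
    rw [e, e', e''] <;> simp only [zero_smul, one_smul, zero_add, add_zero, ZModModule.add_self] <;>
    funext i <;> simp only [Pi.add_apply] <;> generalize w i = a <;> generalize u i = b <;> generalize v i = c <;>
    generalize n i = d <;> revert a b c d <;> decide

theorem tV_split {u v n : V} (huv : pol u v = 0) (hun : pol u n = 0)
    (hvn : pol v n = 0) (hu : qm u = 0) (hv : qm v = 0) (hn : qm n = 1) (w : V) :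
    tV (u + v) n w = tV u n (tV v n (tV u v w)) := by
  have hnu : pol n u = 0 := by rw [pol_comm', hun]
  have hnv : pol n v = 0 := by rw [pol_comm', hvn]
  have hvu : pol v u = 0 := by rw [pol_comm', huv]
  have a1 : pol (tV u v w) n = pol w n := by
    simp only [tV, hv, zero_smul, pol_add_left, pol_smul_left, hun, hvn, mul_zero, add_zero]
  have a2 : pol (tV u v w) v = pol w v := by
    simp only [tV, hv, zero_smul, pol_add_left, pol_smul_left, huv, pol_self, mul_zero, add_zero]
  have a3 : pol (tV v n (tV u v w)) n = pol w n := by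
    rw [tV, a1, a2]
    simp only [hn, one_smul, pol_add_left, pol_smul_left, hvn, pol_self, mul_zero, add_zero, a1]
  have a4 : pol (tV v n (tV u v w)) u = pol w u := by
    rw [tV, a1, a2]
    simp only [tV, hn, hv, one_smul, zero_smul, pol_add_left, pol_smul_left, hvu, hnu, pol_self, mul_zero, add_zero]
  conv_rhs => rw [tV]
  rw [a3, a4]
  conv_rhs => rw [tV, a1, a2, tV]
  rw [tV, hn, hv, pol_add_right, one_smul, one_smul, one_smul]
  rcases zm2 (pol w n) with e | e <;> rcases zm2 (pol w u) with e' | e' <;> rcases zm2 (pol w v) with e'' | e'' <;>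
    rw [e, e', e''] <;> simp only [zero_smul, one_smul, zero_add, add_zero, ZModModule.add_self] <;>
    funext i <;> simp only [Pi.add_apply] <;> generalize w i = a <;> generalize u i = b <;> generalize v i = c <;>
    generalize n i = d <;> revert a b c d <;> decide

theorem Tg_add {u a b : V} (hu : u ≠ 0) (hq : qm u = 0) (ha : pol u a = 0) (hb : pol u b = 0) :
    Tg u a * Tg u b = Tg u (a + b) := Ga_ext fun w => by
  rw [mul_smul, Tg_act hu hq hb, Tg_act hu hq ha, Tg_act hu hq (by rw [pol_add_right, ha, hb, add_zero]),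
    tV_add hq ha hb]

theorem Tg_symm {u v : V} (hu : u ≠ 0) (hv : v ≠ 0) (hqu : qm u = 0) (hqv : qm v = 0) (h : pol u v = 0) :
    Tg u v = Tg v u := Ga_ext fun w => by
  rw [Tg_act hu hqu h, Tg_act hv hqv (by rw [pol_comm', h]), tV_symm hqu hqv]

/-- a partner separating two points -/
theorem exists_sep {u v : V} (hu : u ≠ 0) (huv : u ≠ v) : ∃ p, pol u p = 1 ∧ pol v p = 0 := by
  by_contra! hno
  have zo : ∀ b : ZMod 2, b ≠ 0 → b = 1 := by decide
  have key : ∀ w, pol (u + v) w = 0 := fun w => by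
    have hp : ∃ p0, pol u p0 = 1 := by
      by_contra! h0
      refine hu (QF_pnd _ fun w => ?_)
      have := (zm2 (pol u w)).resolve_right (h0 w)
      rw [pol] at this
      simp only [QuadraticMap.polar, coe_QF, sub_eq_add_neg, ZModModule.neg_eq_self]
      exact this
    obtain ⟨p0, hp0⟩ := hp
    have h1 := zo _ (hno p0 hp0)
    rw [pol_add_left]
    rcases zm2 (pol u w) with e | e
    · have h2 := zo _ (hno (w + p0) (by rw [pol_add_right, e, hp0, zero_add]))
      rw [pol_add_right, h1] at h2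
      rw [e, zero_add]
      rcases zm2 (pol v w) with e' | e'
      · exact e'
      · rw [e'] at h2; exact absurd h2 (by decide)
    · rw [e, zo _ (hno w e)]; decide
  refine huv ?_
  have : u + v = 0 := QF_pnd _ fun w => by
    have := key w
    rw [pol] at this
    simp only [QuadraticMap.polar, coe_QF, sub_eq_add_neg, ZModModule.neg_eq_self]
    exact this
  rw [eq_neg_of_add_eq_zero_left this, ZModModule.neg_eq_self]

theorem perp_line {u v q : V} (hu : u ≠ 0) (hv : v ≠ 0) (huv : u ≠ v)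
    (h : ∀ p, pol u p = 0 → pol v p = 0 → pol q p = 0) : ∃ i j : ZMod 2, q = i • u + j • v := by
  obtain ⟨pu, pu1, pu2⟩ := exists_sep hu huv
  obtain ⟨pv, pv1, pv2⟩ := exists_sep hv huv.symm
  refine ⟨pol q pu, pol q pv, ?_⟩
  have key : ∀ p, pol (q + (pol q pu • u + pol q pv • v)) p = 0 := fun p => by
    have h' := h (p + (pol u p • pu + pol v p • pv))
      (by simp only [pol_add_right, pol_smul_right, pu1, pv2, mul_one, mul_zero, add_zero, ZModModule.add_self])
      (by simp only [pol_add_right, pol_smul_right, pu2, pv1, mul_one, mul_zero, zero_add, ZModModule.add_self])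
    simp only [pol_add_right, pol_smul_right] at h'
    simp only [pol_add_left, pol_smul_left]
    linear_combination h'
  have h0 : q + (pol q pu • u + pol q pv • v) = 0 := QF_pnd _ fun w => by
    have := key w
    rw [pol] at this
    simp only [QuadraticMap.polar, coe_QF, sub_eq_add_neg, ZModModule.neg_eq_self]
    exact this
  conv_lhs => rw [eq_neg_of_add_eq_zero_left h0, ZModModule.neg_eq_self]

universe u

variable {G : Type u} [Group G] [Finite G] {z : G} {Q : Subgroup G} (F : Frame z Q) {x0 : G}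
include F

theorem vec_p2 (h : Hyp z Q) {y : G} (hy : y ∈ Q) (i : ZMod 2) : p2 y i ∈ Q ∧ F.vec (p2 y i) = i • F.vec y := by
  rcases zm2 i with rfl | rfl
  · rw [p2_zero, zero_smul]; exact ⟨one_mem Q, vec_one F h⟩
  · rw [p2_one, one_smul]; exact ⟨hy, rfl⟩

theorem Sing.mul (h : Hyp z Q) {x y : G} (hx : Sing F x) (hy : Sing F y) (hne : F.vec x ≠ F.vec y)
    (hp : pol (F.vec x) (F.vec y) = 0) : Sing F (x * y) := by
  refine ⟨mul_mem hx.mem hy.mem, ?_, ?_⟩ <;> rw [F.vec_mul x hx.mem y hy.mem]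
  · exact fun e => hne (by rw [eq_neg_of_add_eq_zero_left e, ZModModule.neg_eq_self])
  · rw [qm_add, hx.q, hy.q, hp, add_zero, add_zero]

/-- the element in both subgroups of a pair of commuting points -/
theorem exists_pair (h : Hyp z Q) (B : Base F x0) {x y : G} (hx : Sing F x) (hy : Sing F y)
    (hne : F.vec x ≠ F.vec y) (hp : pol (F.vec x) (F.vec y) = 0) :
    ∃ w : Subgroup.centralizer ({z} : Set G),
      InQ z Q x w ∧ InQ z Q y w ∧ F.π w = Tg (F.vec x) (F.vec y) := by
  have hp' : pol (F.vec y) (F.vec x) = 0 := by rw [pol_comm', hp]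
  obtain ⟨m, hm, em⟩ := exists_over F h B hx hp
  obtain ⟨m', hm', em'⟩ := exists_over F h B hy hp'
  have hs : F.π m' = F.π m := by rw [em, em', Tg_symm hx.ne hy.ne hx.q hy.q hp]
  have hQ : (m : G)⁻¹ * m' ∈ Q := (F.π_ker (m⁻¹ * m')).1 (by rw [map_mul, map_inv, hs, inv_mul_cancel])
  obtain ⟨i, j, hij⟩ := perp_line hx.ne hy.ne hne (q := F.vec ((m : G)⁻¹ * m')) fun p p1 p2' => by
    obtain ⟨q, hq, rfl⟩ := F.vec_surj p
    have hfix : F.π m • F.vec q = F.vec q := by
      rw [em, Tg_act hx.ne hx.q hp, tV, pol_comm' _ (F.vec y), p2', pol_comm' _ (F.vec x), p1, zero_smul,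
        zero_smul, add_zero, add_zero]
    have c1 := comm_fix F h B hx hm hq p1 hfix
    have c2 := comm_fix F h B hy hm' hq p2' (by rw [hs]; exact hfix)
    exact (F.comm_iff _ hQ q hq).1 ((c1.inv_right.mul_right c2).symm)
  obtain ⟨pxQ, pxv⟩ := vec_p2 F h hx.mem i
  obtain ⟨pyQ, pyv⟩ := vec_p2 F h hy.mem j
  have xs : ∀ i, InQ z Q x (p2 x i) := fun i => by
    rcases zm2 i with rfl | rfl
    · rw [p2_zero]; obtain ⟨g, hg, -⟩ := hx.mem_self F h; exact ⟨g, hg, by simp⟩
    · rw [p2_one]; exact hx.mem_self F h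
  have ys : ∀ i, InQ z Q y (p2 y i) := fun i => by
    rcases zm2 i with rfl | rfl
    · rw [p2_zero]; obtain ⟨g, hg, -⟩ := hy.mem_self F h; exact ⟨g, hg, by simp⟩
    · rw [p2_one]; exact hy.mem_self F h
  have he : F.vec ((m : G)⁻¹ * m') = F.vec (p2 x i * p2 y j) := by
    rw [F.vec_mul _ pxQ _ pyQ, pxv, pyv]; exact hij
  refine ⟨cC ((mem_C.1 m.2).mul_left (Qz h pxQ)) , hm.mul h (xs i), ?_, ?_⟩
  · show InQ z Q y ((m : G) * p2 x i)
    have hj : p2 y j * p2 y j = 1 := by
      rcases zm2 j with rfl | rfl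
      · rw [p2_zero, mul_one]
      · rw [p2_one]; exact hy.sq F
    rcases vec_eq F hQ (mul_mem pxQ pyQ) h he with e | e
    · have k : (m : G) * p2 x i = (m' : G) * p2 y j := by
        rw [show (m' : G) = (m : G) * ((m : G)⁻¹ * m') by group, e, mul_assoc, mul_assoc, hj, mul_one]
      rw [k]; exact hm'.mul h (ys j)
    · have k : (m : G) * p2 x i = (m' : G) * (z * p2 y j) := by
        rw [show (m' : G) = (m : G) * ((m : G)⁻¹ * m') by group, e]
        simp only [mul_assoc]
        rw [← mul_assoc z z, zz h, one_mul, hj, mul_one]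
      rw [k]; exact hm'.mul h ((hy.mem_z F h B).mul h (ys j))
  · rw [π_mul F (mem_C.1 m.2) (Qz h pxQ), π_Q F h pxQ, mul_one]; exact em

/-- the nonsingular commutator for adjacent points -/
theorem comm_one (h : Hyp z Q) (B : Base F x0) {x y : G} (hx : Sing F x) (hy : Sing F y)
    (hne : F.vec x ≠ F.vec y) (hp : pol (F.vec x) (F.vec y) = 0) {n : V} (hn : qm n = 1)
    (hxn : pol (F.vec x) n = 0) (hyn : pol (F.vec y) n = 0)
    {a l : Subgroup.centralizer ({z} : Set G)} (ha : InQ z Q x a) (hπa : F.π a = Tg (F.vec x) n)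
    (hl : InQ z Q y l) (hπl : F.π l = Tg (F.vec y) n) :
    (l : G) * a = z * ((a : G) * l) := by
  obtain ⟨f0', g1, g2⟩ := exists_sep hx.ne hne
  obtain ⟨r, r1, r2, r3⟩ : ∃ r, pol (F.vec x) r = 0 ∧ pol (F.vec y) r = 0 ∧ pol n r = 1 := by
    by_contra! hno
    obtain ⟨i, j, e⟩ := perp_line hx.ne hy.ne hne (q := n) fun p p1 p2' =>
      (zm2 (pol n p)).resolve_right (hno p p1 p2')
    simp [e, qm_add, qm_smul, hx.q, hy.q, pol_smul_left, pol_smul_right, hp] at hn
  obtain ⟨f, f1, f2, f3⟩ : ∃ f, pol (F.vec x) f = 1 ∧ pol (F.vec y) f = 0 ∧ pol n f = 0 :=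
    ⟨f0' + pol n f0' • r, by rw [pol_add_right, pol_smul_right, g1, r1, mul_zero, add_zero],
      by rw [pol_add_right, pol_smul_right, g2, r2, mul_zero, add_zero],
      by rw [pol_add_right, pol_smul_right, r3, mul_one, ZModModule.add_self]⟩
  obtain ⟨m, hm, em⟩ := exists_over F h B hy f2
  have hyx : pol (F.vec y) (F.vec x) = 0 := by rw [pol_comm', hp]
  have hmx : F.π m • F.vec x = F.vec x + F.vec y := by
    rw [em, Tg_act hy.ne hy.q f2, tV, f1, hp, one_smul, zero_smul, add_zero]
  have cy : Commute y (a : G) := comm_fix F h B hx ha hy.mem hp (by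
    rw [hπa, Tg_act hx.ne hx.q hxn, tV, hyn, hyx, zero_smul, zero_smul, add_zero, add_zero])
  have cyz : Commute y z := hy.commute F h
  have hmc : (m : G) * x * (m : G)⁻¹ = y * z * x := by
    have e := flip F h B hy hm hx.mem hyx hmx
    have hyz2 : y * z * (y * z) = 1 := by
      rw [show y * z * (y * z) = y * (z * y) * z by group, ← cyz.eq, show y * (y * z) * z = (y * y) * (z * z) by group,
        hy.sq F, zz h, mul_one]
    calc (m : G) * x * (m : G)⁻¹ = y * z * (y * z) * ((m : G) * x) * (m : G)⁻¹ := by rw [hyz2, one_mul]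
      _ = y * z * x := by rw [mul_assoc (y * z), mul_assoc (y * z), mul_assoc (y * z), ← mul_assoc (y * z) ((m : G) * x), ← e]; group
  set l0 : Subgroup.centralizer ({z} : Set G) := m * a * m⁻¹ * a⁻¹ with hl0
  have hl0y : InQ z Q y l0 := by
    show InQ z Q y ((m : G) * a * (m : G)⁻¹ * (a : G)⁻¹)
    rw [show (m : G) * a * (m : G)⁻¹ * (a : G)⁻¹ = (m : G) * ((a : G) * (m : G)⁻¹ * (a : G)⁻¹) by group]
    exact hm.mul h (hm.inv.conj' cy.symm)
  have hp1 : pol (F.vec y) (n + F.vec x) = 0 := by rw [pol_add_right, hyn, hyx, add_zero]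
  have hqn : qm (n + F.vec x) = 1 := by
    rw [qm_add, hn, hx.q, pol_comm', hxn, add_zero, add_zero]
  have hπ0 : F.π l0 = Tg (F.vec y) (n + F.vec x) := by
    have hs : F.vec x + F.vec y ≠ 0 := fun e => hne (by rw [eq_neg_of_add_eq_zero_left e, ZModModule.neg_eq_self])
    have hsn : pol (F.vec x + F.vec y) n = 0 := by rw [pol_add_left, hxn, hyn, add_zero]
    have hsq : qm (F.vec x + F.vec y) = 0 := by rw [qm_add, hx.q, hy.q, hp, add_zero, add_zero]
    have hmn : F.π m • n = n := by
      rw [em, Tg_act hy.ne hy.q f2, tV, f3, pol_comm' n (F.vec y), hyn, zero_smul, zero_smul, add_zero, add_zero]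
    have hconj : F.π m * Tg (F.vec x) n * (F.π m)⁻¹ = Tg (F.vec x + F.vec y) n := by
      rw [Tg_conj hx.ne hx.q hxn, hmx, hmn]
    rw [hl0, map_mul, map_mul, map_mul, map_inv, map_inv, hπa, hconj, mul_inv_eq_iff_eq_mul]
    refine Ga_ext fun w => ?_
    rw [mul_smul, Tg_act hx.ne hx.q hxn, Tg_act hy.ne hy.q hp1, Tg_act hs hsq hsn,
      tV_line hp hxn hyn hx.q hn]
  have a2 := sq_over F h B hx ha hxn hπa
  have l2 := sq_over F h B hy hl0y hp1 hπ0
  rw [hn, p2_one] at a2
  rw [hqn, p2_one] at l2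
  have key : (a : G) * l0 = (l0 : G) * a * z := by
    have e1 : (l0 : G) * a * ((l0 : G) * a) = y * z * x := by
      rw [← hmc, ← a2]
      show (m : G) * a * (m : G)⁻¹ * (a : G)⁻¹ * a * ((m : G) * a * (m : G)⁻¹ * (a : G)⁻¹ * a) = _
      group
    have hz : Commute z (a : G) := (mem_C.1 a.2).symm
    have e2 : (l0 : G) * ((a : G) * l0) * a = y * z * ((a : G) * a) := by rw [a2, ← e1]; group
    have e3 : (l0 : G) * ((a : G) * l0) = (l0 : G) * l0 * z * a := by
      rw [l2]
      calc (l0 : G) * ((a : G) * l0) = (l0 : G) * ((a : G) * l0) * a * (a : G)⁻¹ := by group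
        _ = _ := by rw [e2]; group
    calc (a : G) * l0 = (l0 : G)⁻¹ * ((l0 : G) * ((a : G) * l0)) := by group
      _ = (l0 : G) * (z * a) := by rw [e3]; group
      _ = _ := by rw [hz.eq, mul_assoc]
  obtain ⟨w, hwy, hwx, hw⟩ := exists_pair F h B hy hx hne.symm hyx
  have caw : Commute (a : G) w := by
    have := comm_over F h B hx ha hwx hxn hp hπa
      (by rw [hw, Tg_symm hy.ne hx.ne hy.q hx.q hyx])
    rwa [pol_comm', hyn, p2_zero, one_mul] at this
  have hd : InQ z Q y ((w : G)⁻¹ * (l0 : G)⁻¹ * l) :=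
    (hwy.inv.mul h hl0y.inv).mul h hl
  have hdQ : (w : G)⁻¹ * (l0 : G)⁻¹ * l ∈ Q := (F.π_ker (w⁻¹ * l0⁻¹ * l)).1 (by
    have : F.π l = F.π l0 * F.π w := by
      rw [hπl, hπ0, hw, Tg_add hy.ne hy.q hp1 hyx, add_assoc, ZModModule.add_self, add_zero]
    rw [map_mul, map_mul, map_inv, map_inv, this]; group)
  have cd : Commute (a : G) ((w : G)⁻¹ * (l0 : G)⁻¹ * l) := by
    have caz : Commute (a : G) z := mem_C.1 a.2
    rcases sect_sing F h B hy hdQ hd with e | e | e | e <;> rw [e]
    exacts [Commute.one_right _, caz, cy.symm, cy.symm.mul_right caz]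
  have hlz : Commute z (l : G) := (mem_C.1 l.2).symm
  have hl' : (l : G) = (l0 : G) * w * ((w : G)⁻¹ * (l0 : G)⁻¹ * l) := by group
  have e : (a : G) * l = (l : G) * a * z := by
    rw [hl']
    set d := (w : G)⁻¹ * (l0 : G)⁻¹ * l
    have cz : ∀ g : Subgroup.centralizer ({z} : Set G), Commute z (g : G) := fun g => (mem_C.1 g.2).symm
    have cdz : Commute z d := (Qz h hdQ).symm
    calc (a : G) * ((l0 : G) * w * d) = (a : G) * l0 * (w * d) := by group
      _ = (l0 : G) * a * (z * (w * d)) := by rw [key]; group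
      _ = (l0 : G) * (a * (w * d)) * z := by rw [((cz w).mul_right cdz).eq]; group
      _ = (l0 : G) * (w * d * a) * z := by rw [(caw.mul_right cd).eq]
      _ = _ := by group
  rw [e, ← mul_assoc z, (hlz.mul_right (mem_C.1 a.2).symm).eq, mul_assoc ((l : G) * a), zz h, mul_one]

/-- the commutator with the element of a line -/
theorem comm_two (h : Hyp z Q) (B : Base F x0) {x y w : G} (hx : Sing F x) (hy : Sing F y) (hw : Sing F w)
    (hxy : F.vec x ≠ F.vec y) (hwy : F.vec w ≠ F.vec y) (hxw : F.vec x ≠ F.vec w)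
    (hs : F.vec x + F.vec w ≠ F.vec y)
    (pxy : pol (F.vec x) (F.vec y) = 0) (pwy : pol (F.vec w) (F.vec y) = 0) (pxw : pol (F.vec x) (F.vec w) = 0)
    {n : V} (hn : qm n = 1) (hxn : pol (F.vec x) n = 0) (hyn : pol (F.vec y) n = 0) (hwn : pol (F.vec w) n = 0)
    {c l : Subgroup.centralizer ({z} : Set G)} (hc : InQ z Q x c) (hπc : F.π c = Tg (F.vec x) (F.vec w))
    (hl : InQ z Q y l) (hπl : F.π l = Tg (F.vec y) n) :
    (l : G) * c = z * ((c : G) * l) := by
  have hxw' := hx.mul F h hw hxw pxw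
  have hv : F.vec (x * w) = F.vec x + F.vec w := F.vec_mul x hx.mem w hw.mem
  have hsn : pol (F.vec (x * w)) n = 0 := by rw [hv, pol_add_left, hxn, hwn, add_zero]
  have hsy : pol (F.vec (x * w)) (F.vec y) = 0 := by rw [hv, pol_add_left, pxy, pwy, add_zero]
  obtain ⟨a0, i0, p0⟩ := exists_over F h B hx hxn
  obtain ⟨a2, i2, q2⟩ := exists_over F h B hw hwn
  obtain ⟨a3, i3, q3⟩ := exists_over F h B hxw' hsn
  have k0 := comm_one F h B hx hy hxy pxy hn hxn hyn i0 p0 hl hπl
  have k2 := comm_one F h B hw hy hwy pwy hn hwn hyn i2 q2 hl hπl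
  have k3 := comm_one F h B hxw' hy (by rw [hv]; exact hs) hsy hn hsn hyn i3 q3 hl hπl
  set q := (c : G)⁻¹ * (a2 : G)⁻¹ * (a0 : G)⁻¹ * a3 with hqd
  have hq : q ∈ Q := (F.π_ker (c⁻¹ * a2⁻¹ * a0⁻¹ * a3)).1 (by
    have : F.π a3 = F.π a0 * F.π a2 * F.π c := by
      rw [q3, p0, q2, hπc, hv]
      refine Ga_ext fun v => ?_
      rw [mul_smul, mul_smul, Tg_act (hv ▸ hxw'.ne) (hv ▸ hxw'.q) (hv ▸ hsn), Tg_act hx.ne hx.q hxn,
        Tg_act hw.ne hw.q hwn, Tg_act hx.ne hx.q pxw, tV_split pxw hxn hwn hx.q hw.q hn]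
    rw [map_mul, map_mul, map_mul, map_inv, map_inv, map_inv, this]; group)
  have fixy : ∀ {s : G} (_ : Sing F s) {b : V} {m : Subgroup.centralizer ({z} : Set G)}, InQ z Q s m →
      F.π m = Tg (F.vec s) b → pol (F.vec s) b = 0 → pol (F.vec s) (F.vec y) = 0 → pol (F.vec y) b = 0 →
      Commute y (m : G) := fun {s} hs' {b m} hm e hb h1 h2 => comm_fix F h B hs' hm hy.mem h1 (by
        rw [e, Tg_act hs'.ne hs'.q hb, tV, h2, pol_comm' (F.vec y), h1, zero_smul, zero_smul, add_zero, add_zero])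
  have cyq : Commute y q := by
    refine ((((fixy hx hc hπc pxw pxy (by rw [pol_comm', pwy])).inv_right).mul_right
      (fixy hw i2 q2 hwn pwy hyn).inv_right).mul_right (fixy hx i0 p0 hxn pxy hyn).inv_right).mul_right ?_
    exact fixy hxw' i3 q3 hsn hsy hyn
  have hyq : pol (F.vec y) (F.vec q) = 0 := (F.comm_iff y hy.mem q hq).1 cyq
  set i := pol (F.vec q) n
  have P := pairS F h B hy hl hq hyq (i := i) (by
    rw [hπl, Tg_act hy.ne hy.q hyn, tV, pol_comm' _ (F.vec y), hyq, zero_smul, add_zero])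
  set p := p2 (y * z) i
  have cz : ∀ g : Subgroup.centralizer ({z} : Set G), Commute z (g : G) := fun g => (mem_C.1 g.2).symm
  have clc : (l : G) * c = z * (p * ((c : G) * l)) := by
    have clp : Commute p (c : G) := by
      have := ((fixy hx hc hπc pxw pxy (by rw [pol_comm', pwy])).mul_left (cz c))
      exact (this.pow_left _)
    have e3 : (a3 : G) = (a0 : G) * a2 * c * q := by rw [hqd]; group
    have e : (l : G) * ((a0 : G) * a2 * c * q) = z * ((a0 : G) * a2 * c * q * l) := by rw [← e3, k3]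
    have e' : (l : G) * ((a0 : G) * a2 * c * q) = (a0 : G) * a2 * ((l : G) * c * q) := by
      calc (l : G) * ((a0 : G) * a2 * c * q) = (l : G) * a0 * (a2 * (c * q)) := by group
        _ = z * a0 * ((l : G) * a2) * (c * q) := by rw [k0]; group
        _ = z * ((a0 : G) * z) * (a2 * ((l : G) * (c * q))) := by rw [k2]; group
        _ = z * z * (a0 : G) * (a2 * ((l : G) * (c * q))) := by rw [← (cz a0).eq]; group
        _ = _ := by rw [zz h]; group
    have e2 : (l : G) * c * q = z * ((c : G) * q * l) := by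
      refine mul_left_cancel (a := (a0 : G) * a2) ?_
      rw [← e', e, ← mul_assoc ((a0 : G) * a2) z, ← (((cz a0).mul_right (cz a2))).eq]
      group
    calc (l : G) * c = (l : G) * c * q * q⁻¹ := by group
      _ = z * ((c : G) * (q * l) * q⁻¹) := by rw [e2]; group
      _ = z * ((c : G) * p * ((l : G) * (q * q⁻¹))) := by rw [P]; group
      _ = z * (p * ((c : G) * l)) := by rw [← clp.eq, mul_inv_cancel, mul_one, mul_assoc]
  rcases zm2 i with e | e
  · rw [clc, show p = 1 by simp only [p, e, p2_zero], one_mul]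
  exfalso
  have hp : p = y * z := by simp only [p, e, p2_one]
  have clx : Commute x (l : G) := comm_fix F h B hy hl hx.mem (by rw [pol_comm', pxy]) (by
    rw [hπl, Tg_act hy.ne hy.q hyn, tV, hxn, pxy, zero_smul, zero_smul, add_zero, add_zero])
  have h1 : InQ z Q x ((l : G) * c * (l : G)⁻¹ * (c : G)⁻¹) := (hc.conj' clx.symm).mul h hc.inv
  rw [clc, hp, show z * (y * z * ((c : G) * l)) * (l : G)⁻¹ * (c : G)⁻¹ = z * (y * z) by group] at h1
  have hyzQ : z * (y * z) ∈ Q := mul_mem (zQ h) (mul_mem hy.mem (zQ h))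
  have hv1 : F.vec (z * (y * z)) = F.vec y := by
    rw [F.vec_mul z (zQ h) _ (mul_mem hy.mem (zQ h)), vec_mul_z F h hy.mem, (F.vec_zero z (zQ h)).2 (Or.inr rfl),
      zero_add]
  rcases sect_vec F h B hx hyzQ h1 with e' | e' <;> rw [hv1] at e'
  · exact hy.ne e'
  · exact hxy e'.symm

end Cfsg.Agent.Spor.CoT.Octad
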