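import Cfsg.Agent.Lib.Spor.CoTOctad.Pairs

/-!
Groups of Conway type: the centraliser of the elements over a maximal totally singular subspace is, for one of the
two families of subspaces, elementary abelian.
-/

set_option autoImplicit false
set_option maxRecDepth 100000
set_option linter.unusedSectionVars false

namespace Cfsg.Agent.Spor.CoT.Octad

open Cfsg.Agent.Classical

/-- the subspace spanned by the first four vectors -/
def InU (v : V) : Prop := ∀ i : Fin 4, v (.inr i) = 0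

/-- the four points -/
def eU (i : Fin 4) : V := vec (2 ^ i.val)

/-- the four partners -/
def fU (i : Fin 4) : V := vec (16 * 2 ^ i.val)

theorem eU_facts : (∀ i : Fin 4, eU i ≠ 0 ∧ qm (eU i) = 0 ∧ InU (eU i) ∧ qm (fU i) = 0) ∧
    (∀ i j : Fin 4, pol (eU i) (eU j) = 0 ∧ pol (fU i) (fU j) = 0 ∧
      pol (eU i) (fU j) = (if i = j then 1 else 0) ∧ (eU i = eU j → i = j)) ∧ eU 0 = e0 ∧ eU 3 = e3 := by
  simp only [InU]; decide +kernel

theorem InU_add {v w : V} (hv : InU v) (hw : InU w) : InU (v + w) := fun i => by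
  rw [Pi.add_apply, hv i, hw i, add_zero]

theorem InU_zero : InU (0 : V) := fun _ => rfl

theorem U_perp : ∀ v : V, ((∀ i : Fin 4, pol (eU i) v = 0) ↔ InU v) := by
  simp only [InU]; decide +kernel

theorem pol_U {v w : V} (hv : InU v) (hw : InU w) : pol v w = 0 := by
  rw [pol_eq]
  exact Finset.sum_eq_zero fun i _ => by rw [hw i, hv i, mul_zero, zero_mul, add_zero]

theorem qm_U {v : V} (hv : InU v) : qm v = 0 := by
  have : ∀ v : V, (∀ i : Fin 4, v (.inr i) = 0) → qm v = 0 := by decide +kernel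
  exact this v hv

/-- the six pairs of points -/
def pr : Fin 6 → Fin 4 × Fin 4 := ![(0, 1), (0, 2), (0, 3), (1, 2), (1, 3), (2, 3)]

/-- the transvection of a pair -/
noncomputable def Tp (k : Fin 6) : Ga := Tg (eU (pr k).1) (eU (pr k).2)

theorem Tp_act (k : Fin 6) (v : V) : Tp k • v = tV (eU (pr k).1) (eU (pr k).2) v :=
  Tg_act (eU_facts.1 _).1 (eU_facts.1 _).2.1 (eU_facts.2.1 _ _).1 v

theorem tV_U {u a w : V} (hu : InU u) (ha : InU a) (hw : InU w) : tV u a w = w := by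
  rw [tV, pol_U hw ha, pol_U hw hu, zero_smul, zero_smul, add_zero, add_zero]

theorem Tg_comm {u w v a : V} (hu : u ≠ 0) (hqu : qm u = 0) (huw : pol u w = 0) (hv : v ≠ 0) (hqv : qm v = 0)
    (hva : pol v a = 0) (h1 : pol u v = 0) (h2 : pol u a = 0) (h3 : pol w v = 0) (h4 : pol w a = 0) :
    Commute (Tg v a) (Tg u w) := by
  refine mul_inv_eq_iff_eq_mul.1 ?_
  rw [Tg_conj hu hqu huw, Tg_act hv hqv hva, Tg_act hv hqv hva, tV, tV, h1, h2, h3, h4]
  simp only [zero_smul, add_zero]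

universe u

variable {G : Type u} [Group G] [Finite G] {z : G} {Q : Subgroup G} (F : Frame z Q) {x0 : G}

/-- the elements over the subspace -/
def Eset : Set G := {q | q ∈ Q ∧ InU (F.vec q)}

/-- their centraliser -/
def Asub : Subgroup G := Subgroup.centralizer (Eset F)

include F

theorem z_E (h : Hyp z Q) : z ∈ Eset F :=
  ⟨zQ h, by rw [(F.vec_zero z (zQ h)).2 (Or.inr rfl)]; exact InU_zero⟩

theorem A_z (h : Hyp z Q) {a : G} (ha : a ∈ Asub F) : Commute a z :=
  (Subgroup.mem_centralizer_iff.1 ha z (z_E F h)).symm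

theorem E_A (h : Hyp z Q) {q : G} (hq : q ∈ Eset F) : q ∈ Asub F :=
  Subgroup.mem_centralizer_iff.2 fun p hp => ((F.comm_iff p hp.1 q hq.1).2 (pol_U hp.2 hq.2)).eq

theorem AQ_E (h : Hyp z Q) {q : G} (hq : q ∈ Q) (hA : q ∈ Asub F) : q ∈ Eset F := by
  refine ⟨hq, (U_perp _).1 fun i => ?_⟩
  obtain ⟨p, hp, e⟩ := F.vec_surj (eU i)
  rw [← e]
  exact (F.comm_iff p hp q hq).1 (Subgroup.mem_centralizer_iff.1 hA p ⟨hp, by rw [e]; exact (eU_facts.1 i).2.2.1⟩)

theorem E_central (h : Hyp z Q) {q a : G} (hq : q ∈ Eset F) (ha : a ∈ Asub F) : Commute q a :=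
  Subgroup.mem_centralizer_iff.1 ha q hq

theorem E_sq (h : Hyp z Q) {q : G} (hq : q ∈ Eset F) : q * q = 1 := (F.sq_iff q hq.1).2 (qm_U hq.2)

theorem π_fix (h : Hyp z Q) {c : Subgroup.centralizer ({z} : Set G)} (hc : (c : G) ∈ Asub F) {v : V} (hv : InU v) :
    F.π c • v = v := by
  obtain ⟨q, hq, rfl⟩ := F.vec_surj v
  have e : (c : G) * q = q * (c : G) := (Subgroup.mem_centralizer_iff.1 hc q ⟨hq, hv⟩).symm
  rw [← F.vec_conj c q hq, e, mul_inv_cancel_right]

theorem mem_A (h : Hyp z Q) (B : Base F x0) {y : G} (hy : Sing F y) (hyU : InU (F.vec y))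
    {m : Subgroup.centralizer ({z} : Set G)} (hm : InQ z Q y m) {b : V} (hb : InU b)
    (hπ : F.π m = Tg (F.vec y) b) : (m : G) ∈ Asub F :=
  Subgroup.mem_centralizer_iff.2 fun q hq => comm_fix F h B hy hm hq.1 (pol_U hyU hq.2) (by
    rw [hπ, Tg_act hy.ne hy.q (pol_U hyU hb), tV_U hyU hb hq.2])

/-- commutation in the centraliser depends only on the images -/
theorem comm_image (h : Hyp z Q) {c c' l : Subgroup.centralizer ({z} : Set G)} (hc : (c : G) ∈ Asub F)
    (hc' : (c' : G) ∈ Asub F) (hl : (l : G) ∈ Asub F) (e : F.π c = F.π c') (hcl : Commute (c : G) l) :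
    Commute (c' : G) l := by
  have hQ : (c : G)⁻¹ * c' ∈ Q := (F.π_ker (c⁻¹ * c')).1 (by rw [map_mul, map_inv, e, inv_mul_cancel])
  have := hcl.mul_left (E_central F h (AQ_E F h hQ (mul_mem (inv_mem hc) hc')) hl)
  rwa [mul_inv_cancel_left] at this

theorem comm_image₂ (h : Hyp z Q) {c c' l l' : Subgroup.centralizer ({z} : Set G)} (hc : (c : G) ∈ Asub F)
    (hc' : (c' : G) ∈ Asub F) (hl : (l : G) ∈ Asub F) (hl' : (l' : G) ∈ Asub F) (e : F.π c = F.π c')
    (e' : F.π l = F.π l') (hcl : Commute (c : G) l) : Commute (c' : G) l' :=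
  (comm_image F h hl hl' hc' e' (comm_image F h hc hc' hl e hcl).symm).symm

/-- the centraliser of an element over the subspace preserves the centraliser -/
theorem conj_A (h : Hyp z Q) {k : Subgroup.centralizer ({z} : Set G)} (hk : ∀ v, InU v → InU ((F.π k)⁻¹ • v))
    {a : G} (ha : a ∈ Asub F) : (k : G) * a * (k : G)⁻¹ ∈ Asub F := by
  refine Subgroup.mem_centralizer_iff.2 fun q hq => ?_
  have hq' : (k : G)⁻¹ * q * (k : G) ∈ Eset F := by
    refine ⟨by simpa using h.norm (k : G)⁻¹ (mem_C.1 k.2).inv_left q hq.1, ?_⟩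
    have := F.vec_conj k⁻¹ q hq.1
    rw [map_inv, Subgroup.coe_inv, inv_inv] at this
    rw [this]; exact hk _ hq.2
  have := (Commute.conj_iff (k : G)).2 (E_central F h hq' ha)
  rwa [show (k : G) * ((k : G)⁻¹ * q * (k : G)) * (k : G)⁻¹ = q by group] at this

/-- commutators over two lines are central -/
theorem comm_or_z (h : Hyp z Q) (B : Base F x0) {x y : G} (hx : Sing F x) (hy : Sing F y)
    (hxy : F.vec x ≠ F.vec y) (pxy : pol (F.vec x) (F.vec y) = 0) {w a : V} (pxw : pol (F.vec x) w = 0)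
    (pya : pol (F.vec y) a = 0) (h2 : pol (F.vec x) a = 0) (h3 : pol w (F.vec y) = 0) (h4 : pol w a = 0)
    {c l : Subgroup.centralizer ({z} : Set G)} (hc : InQ z Q x c) (hπc : F.π c = Tg (F.vec x) w)
    (hl : InQ z Q y l) (hπl : F.π l = Tg (F.vec y) a) :
    (l : G) * c = (c : G) * l ∨ (l : G) * c = z * ((c : G) * l) := by
  have cly : Commute y (c : G) := comm_fix F h B hx hc hy.mem pxy (by
    rw [hπc, Tg_act hx.ne hx.q pxw, tV, pol_comm' _ w, h3, pol_comm' _ (F.vec x), pxy]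
    simp only [zero_smul, add_zero])
  have clx : Commute x (l : G) := comm_fix F h B hy hl hx.mem (by rw [pol_comm', pxy]) (by
    rw [hπl, Tg_act hy.ne hy.q pya, tV, h2, pxy]; simp only [zero_smul, add_zero])
  set d := (l : G) * c * (l : G)⁻¹ * (c : G)⁻¹ with hd
  have hdx : InQ z Q x d := (hc.conj' clx.symm).mul h hc.inv
  have hdy : InQ z Q y d := by
    rw [hd, show (l : G) * c * (l : G)⁻¹ * (c : G)⁻¹ = (l : G) * ((c : G) * (l : G)⁻¹ * (c : G)⁻¹) by group]
    exact hl.mul h (hl.inv.conj' cly.symm)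
  have hdQ : d ∈ Q := (F.π_ker (l * c * l⁻¹ * c⁻¹)).1 (by
    rw [map_mul, map_mul, map_mul, map_inv, map_inv, hπl, hπc,
      (Tg_comm hx.ne hx.q pxw hy.ne hy.q pya pxy h2 h3 h4).eq, mul_inv_cancel_right, mul_inv_cancel])
  have h0 : F.vec d = 0 := by
    rcases sect_vec F h B hx hdQ hdx with e | e
    · exact e
    rcases sect_vec F h B hy hdQ hdy with e' | e'
    · exact e'
    · exact absurd (e.symm.trans e') hxy
  have k : (l : G) * c = d * ((c : G) * l) := by rw [hd]; group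
  rcases (F.vec_zero d hdQ).1 h0 with e | e <;> rw [e] at k
  · left; rwa [one_mul] at k
  · exact Or.inr k

/-- one of the two parameters gives commuting elements -/
theorem family (h : Hyp z Q) (B : Base F x0) :
    ∃ (x y : G) (c l : Subgroup.centralizer ({z} : Set G)) (a : V), (a = e3 ∨ a = f3) ∧ Sing F x ∧ Sing F y ∧
      F.vec x = eU 0 ∧ F.vec y = eU 1 ∧ InQ z Q x c ∧ F.π c = Tg (eU 0) (eU 2) ∧ InQ z Q y l ∧
      F.π l = Tg (eU 1) a ∧ Commute (c : G) l := by
  obtain ⟨h1, h2, -, -⟩ := eU_facts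
  obtain ⟨x, hx, xv⟩ := exists_sing F (h1 0).1 (h1 0).2.1
  obtain ⟨y, hy, yv⟩ := exists_sing F (h1 1).1 (h1 1).2.1
  obtain ⟨w, hw, wv⟩ := exists_sing F (h1 2).1 (h1 2).2.1
  have hpl : pol (eU 1) e3 = 0 ∧ pol (eU 1) f3 = 0 ∧ pol (eU 0) e3 = 0 ∧ pol (eU 0) f3 = 0 ∧ pol (eU 2) e3 = 0 ∧
      pol (eU 2) f3 = 0 ∧ qm n0 = 1 ∧ e3 + f3 = n0 ∧ pol (eU 0) n0 = 0 ∧ pol (eU 1) n0 = 0 ∧ pol (eU 2) n0 = 0 ∧
      eU 0 + eU 2 ≠ eU 1 := by decide +kernel
  obtain ⟨p1, p2', p3, p4, p5, p6, qn, hsum, n0', n1', n2', hs⟩ := hpl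
  obtain ⟨c, hc, hπc⟩ := exists_over F h B hx (a := eU 2) (by rw [xv]; exact (h2 0 2).1)
  obtain ⟨l, hl, hπl⟩ := exists_over F h B hy (a := e3) (by rw [yv]; exact p1)
  obtain ⟨l', hl', hπl'⟩ := exists_over F h B hy (a := f3) (by rw [yv]; exact p2')
  rw [xv] at hπc; rw [yv] at hπl hπl'
  have ne01 : F.vec x ≠ F.vec y := by rw [xv, yv]; exact fun e => absurd ((h2 0 1).2.2.2 e) (by decide)
  have p01 : pol (F.vec x) (F.vec y) = 0 := by rw [xv, yv]; exact (h2 0 1).1
  rcases comm_or_z F h B hx hy ne01 p01 (w := eU 2) (a := e3) (by rw [xv]; exact (h2 0 2).1)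
      (by rw [yv]; exact p1) (by rw [xv]; exact p3) (by rw [yv]; exact (h2 2 1).1) p5 hc (by rw [xv]; exact hπc)
      hl (by rw [yv]; exact hπl) with e | e
  · exact ⟨x, y, c, l, e3, Or.inl rfl, hx, hy, xv, yv, hc, hπc, hl, hπl, e.symm⟩
  rcases comm_or_z F h B hx hy ne01 p01 (w := eU 2) (a := f3) (by rw [xv]; exact (h2 0 2).1)
      (by rw [yv]; exact p2') (by rw [xv]; exact p4) (by rw [yv]; exact (h2 2 1).1) p6 hc (by rw [xv]; exact hπc)
      hl' (by rw [yv]; exact hπl') with e' | e'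
  · exact ⟨x, y, c, l', f3, Or.inr rfl, hx, hy, xv, yv, hc, hπc, hl', hπl', e'.symm⟩
  exfalso
  have ne : ∀ i j : Fin 4, i ≠ j → eU i ≠ eU j := fun i j hij e => hij ((h2 i j).2.2.2 e)
  have k := comm_two F h B hx hy hw ne01 (by rw [wv, yv]; exact ne 2 1 (by decide))
    (by rw [xv, wv]; exact ne 0 2 (by decide)) (by rw [xv, wv, yv]; exact hs) p01
    (by rw [wv, yv]; exact (h2 2 1).1) (by rw [xv, wv]; exact (h2 0 2).1) qn
    (by rw [xv]; exact n0') (by rw [yv]; exact n1') (by rw [wv]; exact n2') hc (by rw [xv, wv]; exact hπc)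
    (l := l * l') (hl.mul h hl') (by rw [map_mul, hπl, hπl', Tg_add (h1 1).1 (h1 1).2.1 p1 p2', hsum, yv])
  have cz : ∀ g : Subgroup.centralizer ({z} : Set G), Commute z (g : G) := fun g => (mem_C.1 g.2).symm
  have : ((l : G) * l') * c = (c : G) * ((l : G) * l') := by
    calc ((l : G) * l') * c = (l : G) * ((l' : G) * c) := mul_assoc _ _ _
      _ = (l : G) * z * ((c : G) * l') := by rw [e', mul_assoc]
      _ = z * ((l : G) * c) * l' := by rw [← (cz l).eq]; group
      _ = z * z * ((c : G) * ((l : G) * l')) := by rw [e]; group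
      _ = _ := by rw [zz h, one_mul]
  refine z_ne h (mul_eq_right.1 (k.symm.trans ?_))
  exact this

omit F

/-- the reflection exchanging the last point with its partner -/
noncomputable def sig : OG := OOmega.rf QF n0

theorem sig_act (v : V) : sig • v = v + pol n0 v • n0 := rf_act (by decide +kernel) v

theorem sig_norm (g : Ga) : sig * (g : OG) * sig⁻¹ ∈ Ga := by
  have hidx : Ga.index = 2 := by
    have := Subgroup.card_mul_index Ga
    rw [card_Ga, card_OG] at this
    omega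
  exact (Subgroup.normal_of_index_eq_two hidx).conj_mem g g.2 sig

/-- conjugation of the image by the reflection -/
noncomputable def sigHom : Ga →* Ga where
  toFun g := ⟨sig * (g : OG) * sig⁻¹, sig_norm g⟩
  map_one' := Subtype.ext (by show sig * ((1 : Ga) : OG) * sig⁻¹ = 1; rw [Subgroup.coe_one, mul_one, mul_inv_cancel])
  map_mul' a b := Subtype.ext (by
    show sig * ((a : OG) * b) * sig⁻¹ = sig * (a : OG) * sig⁻¹ * (sig * (b : OG) * sig⁻¹); group)

/-- the frame moved by the reflection -/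
noncomputable def flipFrame (F : Frame z Q) : Frame z Q where
  vec a := sig • F.vec a
  π := sigHom.comp F.π
  vec_mul a ha b hb := by rw [F.vec_mul a ha b hb, osmul_add]
  vec_surj v := by
    obtain ⟨a, ha, e⟩ := F.vec_surj (sig⁻¹ • v)
    exact ⟨a, ha, by rw [e, smul_inv_smul]⟩
  vec_zero a ha := by
    rw [← F.vec_zero a ha]
    exact ⟨fun e => MulAction.injective sig (e.trans (osmul_zero sig).symm), fun e => by rw [e, osmul_zero]⟩
  sq_iff a ha := by rw [osmul_qm]; exact F.sq_iff a ha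
  sq_or := F.sq_or
  comm_iff a ha b hb := by rw [osmul_pol]; exact F.comm_iff a ha b hb
  comm_or := F.comm_or
  vec_conj c a ha := by
    rw [F.vec_conj c a ha]
    show _ = (sig * (F.π c : OG) * sig⁻¹) • sig • F.vec a
    rw [mul_smul, mul_smul, inv_smul_smul]; rfl
  π_surj g := by
    have hm : sig⁻¹ * (g : OG) * sig ∈ Ga := by
      have hidx : Ga.index = 2 := by
        have := Subgroup.card_mul_index Ga
        rw [card_Ga, card_OG] at this
        omega
      simpa using (Subgroup.normal_of_index_eq_two hidx).conj_mem g g.2 sig⁻¹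
    obtain ⟨c, hc⟩ := F.π_surj ⟨_, hm⟩
    refine ⟨c, Subtype.ext ?_⟩
    show sig * (F.π c : OG) * sig⁻¹ = (g : OG)
    rw [hc]; group
  π_ker c := by
    rw [← F.π_ker c]
    show sigHom (F.π c) = 1 ↔ _
    rw [Subtype.ext_iff]
    show sig * (F.π c : OG) * sig⁻¹ = 1 ↔ _
    rw [conj_eq_one_iff, OneMemClass.coe_eq_one]

/-- frames with commuting elements over the two opposite lines -/
def Good (F : Frame z Q) : Prop :=
  ∃ c l : Subgroup.centralizer ({z} : Set G), (c : G) ∈ Asub F ∧ (l : G) ∈ Asub F ∧ F.π c = Tp 1 ∧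
    F.π l = Tp 4 ∧ Commute (c : G) l

theorem exists_good (h : Hyp z Q) : ∃ (F : Frame z Q) (x : G), Base F x ∧ Good F := by
  obtain ⟨F⟩ := exists_frame h
  obtain ⟨x0, B⟩ := exists_base F h
  obtain ⟨x, y, c, l, a, ha, hx, hy, xv, yv, hc, hπc, hl, hπl, hcl⟩ := family F h B
  have hU := fun i => (eU_facts.1 i).2.2.1
  have finish : ∀ (F' : Frame z Q), Base F' x0 → Sing F' x → Sing F' y → F'.vec x = eU 0 → F'.vec y = eU 1 →
      F'.π c = Tp 1 → F'.π l = Tp 4 → ∃ (F : Frame z Q) (x : G), Base F x ∧ Good F := fun F' B' hx' hy' xv' yv' e e' =>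
    ⟨F', x0, B', c, l, mem_A F' h B' hx' (by rw [xv']; exact hU 0) hc (hU 2) (by rw [xv']; exact e),
      mem_A F' h B' hy' (by rw [yv']; exact hU 1) hl (hU 3) (by rw [yv']; exact e'), e, e', hcl⟩
  rcases ha with rfl | rfl
  · exact finish F B hx hy xv yv hπc (by rw [hπl, Tp, ← eU_facts.2.2.2]; rfl)
  have hs : sig • e0 = e0 ∧ sig • eU 0 = eU 0 ∧ sig • eU 1 = eU 1 ∧ sig • eU 2 = eU 2 ∧ sig • f3 = eU 3 := by
    simp only [sig_act]; decide +kernel
  obtain ⟨s0, s1, s2, s3, s4⟩ := hs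
  have mv : ∀ {y : G}, Sing F y → Sing (flipFrame F) y := fun {y} hy =>
    ⟨hy.mem, fun e => hy.ne (MulAction.injective sig (e.trans (osmul_zero sig).symm)),
      (osmul_qm sig _).trans hy.q⟩
  have conjT : ∀ {u b : V}, u ≠ 0 → qm u = 0 → pol u b = 0 → sigHom (Tg u b) = Tg (sig • u) (sig • b) :=
    fun {u b} hu hq hp => Ga_ext fun v => by
      show (sig * (Tg u b : OG) * sig⁻¹) • v = _
      rw [Tg_act (fun e => hu (MulAction.injective sig (e.trans (osmul_zero sig).symm)))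
        ((osmul_qm sig u).trans hq) ((osmul_pol sig u b).trans hp), mul_smul, mul_smul, coe_smul,
        Tg_act hu hq hp]
      simp only [tV, osmul_add, osmul_smul, smul_inv_smul]
      rw [← osmul_pol sig (sig⁻¹ • v) b, ← osmul_pol sig (sig⁻¹ • v) u, smul_inv_smul, osmul_qm]
  refine finish (flipFrame F) ⟨B.mem, by show sig • F.vec x0 = e0; rw [B.vec, s0], B.sq, B.ne1, B.nez, B.conj⟩
    (mv hx) (mv hy) (by show sig • F.vec x = _; rw [xv, s1]) (by show sig • F.vec y = _; rw [yv, s2]) ?_ ?_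
  · show sigHom (F.π c) = _
    rw [hπc, conjT (eU_facts.1 0).1 (eU_facts.1 0).2.1 (eU_facts.2.1 0 2).1, s1, s3]; rfl
  · show sigHom (F.π l) = _
    rw [hπl, conjT (eU_facts.1 1).1 (eU_facts.1 1).2.1 (by decide +kernel), s2, s4]; rfl

end Cfsg.Agent.Spor.CoT.Octad
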